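import Cfsg.Agent.CITGroups.Basic
import Cfsg.Agent.SelfCentNonCyclic.Forward
import Cfsg.Agent.Linear.Basic

/-!
# The fields of the groups `PSL₂` with two-group involution centralisers

For odd `q` the torus of order divisible by four modulo the centre is a two-group, so `q - 1` or
`q + 1` is a power of two.
-/

set_option autoImplicit false
set_option linter.style.haveILetI false
set_option linter.unusedVariables false

namespace CfsgLib.CITGroups

/-- `PSL₂` over a field of `q ≥ 4` elements has two-group involution centralisers only for `q = 9`,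
powers of two, and Fermat or Mersenne primes. -/
theorem card_of_isCIT {F : Type*} [Field F] [Fintype F] (h4 : 4 ≤ Fintype.card F)
    (h : IsCIT (Matrix.ProjectiveSpecialLinearGroup (Fin 2) F)) :
    Fintype.card F = 9 ∨ (∃ n : ℕ, Fintype.card F = 2 ^ n) ∨
      ((Fintype.card F).Prime ∧
        ∃ k : ℕ, Fintype.card F = 2 ^ k + 1 ∨ Fintype.card F + 1 = 2 ^ k) := by
  haveI : Fact (Nat.Prime 2) := ⟨Nat.prime_two⟩
  obtain ⟨p, hp⟩ := CharP.exists F
  obtain ⟨f, hpp, hf⟩ := FiniteField.card F p
  rcases hpp.eq_two_or_odd' with rfl | hodd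
  · exact Or.inr (Or.inl ⟨f, hf⟩)
  have hqo : Odd (Fintype.card F) := hf ▸ hodd.pow
  have h2 : 2 ∣ Nat.card (Matrix.ProjectiveSpecialLinearGroup (Fin 2) F) := by
    have hc := CfsgLib.Linear.card_PSL_two_odd (F := F) hqo
    obtain ⟨a, ha⟩ := hqo
    rw [ha, show (2 * a + 1) ^ 2 - 1 = 4 * (a * (a + 1)) by
      rw [show (2 * a + 1) ^ 2 = 4 * (a * (a + 1)) + 1 by ring, Nat.add_sub_cancel]] at hc
    exact ⟨(2 * a + 1) * (a * (a + 1)), by linarith⟩
  obtain ⟨x, hx⟩ := exists_prime_orderOf_dvd_card' 2 h2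
  rcases CfsgLib.SelfCentNonCyclic.card_field hqo x hx (h x hx) with h9 | ⟨hprime, k, hk⟩
  · exact Or.inl h9
  · refine Or.inr (Or.inr ⟨hprime, k, hk.imp_right fun e => ?_⟩)
    have := Nat.one_le_two_pow (n := k)
    omega

end CfsgLib.CITGroups
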