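import Cfsg.Agent.CITGroups.Basic
import Cfsg.Agent.SEmbed.Cosets
import Cfsg.Agent.Characters.FrobeniusKernel
import Cfsg.Agent.CharactersDeep.ZassenhausClassification
import Cfsg.Agent.S0346

/-!
# A strongly embedded Frobenius group with central involutions

If the normaliser of `H` is strongly embedded, all its involutions are central in `H`, and it is
a Frobenius group with kernel `H`, then the simple group is a Zassenhaus group on its cosets.
-/

set_option autoImplicit false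
set_option linter.style.haveILetI false
set_option linter.unusedSectionVars false

namespace CfsgLib.CITGroups

open Subgroup MulAction

universe u

variable {G : Type u} [Group G]

/-- The hypotheses on the kernel `H`. -/
structure SEKernel (H : Subgroup G) : Prop where
  proper : normalizer (H : Set G) ≠ ⊤
  exists_invol : ∃ z ∈ H, orderOf z = 2
  invol_mem : ∀ t ∈ normalizer (H : Set G), orderOf t = 2 → t ∈ H
  invol_central : ∀ t ∈ H, orderOf t = 2 → ∀ w ∈ H, Commute w t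
  ti : ∀ g : G, ∀ h ∈ H, h ≠ 1 → g * h * g⁻¹ ∈ H → g ∈ normalizer (H : Set G)
  frob : ∀ m ∈ normalizer (H : Set G), ∀ h ∈ H, h ≠ 1 → Commute m h → m ∈ H

variable [Finite G]

/-- An element of prime order dividing the order of a subgroup it normalises centralises a
nontrivial element of it. -/
theorem exists_commute_of_dvd {K : Subgroup G} {z : G} {p : ℕ} (hp : p.Prime) (hz : orderOf z = p)
    (hzK : z ∈ normalizer (K : Set G)) (hd : p ∣ Nat.card K) :
    ∃ k ∈ K, k ≠ 1 ∧ Commute z k := by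
  haveI := Fact.mk hp
  let c : Equiv.Perm K :=
    Equiv.ofBijective (fun x => ⟨z * x * z⁻¹, (mem_normalizer_iff.1 hzK x).1 x.2⟩)
      (Finite.injective_iff_bijective.1 fun x y h => by
        refine Subtype.ext ?_
        have : z * (x : G) * z⁻¹ = z * y * z⁻¹ := congrArg Subtype.val h
        exact mul_left_cancel (mul_right_cancel this))
  have hc : ∀ (n : ℕ) (x : K), (((c ^ n) x : K) : G) = z ^ n * x * (z ^ n)⁻¹ := by
    intro n
    induction n with
    | zero => intro x; simp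
    | succ n ih =>
      intro x
      rw [pow_succ', Equiv.Perm.mul_apply]
      show z * (((c ^ n) x : K) : G) * z⁻¹ = _
      rw [ih, pow_succ']
      group
  have hcp : c ^ p = 1 := Equiv.ext fun x => Subtype.ext (by
    rw [hc, ← hz, pow_orderOf_eq_one]; simp)
  have hP : IsPGroup p (zpowers c) := fun g => ⟨1, Subtype.ext (by
    obtain ⟨i, hi⟩ := g.2
    show ((g : Equiv.Perm K)) ^ p ^ 1 = 1
    rw [pow_one, ← show c ^ i = (g : Equiv.Perm K) from hi, ← zpow_natCast, ← zpow_mul, mul_comm,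
      zpow_mul, zpow_natCast, hcp, one_zpow])⟩
  obtain ⟨k, hk, hk1⟩ := hP.exists_fixed_point_of_prime_dvd_card_of_fixed_point K hd
    (a := (1 : K)) (by
      rintro ⟨g, hg⟩
      obtain ⟨i, rfl⟩ := hg
      show (c ^ i) (1 : K) = 1
      exact Equiv.Perm.zpow_apply_eq_self_of_apply_eq_self (Subtype.ext (by
        show z * ((1 : K) : G) * z⁻¹ = 1
        simp)) i)
  refine ⟨k, k.2, fun e => hk1 (Subtype.ext e.symm), mul_inv_eq_iff_eq_mul.1 ?_⟩
  exact congrArg Subtype.val (hk ⟨c, mem_zpowers c⟩)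

namespace SEKernel

variable {H : Subgroup G} (K : SEKernel H)
include K

local notation "M" => normalizer (H : Set G)
local notation "Ω" => G ⧸ normalizer (H : Set G)
local notation "α" => ((1 : G) : G ⧸ normalizer (H : Set G))

theorem even_card : Even (Nat.card M) := by
  obtain ⟨z, hz, hzo⟩ := K.exists_invol
  rw [even_iff_two_dvd, ← hzo, ← Nat.card_zpowers]
  exact card_dvd_of_le (zpowers_le.2 (le_normalizer hz))

theorem stronglyEmbedded : Cfsg.IsStronglyEmbedded M := by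
  refine (CfsgLib.Small.isStronglyEmbedded_iff K.proper K.even_card).2 fun t ht ho g hg => ?_
  have ho' : orderOf (g⁻¹ * t * g) = 2 := by
    simpa using (CfsgLib.Small.orderOf_conj_eq g⁻¹ t).trans ho
  refine inv_mem_iff.1 (K.ti g⁻¹ t (K.invol_mem t ht ho) (fun e => ?_) ?_)
  · rw [e, orderOf_one] at ho
    omega
  · simpa using K.invol_mem _ hg ho'

theorem uf : CfsgLib.SEmbed.UniqueFix G Ω := CfsgLib.SEmbed.uniqueFix K.stronglyEmbedded

theorem smul_base_iff {g : G} : g • α = α ↔ g ∈ M := CfsgLib.SEmbed.smul_one_eq_iff _ g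

theorem smul_base_inv_iff {g : G} {x : G} :
    g • (x : Ω) = (x : Ω) ↔ x⁻¹ * g * x ∈ M := CfsgLib.SEmbed.smul_mk_eq_iff _ g x

/-- The kernel meets a two point stabiliser trivially. -/
theorem eq_one_of_fix {h : G} (hh : h ∈ H) {β : Ω} (hβ : β ≠ α) (hfix : h • β = β) : h = 1 := by
  by_contra h1
  obtain ⟨p, hp, hd⟩ := Nat.exists_prime_and_dvd (fun e => h1 (orderOf_eq_one_iff.1 e))
  obtain ⟨g, rfl⟩ := QuotientGroup.mk_surjective β
  set h₁ := h ^ (orderOf h / p) with hh₁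
  have ho : orderOf h₁ = p := orderOf_pow_orderOf_div (orderOf_pos h).ne' hd
  have h₁H : h₁ ∈ H := pow_mem hh _
  have h₁1 : h₁ ≠ 1 := fun e => hp.one_lt.ne' (by rw [← ho, e, orderOf_one])
  have hm : g⁻¹ * h₁ * g ∈ M := by
    have : g⁻¹ * h₁ * g = (g⁻¹ * h * g) ^ (orderOf h / p) := by
      rw [show g⁻¹ * h * g = g⁻¹ * h * g⁻¹⁻¹ by rw [inv_inv], conj_pow, inv_inv]
    rw [this]
    exact pow_mem (K.smul_base_inv_iff.1 hfix) _
  by_cases hmH : g⁻¹ * h₁ * g ∈ H
  · refine hβ ?_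
    rw [← CfsgLib.SEmbed.smul_mk_one _ g]
    exact K.smul_base_iff.2 (inv_mem_iff.1 (K.ti g⁻¹ h₁ h₁H h₁1 (by simpa using hmH)))
  · have hmo : orderOf (g⁻¹ * h₁ * g) = p := by
      simpa using (CfsgLib.Small.orderOf_conj_eq g⁻¹ h₁).trans ho
    obtain ⟨k, hk, hk1, hkc⟩ := exists_commute_of_dvd hp hmo hm
      (by rw [← ho]; exact Subgroup.orderOf_dvd_natCard _ h₁H)
    exact hmH (K.frob _ hm k hk hk1 hkc)

/-- A conjugate of an element of the kernel fixing two points is trivial. -/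
theorem eq_one_of_conj_fix {d g : G} (hd : g⁻¹ * d * g ∈ H) {β : Ω} (hβ : β ≠ (g : Ω))
    (hfix : d • β = β) : d = 1 := by
  have h1 := K.eq_one_of_fix hd (β := g⁻¹ • β)
    (fun e => hβ (by rw [← CfsgLib.SEmbed.smul_mk_one _ g, ← e, smul_inv_smul]))
    (by rw [mul_smul, mul_smul, smul_inv_smul, hfix])
  exact conj_eq_one_iff.1 (show g⁻¹ * d * g⁻¹⁻¹ = 1 by rwa [inv_inv])

/-- An element fixing a point and commuting with a nontrivial element fixing that point and
conjugate into the kernel is conjugate into the kernel. -/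
theorem conj_mem_of_commute {x g : G} {t : G} (hx : x • (g : Ω) = (g : Ω)) (ht : g⁻¹ * t * g ∈ H)
    (ht1 : t ≠ 1) (hc : Commute x t) : g⁻¹ * x * g ∈ H := by
  refine K.frob _ (K.smul_base_inv_iff.1 hx) _ ht (fun e => ht1 ?_) ?_
  · exact conj_eq_one_iff.1 (show g⁻¹ * t * g⁻¹⁻¹ = 1 by rwa [inv_inv])
  · show g⁻¹ * x * g * (g⁻¹ * t * g) = g⁻¹ * t * g * (g⁻¹ * x * g)
    calc g⁻¹ * x * g * (g⁻¹ * t * g) = g⁻¹ * (x * t) * g := by group
      _ = g⁻¹ * (t * x) * g := by rw [hc.eq]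
      _ = _ := by group

/-- An involution fixing a point is conjugate into the kernel. -/
theorem invol_conj_mem {t g : G} (ht : orderOf t = 2) (hx : t • (g : Ω) = (g : Ω)) :
    g⁻¹ * t * g ∈ H :=
  K.invol_mem _ (K.smul_base_inv_iff.1 hx)
    (by simpa using (CfsgLib.Small.orderOf_conj_eq g⁻¹ t).trans ht)

/-- An interchanging involution centralises no nontrivial element fixing both points. -/
theorem eq_one_of_commute_swap {γ δ : Ω} (hne : γ ≠ δ) {v d : G} (hv : orderOf v = 2)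
    (hvγ : v • γ = δ) (hd : d • γ = γ) (hc : Commute d v) : d = 1 := by
  obtain ⟨x, hx⟩ := K.uf.exists_fix v hv
  obtain ⟨g, rfl⟩ := QuotientGroup.mk_surjective x
  have hdx : d • (g : Ω) = (g : Ω) := CfsgLib.SEmbed.commute_fix K.uf hv hc hx
  have hvH := K.invol_conj_mem hv hx
  have hv1 : v ≠ 1 := fun e => by rw [e, orderOf_one] at hv; omega
  exact K.eq_one_of_conj_fix (K.conj_mem_of_commute hdx hvH hv1 hc)
    (β := γ) (fun e => hne (by rw [← hvγ, e, hx])) hd

/-- An interchanging involution inverts the two point stabiliser. -/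
theorem inverts {γ δ : Ω} (hne : γ ≠ δ) {v : G} (hv : orderOf v = 2) (hvγ : v • γ = δ)
    {d : G} (hdγ : d • γ = γ) (hdδ : d • δ = δ) : v * d * v = d⁻¹ := by
  have hvv := CfsgLib.Small.mul_self_of_orderOf_two hv
  refine inverts_of_fixedPointFree (H := CfsgLib.SEmbed.pairStab G γ δ) hvv (fun x hx => ?_)
    (fun x hx hc => K.eq_one_of_commute_swap hne hv hvγ
      (CfsgLib.SEmbed.mem_pairStab.1 hx).1 hc.symm) d ⟨hdγ, hdδ⟩
  obtain ⟨hx1, hx2⟩ := CfsgLib.SEmbed.mem_pairStab.1 hx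
  refine CfsgLib.SEmbed.mem_pairStab.2 ⟨?_, ?_⟩
  · rw [mul_smul, mul_smul, hvγ, hx2, ← hvγ, smul_smul v v, hvv, one_smul]
  · rw [mul_smul, mul_smul, ← hvγ, smul_smul v v, hvv, one_smul, hx1, hvγ]

/-- The two point stabilisers are commutative. -/
theorem pairStab_comm {γ δ : Ω} (hne : γ ≠ δ) :
    ∀ a ∈ CfsgLib.SEmbed.pairStab G γ δ, ∀ b ∈ CfsgLib.SEmbed.pairStab G γ δ, a * b = b * a := by
  obtain ⟨z, hz, hzo⟩ := K.exists_invol
  obtain ⟨t, ht, htδ⟩ := K.uf.exists_inv δ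
  obtain ⟨s, hs, hsγ⟩ := K.uf.exists_inv γ
  obtain ⟨v, ⟨hv, hvγ⟩, -⟩ := CfsgLib.SEmbed.exists_interchange K.uf hs ht hsγ htδ hne
  exact commute_of_inverted (CfsgLib.Small.mul_self_of_orderOf_two hv) fun a ha =>
    K.inverts hne hv hvγ (CfsgLib.SEmbed.mem_pairStab.1 ha).1 (CfsgLib.SEmbed.mem_pairStab.1 ha).2

theorem mem_kernel_conj {m h : G} (hm : m ∈ M) (hh : h ∈ H) : m * h * m⁻¹ ∈ H :=
  (mem_normalizer_iff.1 hm h).1 hh

/-- The two point stabiliser is regular on the involutions fixing a point. -/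
theorem card_pairStab {β : Ω} (hβ : β ≠ α) :
    Nat.card (CfsgLib.SEmbed.pairStab G α β) =
      Nat.card (CfsgLib.SEmbed.invMap (G := G) α α) := by
  obtain ⟨z, hz, hzo⟩ := K.exists_invol
  have hzI : z ∈ CfsgLib.SEmbed.invMap (G := G) α α := ⟨hzo, K.smul_base_iff.2 (le_normalizer hz)⟩
  refine Nat.card_eq_of_bijective (fun d => (⟨(d : G) * z * (d : G)⁻¹, ?_, ?_⟩ :
    CfsgLib.SEmbed.invMap (G := G) α α)) ⟨?_, ?_⟩
  · rw [CfsgLib.Small.orderOf_conj_eq, hzo]
  · exact K.smul_base_iff.2 (le_normalizer (K.mem_kernel_conj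
      (K.smul_base_iff.1 (CfsgLib.SEmbed.mem_pairStab.1 d.2).1) hz))
  · intro a b hab
    have hab' : (a : G) * z * (a : G)⁻¹ = b * z * (b : G)⁻¹ := congrArg Subtype.val hab
    have hmem : (b : G)⁻¹ * a ∈ CfsgLib.SEmbed.pairStab G α β := mul_mem (inv_mem b.2) a.2
    obtain ⟨h1, h2⟩ := CfsgLib.SEmbed.mem_pairStab.1 hmem
    have hc : Commute ((b : G)⁻¹ * a) z := mul_inv_eq_iff_eq_mul.1 (by
      calc (b : G)⁻¹ * a * z * ((b : G)⁻¹ * a)⁻¹ = (b : G)⁻¹ * ((a : G) * z * (a : G)⁻¹) * b := by group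
        _ = z := by rw [hab']; group)
    have hz1 : z ≠ 1 := fun e => by rw [e, orderOf_one] at hzo; omega
    have hH := K.frob _ (K.smul_base_iff.1 h1) z hz hz1 hc
    exact Subtype.ext (inv_mul_eq_one.1 (K.eq_one_of_fix hH hβ h2)).symm
  · intro t
    obtain ⟨d, hd, hdt⟩ := CfsgLib.SEmbed.exists_conj_fix K.uf hβ.symm hzI t.2
    exact ⟨⟨d, hd⟩, Subtype.ext hdt⟩

/-- `M = H D`. -/
theorem exists_decomp {β : Ω} (hβ : β ≠ α) {m : G} (hm : m ∈ M) :
    ∃ h ∈ H, ∃ d ∈ CfsgLib.SEmbed.pairStab G α β, h * d = m := by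
  obtain ⟨z, hz, hzo⟩ := K.exists_invol
  have hzI : z ∈ CfsgLib.SEmbed.invMap (G := G) α α := ⟨hzo, K.smul_base_iff.2 (le_normalizer hz)⟩
  have hI : m * z * m⁻¹ ∈ CfsgLib.SEmbed.invMap (G := G) α α :=
    ⟨by rw [CfsgLib.Small.orderOf_conj_eq, hzo],
      K.smul_base_iff.2 (le_normalizer (K.mem_kernel_conj hm hz))⟩
  obtain ⟨d, hd, hdm⟩ := CfsgLib.SEmbed.exists_conj_fix K.uf hβ.symm hzI hI
  have hdM : d ∈ M := K.smul_base_iff.1 (CfsgLib.SEmbed.mem_pairStab.1 hd).1
  have hz1 : z ≠ 1 := fun e => by rw [e, orderOf_one] at hzo; omega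
  have hk : d⁻¹ * m ∈ H := K.frob _ (mul_mem (inv_mem hdM) hm) z hz hz1 (mul_inv_eq_iff_eq_mul.1 (by
    calc d⁻¹ * m * z * (d⁻¹ * m)⁻¹ = d⁻¹ * (m * z * m⁻¹) * d := by group
      _ = z := by rw [← hdm]; group))
  exact ⟨d * (d⁻¹ * m) * d⁻¹, K.mem_kernel_conj hdM hk, d, hd, by group⟩

theorem exists_ne_base : ∃ β : Ω, β ≠ α := by
  haveI := CfsgLib.SEmbed.nontrivial_cosets K.stronglyEmbedded
  exact exists_ne _

/-- Two point stabilisers are nontrivial. -/
theorem exists_pairStab_ne_one [IsSimpleGroup G] {β : Ω} (hβ : β ≠ α) :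
    ∃ d ∈ CfsgLib.SEmbed.pairStab G α β, d ≠ 1 := by
  by_contra hcon
  push Not at hcon
  have h1 : Nat.card (CfsgLib.SEmbed.invMap (G := G) α α) = 1 := by
    rw [← K.card_pairStab hβ, Subgroup.card_eq_one, eq_bot_iff]
    exact fun d hd => mem_bot.2 (hcon d hd)
  obtain ⟨N, hN, hcompl, -⟩ := CfsgLib.Characters.exists_frobenius_kernel M fun g hg x hx hgx => by
    have hne : ((g⁻¹ : G) : Ω) ≠ α := fun e => hg (by simpa using QuotientGroup.eq.1 e)
    have hc : Nat.card (CfsgLib.SEmbed.pairStab G α ((g⁻¹ : G) : Ω)) = 1 :=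
      (K.card_pairStab hne).trans h1
    have hmem : x ∈ CfsgLib.SEmbed.pairStab G α ((g⁻¹ : G) : Ω) :=
      CfsgLib.SEmbed.mem_pairStab.2 ⟨K.smul_base_iff.2 hx, K.smul_base_inv_iff.2 (by simpa using hgx)⟩
    rw [Subgroup.card_eq_one.1 hc] at hmem
    exact mem_bot.1 hmem
  rcases hN.eq_bot_or_eq_top with rfl | rfl
  · exact K.proper (isComplement'_bot_left.1 hcompl)
  · obtain ⟨z, hz, hzo⟩ := K.exists_invol
    have hM : M = ⊥ := isComplement'_top_left.1 hcompl
    have hzM : z ∈ M := le_normalizer hz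
    rw [hM, mem_bot] at hzM
    rw [hzM, orderOf_one] at hzo
    omega

/-- A conjugate by the kernel of the two point stabiliser of `α` and `β` fixes a given point. -/
theorem exists_conj_pairStab [IsSimpleGroup G] {β γ : Ω} (hβ : β ≠ α) (hγ : γ ≠ α) :
    ∃ h ∈ H, ∀ d ∈ CfsgLib.SEmbed.pairStab G α β, d • (h • γ) = h • γ := by
  classical
  set D := CfsgLib.SEmbed.pairStab G α β with hD
  have hDM : ∀ d ∈ D, d ∈ M := fun d hd => K.smul_base_iff.1 (CfsgLib.SEmbed.mem_pairStab.1 hd).1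
  have hHD : ∀ d ∈ D, d ∈ H → d = 1 := fun d hd hdH =>
    K.eq_one_of_fix hdH hβ (CfsgLib.SEmbed.mem_pairStab.1 hd).2
  have hcomm : ∀ a ∈ D, ∀ b ∈ D, a * b = b * a := K.pairStab_comm hβ.symm
  -- the conjugates of `D` cover `M` outside `H`
  let f : H × {d : D // d ≠ 1} → {m : M // (m : G) ∉ H} := fun p =>
    ⟨⟨(p.1 : G) * (p.2.1 : G) * (p.1 : G)⁻¹,
      mul_mem (mul_mem (le_normalizer p.1.2) (hDM _ p.2.1.2)) (inv_mem (le_normalizer p.1.2))⟩,
      fun e => p.2.2 (Subtype.ext (hHD _ p.2.1.2 (by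
        simpa [mul_assoc] using mul_mem (mul_mem (inv_mem p.1.2) e) p.1.2)))⟩
  have hf : Function.Injective f := by
    rintro ⟨h, d⟩ ⟨h', d'⟩ he
    have he' : (h : G) * (d.1 : G) * (h : G)⁻¹ = h' * (d'.1 : G) * (h' : G)⁻¹ :=
      congrArg (fun m : {m : M // (m : G) ∉ H} => ((m.1 : M) : G)) he
    set k := (h' : G)⁻¹ * h with hk
    have hkd : k * (d.1 : G) * k⁻¹ = (d'.1 : G) := by
      calc k * (d.1 : G) * k⁻¹ = (h' : G)⁻¹ * ((h : G) * (d.1 : G) * (h : G)⁻¹) * h' := by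
            rw [hk]; group
        _ = (d'.1 : G) := by rw [he']; group
    have hkH : k ∈ H := mul_mem (inv_mem h'.2) h.2
    have hc1 : k * (d.1 : G) * k⁻¹ * (d.1 : G)⁻¹ = 1 := by
      refine hHD _ (by rw [hkd]; exact mul_mem d'.1.2 (inv_mem d.1.2)) ?_
      rw [show k * (d.1 : G) * k⁻¹ * (d.1 : G)⁻¹ = k * ((d.1 : G) * k⁻¹ * (d.1 : G)⁻¹) by group]
      exact mul_mem hkH (K.mem_kernel_conj (hDM _ d.1.2) (inv_mem hkH))
    have hkc : Commute (d.1 : G) k :=
      (mul_inv_eq_iff_eq_mul.1 (mul_inv_eq_one.1 hc1)).symm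
    have hk1 : k = 1 := by_contra fun hne =>
      d.2 (Subtype.ext (hHD _ d.1.2 (K.frob _ (hDM _ d.1.2) k hkH hne hkc)))
    rw [hk1] at hkd
    simp only [one_mul, inv_one, mul_one] at hkd
    exact Prod.ext (Subtype.ext (inv_mul_eq_one.1 hk1).symm) (Subtype.ext (Subtype.ext hkd))
  have hMcard : Nat.card M = Nat.card H * Nat.card D := by
    rw [← Nat.card_prod]
    refine (Nat.card_eq_of_bijective (fun p => (⟨(p.1 : G) * p.2,
      mul_mem (le_normalizer p.1.2) (hDM _ p.2.2)⟩ : M)) ⟨?_, ?_⟩).symm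
    · rintro ⟨a, b⟩ ⟨a', b'⟩ h
      have h' : (a : G) * b = a' * b' := congrArg Subtype.val h
      have h1 : (a' : G)⁻¹ * a = 1 := hHD _ (by
        rw [show (a' : G)⁻¹ * a = b' * (b : G)⁻¹ by
          calc (a' : G)⁻¹ * a = (a' : G)⁻¹ * ((a : G) * b) * (b : G)⁻¹ := by group
            _ = b' * (b : G)⁻¹ := by rw [h']; group]
        exact mul_mem b'.2 (inv_mem b.2)) (mul_mem (inv_mem a'.2) a.2)
      have ha : a = a' := Subtype.ext (inv_mul_eq_one.1 h1).symm
      subst ha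
      exact Prod.ext rfl (Subtype.ext (mul_left_cancel h'))
    · rintro ⟨m, hm⟩
      obtain ⟨h, hh, d, hd, rfl⟩ := K.exists_decomp hβ hm
      exact ⟨(⟨h, hh⟩, ⟨d, hd⟩), rfl⟩
  haveI := Fintype.ofFinite M
  haveI := Fintype.ofFinite D
  haveI := Fintype.ofFinite H
  have hbij : Function.Bijective f := by
    refine (Nat.bijective_iff_injective_and_card f).2 ⟨hf, ?_⟩
    have e1 : Nat.card {d : D // d ≠ 1} = Nat.card D - 1 := by
      rw [Nat.card_eq_fintype_card, Fintype.card_subtype_compl, Fintype.card_subtype_eq,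
        Nat.card_eq_fintype_card]
    have e2 : Nat.card {m : M // (m : G) ∉ H} = Nat.card M - Nat.card H := by
      rw [Nat.card_eq_fintype_card, Fintype.card_subtype_compl, ← Nat.card_eq_fintype_card,
        ← Nat.card_eq_fintype_card]
      congr 1
      exact Nat.card_congr
        { toFun := fun m => ⟨(m.1 : G), m.2⟩
          invFun := fun h => ⟨⟨h, le_normalizer h.2⟩, h.2⟩
          left_inv := fun _ => rfl
          right_inv := fun _ => rfl }
    rw [Nat.card_prod, e1, e2, hMcard, Nat.mul_sub, mul_one]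
  -- apply it to an element fixing `γ`
  obtain ⟨e, he, he1⟩ := K.exists_pairStab_ne_one hγ
  obtain ⟨heα, heγ⟩ := CfsgLib.SEmbed.mem_pairStab.1 he
  obtain ⟨⟨h, d⟩, hfd⟩ := hbij.2 ⟨⟨e, K.smul_base_iff.1 heα⟩,
    fun eH => he1 (K.eq_one_of_fix eH hγ heγ)⟩
  have hed : (h : G) * (d.1 : G) * (h : G)⁻¹ = e :=
    congrArg (fun m : {m : M // (m : G) ∉ H} => ((m.1 : M) : G)) hfd
  set D' := CfsgLib.SEmbed.pairStab G α γ with hD'
  have hle : D'.map (MulAut.conj (h : G)⁻¹).toMonoidHom ≤ D := by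
    rintro _ ⟨e', he', rfl⟩
    simp only [MulEquiv.coe_toMonoidHom, MulAut.conj_apply, inv_inv]
    set m := (h : G)⁻¹ * e' * h with hm
    have hmM : m ∈ M := mul_mem (mul_mem (inv_mem (le_normalizer h.2))
      (K.smul_base_iff.1 (CfsgLib.SEmbed.mem_pairStab.1 he').1)) (le_normalizer h.2)
    have hmd : m * (d.1 : G) = (d.1 : G) * m := by
      have hee := K.pairStab_comm hγ.symm e' he' e he
      calc m * (d.1 : G) = (h : G)⁻¹ * (e' * e) * h := by rw [hm, ← hed]; group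
        _ = (h : G)⁻¹ * (e * e') * h := by rw [hee]
        _ = (d.1 : G) * m := by rw [hm, ← hed]; group
    obtain ⟨k, hk, d₂, hd₂, hkd₂⟩ := K.exists_decomp hβ hmM
    have hkc : Commute (d.1 : G) k := by
      have : k = m * d₂⁻¹ := by rw [← hkd₂]; group
      rw [this]
      exact (show Commute (d.1 : G) m from hmd.symm).mul_right
        (show Commute (d.1 : G) d₂⁻¹ from hcomm _ d.1.2 _ (inv_mem hd₂))
    have hk1 : k = 1 := by_contra fun hne =>
      d.2 (Subtype.ext (hHD _ d.1.2 (K.frob _ (hDM _ d.1.2) k hk hne hkc)))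
    rw [← hkd₂, hk1, one_mul]
    exact hd₂
  have heq := eq_of_le_of_card_ge hle (by
    rw [card_map_of_injective (MulAut.conj (h : G)⁻¹).injective, hD', hD, K.card_pairStab hβ,
      K.card_pairStab hγ])
  refine ⟨(h : G)⁻¹, inv_mem h.2, fun x hx => ?_⟩
  obtain ⟨e', he', rfl⟩ := heq.ge hx
  simp only [MulEquiv.coe_toMonoidHom, MulAut.conj_apply, inv_inv]
  rw [mul_smul, mul_smul, smul_inv_smul, (CfsgLib.SEmbed.mem_pairStab.1 he').2]

/-- Only two points are fixed by a two point stabiliser. -/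
theorem eq_of_fixed [IsSimpleGroup G] {β γ : Ω} (hβ : β ≠ α) (hγ : γ ≠ α)
    (hfix : ∀ d ∈ CfsgLib.SEmbed.pairStab G α β, d • γ = γ) : γ = β := by
  classical
  haveI : Fintype Ω := Fintype.ofFinite _
  set D := CfsgLib.SEmbed.pairStab G α β with hD
  have hDM : ∀ d ∈ D, d ∈ M := fun d hd => K.smul_base_iff.1 (CfsgLib.SEmbed.mem_pairStab.1 hd).1
  have hHD : ∀ d ∈ D, d ∈ H → d = 1 := fun d hd hdH =>
    K.eq_one_of_fix hdH hβ (CfsgLib.SEmbed.mem_pairStab.1 hd).2
  have hcomm : ∀ a ∈ D, ∀ b ∈ D, a * b = b * a := K.pairStab_comm hβ.symm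
  obtain ⟨d₀, hd₀, hd₀1⟩ := K.exists_pairStab_ne_one hβ
  obtain ⟨z, hz, hzo⟩ := K.exists_invol
  obtain ⟨t, ht, htβ⟩ := K.uf.exists_inv β
  obtain ⟨v, ⟨hv, hvα⟩, -⟩ := CfsgLib.SEmbed.exists_interchange K.uf hzo ht
    (K.smul_base_iff.2 (le_normalizer hz)) htβ hβ.symm
  have hvv := CfsgLib.Small.mul_self_of_orderOf_two hv
  have hvinv : ∀ d ∈ D, v * d * v = d⁻¹ := fun d hd =>
    K.inverts hβ.symm hv hvα (CfsgLib.SEmbed.mem_pairStab.1 hd).1 (CfsgLib.SEmbed.mem_pairStab.1 hd).2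
  set C := centralizer (D : Set G) with hC
  have hDC : D ≤ C := fun d hd => mem_centralizer_iff.2 fun e he => hcomm e he d hd
  -- `v` inverts `C`
  have hvC : ∀ c ∈ C, v * c * v = c⁻¹ := by
    refine inverts_of_fixedPointFree hvv (fun c hc => mem_centralizer_iff.2 fun d hd => ?_) ?_
    · have := mem_centralizer_iff.1 hc d⁻¹ (inv_mem hd)
      calc d * (v * c * v) = v * ((v * d * v) * c) * v := by
            simp only [mul_assoc]
            rw [← mul_assoc v v, hvv, one_mul]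
        _ = v * (c * (v * d * v)) * v := by rw [hvinv d hd, this]
        _ = v * c * v * d := by
            simp only [mul_assoc]
            rw [hvv, mul_one]
    · intro c hc hvc
      by_contra hc1
      obtain ⟨x, hx⟩ := K.uf.exists_fix v hv
      obtain ⟨g, rfl⟩ := QuotientGroup.mk_surjective x
      have hcx : c • (g : Ω) = (g : Ω) := CfsgLib.SEmbed.commute_fix K.uf hv hvc.symm hx
      have hv1 : v ≠ 1 := fun e => by rw [e, orderOf_one] at hv; omega
      have hcH : g⁻¹ * c * g ∈ H :=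
        K.conj_mem_of_commute hcx (K.invol_conj_mem hv hx) hv1 hvc.symm
      have hdc : Commute d₀ c := mem_centralizer_iff.1 hc d₀ hd₀
      have hcg1 : g⁻¹ * c * g ≠ 1 := fun e =>
        hc1 (conj_eq_one_iff.1 (show g⁻¹ * c * g⁻¹⁻¹ = 1 by rwa [inv_inv]))
      have hd₀g : d₀ • (g : Ω) = (g : Ω) := by
        refine K.smul_base_inv_iff.2 (K.ti _ _ hcH hcg1 ?_)
        rw [show g⁻¹ * d₀ * g * (g⁻¹ * c * g) * (g⁻¹ * d₀ * g)⁻¹ = g⁻¹ * (d₀ * c * d₀⁻¹) * g by group,
          hdc.eq, mul_inv_cancel_right]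
        exact hcH
      refine hd₀1 (K.eq_one_of_conj_fix (K.conj_mem_of_commute hd₀g hcH hc1 hdc) (β := (1 : G))
        (fun e => ?_) (CfsgLib.SEmbed.mem_pairStab.1 hd₀).1)
      refine hβ ?_
      rw [← hvα, e, hx]
  -- the fixed points
  let F : Finset Ω := Finset.univ.filter fun w => ∀ d ∈ D, d • w = w
  have hmemF : ∀ w, w ∈ F ↔ ∀ d ∈ D, d • w = w := fun w => by simp [F]
  have hαF : α ∈ F := (hmemF α).2 fun d hd => (CfsgLib.SEmbed.mem_pairStab.1 hd).1
  have hpair : ∀ w ∈ F, w ≠ α → CfsgLib.SEmbed.pairStab G α w = D := by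
    intro w hw hwα
    refine (eq_of_le_of_card_ge (fun d hd => CfsgLib.SEmbed.mem_pairStab.2
      ⟨(CfsgLib.SEmbed.mem_pairStab.1 hd).1, (hmemF w).1 hw d hd⟩) ?_).symm
    rw [K.card_pairStab hβ, K.card_pairStab hwα]
  have hCF : ∀ c ∈ C, ∀ w ∈ F, c • w ∈ F := fun c hc w hw => (hmemF _).2 fun d hd => by
    rw [smul_smul, mem_centralizer_iff.1 hc d hd, mul_smul, (hmemF w).1 hw d hd]
  have hCM : ∀ c ∈ C, c ∈ M → c ∈ D := by
    intro c hc hcM
    obtain ⟨k, hk, d, hd, rfl⟩ := K.exists_decomp hβ hcM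
    have hkc : Commute d₀ k := by
      have h1 : Commute d₀ (k * d) := mem_centralizer_iff.1 hc d₀ hd₀
      have h2 : Commute d₀ d⁻¹ := hcomm _ hd₀ _ (inv_mem hd)
      simpa using h1.mul_right h2
    have hk1 : k = 1 := by_contra fun hne =>
      hd₀1 (hHD _ hd₀ (K.frob _ (hDM _ hd₀) k hk hne hkc))
    rw [hk1, one_mul]
    exact hd
  have hCfix : ∀ w ∈ F, ∀ c ∈ C, c • w = w → c ∈ D := by
    intro w hw c hc hcw
    obtain ⟨g, rfl⟩ := QuotientGroup.mk_surjective w
    by_cases hwα : (g : Ω) = α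
    · exact hCM c hc (K.smul_base_iff.1 (by rwa [hwα] at hcw))
    have hne : g⁻¹ • α ≠ α := fun e => hwα (by
      rw [← CfsgLib.SEmbed.smul_mk_one _ g]
      conv_lhs => rw [← e]
      rw [smul_inv_smul])
    set D' := CfsgLib.SEmbed.pairStab G α (g⁻¹ • α) with hD'
    have hin : ∀ d ∈ D, g⁻¹ * d * g ∈ D' := fun d hd => CfsgLib.SEmbed.mem_pairStab.2
      ⟨K.smul_base_iff.2 (K.smul_base_inv_iff.1 ((hmemF _).1 hw d hd)),
        by rw [mul_smul, mul_smul, smul_inv_smul, (CfsgLib.SEmbed.mem_pairStab.1 hd).1]⟩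
    have hD'comm := K.pairStab_comm hne.symm
    have hc' : g⁻¹ * c * g ∈ M := K.smul_base_inv_iff.1 hcw
    obtain ⟨k, hk, e, he, hke⟩ := K.exists_decomp hne hc'
    have hkc : Commute (g⁻¹ * d₀ * g) k := by
      have h1 : Commute (g⁻¹ * d₀ * g) (g⁻¹ * c * g) := by
        have := mem_centralizer_iff.1 hc d₀ hd₀
        show g⁻¹ * d₀ * g * (g⁻¹ * c * g) = g⁻¹ * c * g * (g⁻¹ * d₀ * g)
        calc g⁻¹ * d₀ * g * (g⁻¹ * c * g) = g⁻¹ * (d₀ * c) * g := by group
          _ = g⁻¹ * (c * d₀) * g := by rw [this]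
          _ = _ := by group
      have h2 : Commute (g⁻¹ * d₀ * g) e⁻¹ := hD'comm _ (hin _ hd₀) _ (inv_mem he)
      have := h1.mul_right h2
      rwa [← hke, mul_inv_cancel_right] at this
    have hk1 : k = 1 := by
      by_contra hne'
      have h3 := K.frob _ (K.smul_base_iff.1 (CfsgLib.SEmbed.mem_pairStab.1 (hin _ hd₀)).1) k hk
        hne' hkc
      exact hd₀1 (conj_eq_one_iff.1 (show g⁻¹ * d₀ * g⁻¹⁻¹ = 1 by
        rw [inv_inv]
        exact K.eq_one_of_fix h3 hne (CfsgLib.SEmbed.mem_pairStab.1 (hin _ hd₀)).2))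
    rw [hk1, one_mul] at hke
    have hcα : c • α = α := by
      have := (CfsgLib.SEmbed.mem_pairStab.1 he).2
      rw [hke, mul_smul, mul_smul, smul_inv_smul, smul_left_cancel_iff] at this
      exact this
    exact hCM c hc (K.smul_base_iff.1 hcα)
  -- the orbits of `C` on the fixed points
  haveI := Fintype.ofFinite C
  let O : Ω → Finset Ω := fun w => Finset.univ.image fun c : C => (c : G) • w
  have hOF : ∀ w ∈ F, O w ⊆ F := by
    intro w hw x hx
    simp only [O, Finset.mem_image, Finset.mem_univ, true_and] at hx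
    obtain ⟨c, rfl⟩ := hx
    exact hCF c c.2 w hw
  have hDpos : 0 < Nat.card D := Nat.card_pos
  have hOcard : ∀ w ∈ F, (O w).card * Nat.card D = Nat.card C := by
    intro w hw
    rw [@Nat.card_eq_fintype_card C _, ← Finset.card_univ,
      Finset.card_eq_sum_card_fiberwise (s := (Finset.univ : Finset C))
        (f := fun c : C => (c : G) • w) (t := O w)
        (fun c _ => Finset.mem_image_of_mem _ (Finset.mem_univ c))]
    rw [Finset.sum_const_nat (m := Nat.card D) fun x hx => ?_]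
    simp only [O, Finset.mem_image, Finset.mem_univ, true_and] at hx
    obtain ⟨c₀, rfl⟩ := hx
    rw [← Fintype.card_subtype, ← Nat.card_eq_fintype_card]
    refine (Nat.card_eq_of_bijective (fun d : D => (⟨c₀ * ⟨d, hDC d.2⟩, by
      show ((c₀ : G) * d) • w = (c₀ : G) • w
      rw [mul_smul, (hmemF w).1 hw d d.2]⟩ : {c : C // (c : G) • w = (c₀ : G) • w})) ⟨?_, ?_⟩).symm
    · intro a b h
      have := congrArg (fun c : {c : C // (c : G) • w = (c₀ : G) • w} => ((c.1 : C) : G)) h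
      exact Subtype.ext (mul_left_cancel (this : (c₀ : G) * a = (c₀ : G) * b))
    · rintro ⟨c, hc⟩
      refine ⟨⟨(c₀ : G)⁻¹ * c, hCfix w hw _ (mul_mem (inv_mem c₀.2) c.2)
        (by rw [mul_smul, hc, inv_smul_smul])⟩, Subtype.ext (Subtype.ext ?_)⟩
      show (c₀ : G) * ((c₀ : G)⁻¹ * c) = c
      rw [mul_inv_cancel_left]
  -- counting the interchanging involutions
  have hcount : (F.card - 1) * Nat.card D ≤ Nat.card C := by
    let f : (Σ w : {w : Ω // w ∈ F ∧ w ≠ α}, CfsgLib.SEmbed.invMap (G := G) α w.1) → C :=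
      fun p => ⟨v * p.2.1, mem_centralizer_iff.2 fun d hd => by
        have hu := CfsgLib.Small.mul_self_of_orderOf_two p.2.2.1
        have h1 : p.2.1 * d⁻¹ * p.2.1 = d := by
          have := K.inverts p.1.2.2.symm p.2.2.1 p.2.2.2
            (d := d⁻¹) (by rw [inv_smul_eq_iff, (CfsgLib.SEmbed.mem_pairStab.1 hd).1])
            (by rw [inv_smul_eq_iff, (hmemF _).1 p.1.2.1 d hd])
          rwa [inv_inv] at this
        have h2 := hvinv d⁻¹ (inv_mem hd)
        rw [inv_inv] at h2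
        calc d * (v * p.2.1) = (v * d⁻¹ * v) * (v * p.2.1) := by rw [h2]
          _ = v * (d⁻¹ * p.2.1) := by
              simp only [mul_assoc]; rw [← mul_assoc v v, hvv, one_mul]
          _ = v * (p.2.1 * (p.2.1 * d⁻¹ * p.2.1)) := by
              simp only [← mul_assoc]; rw [mul_assoc v p.2.1 p.2.1, hu, mul_one]
          _ = v * p.2.1 * d := by rw [h1, ← mul_assoc]⟩
    have hfinj : Function.Injective f := by
      rintro ⟨⟨w, hw⟩, u, hu⟩ ⟨⟨w', hw'⟩, u', hu'⟩ h
      have h' : u = u' := mul_left_cancel (congrArg Subtype.val h : v * u = v * u')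
      subst h'
      have : w = w' := hu.2.symm.trans hu'.2
      subst this
      rfl
    have := Nat.card_le_card_of_injective f hfinj
    rw [Nat.card_sigma, Finset.sum_congr rfl (g := fun _ => Nat.card D) fun w _ => by
      rw [CfsgLib.SEmbed.card_invMap_eq K.uf w.2.2.symm, ← K.card_pairStab hβ]] at this
    rw [Finset.sum_const, Finset.card_univ, smul_eq_mul] at this
    refine le_trans (le_of_eq ?_) this
    congr 1
    rw [← Finset.card_erase_of_mem hαF, Fintype.card_subtype]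
    congr 1
    ext w
    simp [and_comm]
  have hn : ∀ w ∈ F, (O w).card = (O α).card := fun w hw =>
    Nat.eq_of_mul_eq_mul_right hDpos ((hOcard w hw).trans (hOcard α hαF).symm)
  have hself : ∀ w, w ∈ O w := fun w =>
    Finset.mem_image.2 ⟨1, Finset.mem_univ _, one_smul _ _⟩
  have hlow : F.card - 1 ≤ (O α).card :=
    Nat.le_of_mul_le_mul_right (hcount.trans (hOcard α hαF).ge) hDpos
  have hnot : (O α).card ≠ F.card := by
    intro he
    have hOeq : O α = F := Finset.eq_of_subset_of_card_le (hOF α hαF) he.ge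
    have hβF : β ∈ F := (hmemF β).2 fun d hd => (CfsgLib.SEmbed.mem_pairStab.1 hd).2
    rw [← hOeq] at hβF
    obtain ⟨⟨c, hc⟩, -, hcβ⟩ := Finset.mem_image.1 hβF
    set s := c⁻¹ * v with hs
    have hcv : c⁻¹ = v * c * v := (hvC c hc).symm
    have hs2 : s * s = 1 := by
      rw [hs]
      calc c⁻¹ * v * (c⁻¹ * v) = c⁻¹ * (v * c⁻¹ * v) := by group
        _ = c⁻¹ * c := by rw [hvC _ (inv_mem hc), inv_inv]
        _ = 1 := inv_mul_cancel c
    have hs1 : s ≠ 1 := fun e => by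
      have hcv' : c = v := inv_mul_eq_one.1 e
      have h1 := hvC v (hcv' ▸ hc)
      have h2 := hvinv d₀ hd₀
      have h3 : Commute d₀ v := mem_centralizer_iff.1 (hcv' ▸ hc) d₀ hd₀
      rw [← h3.eq, mul_assoc, hvv, mul_one] at h2
      exact hd₀1 (K.eq_one_of_commute_swap hβ.symm hv hvα
        (CfsgLib.SEmbed.mem_pairStab.1 hd₀).1 h3)
    have hsM : s ∈ M := K.smul_base_iff.1 (by
      rw [hs, mul_smul, hvα, ← hcβ, inv_smul_smul])
    have hsH := K.invol_mem s hsM (orderOf_two_of_mul_self hs2 hs1)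
    have hsd : s * d₀ * s⁻¹ = d₀⁻¹ := by
      rw [hs, mul_inv_rev, inv_inv, inv_eq_of_mul_eq_one_right hvv]
      calc c⁻¹ * v * d₀ * (v * c) = c⁻¹ * (v * d₀ * v) * c := by group
        _ = c⁻¹ * (d₀⁻¹ * c) := by rw [hvinv d₀ hd₀, mul_assoc]
        _ = d₀⁻¹ := by rw [mem_centralizer_iff.1 hc d₀⁻¹ (inv_mem hd₀), inv_mul_cancel_left]
    have hsq : d₀⁻¹ * d₀⁻¹ = 1 := by
      refine hHD _ (mul_mem (inv_mem hd₀) (inv_mem hd₀)) ?_
      nth_rewrite 1 [← hsd]
      rw [show s * d₀ * s⁻¹ * d₀⁻¹ = s * (d₀ * s⁻¹ * d₀⁻¹) by group]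
      exact mul_mem hsH (K.mem_kernel_conj (hDM _ hd₀) (inv_mem hsH))
    rw [← mul_inv_rev, inv_eq_one] at hsq
    have h2 : orderOf d₀ = 2 := orderOf_two_of_mul_self hsq hd₀1
    exact hβ (K.uf.unique d₀ h2 β α (CfsgLib.SEmbed.mem_pairStab.1 hd₀).2
      (CfsgLib.SEmbed.mem_pairStab.1 hd₀).1)
  obtain ⟨w₀, hw₀, hw₀O⟩ : ∃ w ∈ F, w ∉ O α := by
    by_contra h
    push Not at h
    exact hnot (le_antisymm (Finset.card_le_card (hOF α hαF)) (Finset.card_le_card h))
  have hdisj : Disjoint (O α) (O w₀) := by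
    refine Finset.disjoint_left.2 fun x hx hx' => hw₀O ?_
    simp only [O, Finset.mem_image, Finset.mem_univ, true_and] at hx hx' ⊢
    obtain ⟨a, ha⟩ := hx
    obtain ⟨b, hb⟩ := hx'
    exact ⟨b⁻¹ * a, by rw [Subgroup.coe_mul, Subgroup.coe_inv, mul_smul, ha, ← hb, inv_smul_smul]⟩
  have hsum : (O α).card + (O w₀).card ≤ F.card := by
    rw [← Finset.card_union_of_disjoint hdisj]
    exact Finset.card_le_card (Finset.union_subset (hOF α hαF) (hOF w₀ hw₀))
  have hpos : 0 < (O α).card := Finset.card_pos.2 ⟨α, hself α⟩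
  rw [hn w₀ hw₀] at hsum
  by_contra hne
  have h3 : ({α, β, γ} : Finset Ω) ⊆ F := by
    intro w hw
    simp only [Finset.mem_insert, Finset.mem_singleton] at hw
    rcases hw with rfl | rfl | rfl
    · exact hαF
    · exact (hmemF _).2 fun d hd => (CfsgLib.SEmbed.mem_pairStab.1 hd).2
    · exact (hmemF _).2 hfix
  have h4 : ({α, β, γ} : Finset Ω).card = 3 :=
    Finset.card_eq_three.2 ⟨α, β, γ, hβ.symm, hγ.symm, Ne.symm hne, rfl⟩
  have := Finset.card_le_card h3
  omega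

/-- The kernel is regular on the other points. -/
theorem exists_smul_eq [IsSimpleGroup G] {β γ : Ω} (hβ : β ≠ α) (hγ : γ ≠ α) :
    ∃ h ∈ H, h • β = γ := by
  obtain ⟨h, hh, hfix⟩ := K.exists_conj_pairStab hβ hγ
  have hne : h • γ ≠ α := fun e => hγ ((MulAction.injective h) (e.trans
    (K.smul_base_iff.2 (le_normalizer hh)).symm))
  exact ⟨h⁻¹, inv_mem hh, by rw [← K.eq_of_fixed hβ hne hfix, inv_smul_smul]⟩

theorem isZassenhaus [IsSimpleGroup G] : Cfsg.IsZassenhausGroup G Ω := by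
  obtain ⟨β, hβ⟩ := K.exists_ne_base
  obtain ⟨d₀, hd₀, hd₀1⟩ := K.exists_pairStab_ne_one hβ
  obtain ⟨hdα, hdβ⟩ := CfsgLib.SEmbed.mem_pairStab.1 hd₀
  have h2pre : IsMultiplyPretransitive G Ω 2 := by
    rw [is_two_pretransitive_iff]
    intro a b c d hab hcd
    obtain ⟨g, hga⟩ := MulAction.exists_smul_eq G a α
    obtain ⟨g', hgc⟩ := MulAction.exists_smul_eq G c α
    obtain ⟨m, hm, hmb⟩ := K.exists_smul_eq hβ (γ := g • b)
      (fun e => hab ((MulAction.injective g) (hga.trans e.symm)))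
    obtain ⟨m', hm', hmd⟩ := K.exists_smul_eq hβ (γ := g' • d)
      (fun e => hcd ((MulAction.injective g') (hgc.trans e.symm)))
    refine ⟨g'⁻¹ * (m' * m⁻¹) * g, ?_, ?_⟩ <;> simp only [mul_smul]
    · rw [hga, K.smul_base_iff.2 (inv_mem (le_normalizer hm)),
        K.smul_base_iff.2 (le_normalizer hm'), ← hgc, inv_smul_smul]
    · rw [← hmb, inv_smul_smul, hmd, inv_smul_smul]
  have hfaith : FaithfulSMul G Ω := ⟨fun {a b} h => by
    have hk : a⁻¹ * b ∈ (M).normalCore := by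
      rw [normalCore_eq_ker, MonoidHom.mem_ker]
      refine Equiv.Perm.ext fun w => ?_
      show (a⁻¹ * b) • w = w
      rw [mul_smul, ← h w, inv_smul_smul]
    rcases (normalCore_normal M).eq_bot_or_eq_top with h' | h'
    · rw [h', mem_bot, inv_mul_eq_one] at hk; exact hk
    · exact absurd (top_le_iff.1 (h' ▸ normalCore_le M)) K.proper⟩
  refine ⟨hfaith, h2pre, fun g a b c hab hbc hac ha hb hc => ?_,
    ⟨d₀, hd₀1, α, β, hβ.symm, hdα, hdβ⟩, fun N hN hNt => ?_⟩
  · obtain ⟨k, hka, hkb⟩ := is_two_pretransitive_iff.1 h2pre hab (Ne.symm hβ)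
    set x := k * g * k⁻¹ with hx
    have hxα : x • α = α := by rw [hx, ← hka, mul_smul, mul_smul, inv_smul_smul, ha]
    have hxβ : x • β = β := by rw [hx, ← hkb, mul_smul, mul_smul, inv_smul_smul, hb]
    have hxc : x • (k • c) = k • c := by rw [hx, mul_smul, mul_smul, inv_smul_smul, hc]
    have hkcα : k • c ≠ α := fun e => hac ((MulAction.injective k) (hka.trans e.symm))
    obtain ⟨h, hh, hhβ⟩ := K.exists_smul_eq hβ hkcα
    have hhM : h • α = α := K.smul_base_iff.2 (le_normalizer hh)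
    have hcomm : x * h * x⁻¹ * h⁻¹ = 1 := by
      refine K.eq_one_of_fix (mul_mem (K.mem_kernel_conj (K.smul_base_iff.1 hxα) hh) (inv_mem hh))
        hkcα ?_
      rw [mul_smul, mul_smul, mul_smul,
        show h⁻¹ • (k • c) = β by rw [← hhβ, inv_smul_smul],
        show x⁻¹ • β = β by rw [inv_smul_eq_iff, hxβ], hhβ, hxc]
    have hxh : Commute x h := mul_inv_eq_iff_eq_mul.1 (mul_inv_eq_one.1 hcomm)
    have hh1 : h ≠ 1 := fun e => hbc ((MulAction.injective k) (by
      show k • b = k • c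
      rw [hkb, ← hhβ, e, one_smul]))
    have := K.eq_one_of_fix (K.frob _ (K.smul_base_iff.1 hxα) h hh hh1 hxh) hβ hxβ
    exact conj_eq_one_iff.1 this
  · rcases hN.eq_bot_or_eq_top with rfl | rfl
    · exfalso
      obtain ⟨n, hn⟩ := hNt.exists_smul_eq α β
      have : (n : G) = 1 := mem_bot.1 n.2
      exact hβ (by rw [← hn, Subgroup.smul_def, this, one_smul])
    · refine ⟨α, fun e => hd₀1 ?_⟩
      exact congrArg Subtype.val (mem_bot.1 (e.le (show (⟨d₀, mem_top d₀⟩ : (⊤ : Subgroup G)) ∈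
        stabilizer (⊤ : Subgroup G) α from mem_stabilizer_iff.2 hdα)))

/-- The group is `PSL₂` or a Suzuki group. -/
theorem classification [IsSimpleGroup G] :
    (∃ (F : Type) (_ : Field F) (_ : Fintype F),
        Nonempty (G ≃* Matrix.ProjectiveSpecialLinearGroup (Fin 2) F)) ∨ Cfsg.IsSuzuki G := by
  haveI : Fintype G := Fintype.ofFinite G
  haveI : Fintype Ω := Fintype.ofFinite _
  exact CfsgLib.CharactersDeep.ZassenhausClassification.classification K.isZassenhaus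

/-- The kernel has prime power order. -/
theorem isPrimePow_card [IsSimpleGroup G] : IsPrimePow (Nat.card H) := by
  classical
  haveI : Fintype Ω := Fintype.ofFinite _
  obtain ⟨β, hβ⟩ := K.exists_ne_base
  have := Cfsg.Agent.S0346.result K.isZassenhaus
  convert this using 1
  rw [← Finset.card_univ, ← Finset.card_erase_of_mem (Finset.mem_univ α), ← Fintype.card_coe,
    ← Nat.card_eq_fintype_card]
  refine Nat.card_eq_of_bijective (fun h => (⟨(h : G) • β, Finset.mem_erase.2 ⟨fun e => hβ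
    ((MulAction.injective (h : G)) (e.trans (K.smul_base_iff.2 (le_normalizer h.2)).symm)),
    Finset.mem_univ _⟩⟩ : (Finset.univ.erase α : Finset Ω))) ⟨?_, ?_⟩
  · intro a b h
    have h' : (a : G) • β = (b : G) • β := congrArg Subtype.val h
    refine Subtype.ext (inv_mul_eq_one.1 (K.eq_one_of_fix (mul_mem (inv_mem b.2) a.2) hβ ?_)).symm
    rw [mul_smul, h', inv_smul_smul]
  · rintro ⟨γ, hγ⟩
    obtain ⟨h, hh, rfl⟩ := K.exists_smul_eq hβ (Finset.mem_erase.1 hγ).1
    exact ⟨⟨h, hh⟩, rfl⟩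

end SEKernel

end CfsgLib.CITGroups
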