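import Mathlib

/-!
# The arithmetic of the counting of involutions for the configuration of `PSL₃` over four elements
-/

set_option autoImplicit false

namespace CfsgLib.CITGroups.Numerology

/-- The contribution available to the orders below the largest one. -/
def restBound (M K : ℕ) : ℕ :=
  ∑ k ∈ (Finset.range (M + 1)).filter (fun k => 3 ≤ k ∧ k < K ∧ M % k = 0), (k - 1) / 2

/-- The test of a candidate. -/
def ok (M e K : ℕ) : Bool :=
  !(decide (3 ≤ K) && (K - 1) % e == 0 && M * K % 15 == 0 &&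
      decide (123 + 64 * ((K - 1) / e) ≤ M * K) && (M * K - 123 - 64 * ((K - 1) / e)) % 64 == 0 &&
      decide ((M * K - 123 - 64 * ((K - 1) / e)) / 64 ≤ restBound M K)) || M * K == 315

/-- The test of all candidates with given `M` and `e`. -/
def okRow (M e : ℕ) : Bool :=
  (List.range 82).all fun d =>
    (64 * M / e - 1) % d != 0 || (ok M e d && ok M e ((64 * M / e - 1) / d))

theorem rows : ((List.range 101).all fun i => [2, 4, 8].all fun e => okRow (2 * i + 1) e) = true := by
  decide +kernel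

theorem ok_of_dvd {M e K : ℕ} (hM : Odd M) (hMle : M ≤ 201) (he : e = 2 ∨ e = 4 ∨ e = 8)
    (hK : K ∣ 64 * M / e - 1) : ok M e K = true := by
  obtain ⟨i, rfl⟩ := hM
  have hrow : okRow (2 * i + 1) e = true := by
    have h := List.all_eq_true.1 rows i (List.mem_range.2 (by omega))
    refine List.all_eq_true.1 h e ?_
    rcases he with rfl | rfl | rfl <;> simp
  set N := 64 * (2 * i + 1) / e - 1 with hN
  have hNle : N ≤ 6432 := by rcases he with rfl | rfl | rfl <;> omega
  have hNpos : 0 < N := by rcases he with rfl | rfl | rfl <;> omega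
  obtain ⟨q, hq⟩ := hK
  have key : ∀ d, d < 82 → d ∣ N → ok (2 * i + 1) e d = true ∧ ok (2 * i + 1) e (N / d) = true := by
    intro d hd hdN
    have h := List.all_eq_true.1 hrow d (List.mem_range.2 hd)
    simp only [← hN, Nat.mod_eq_zero_of_dvd hdN, bne_self_eq_false, Bool.false_or,
      Bool.and_eq_true] at h
    exact h
  rcases Nat.lt_or_ge K 82 with h | h
  · exact (key K h ⟨q, hq⟩).1
  · have hq82 : q < 82 := by nlinarith
    have hq0 : 0 < q := Nat.pos_of_ne_zero fun e0 => by simp [e0] at hq; omega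
    have h2 := (key q hq82 ⟨K, by rw [hq, mul_comm]⟩).2
    rwa [hq, Nat.mul_div_cancel _ hq0] at h2

theorem three_pow_gt : ∀ i : ℕ, 32 * (i + 6) + 41 < 3 ^ (i + 5)
  | 0 => by norm_num
  | i + 1 => by
    have := three_pow_gt i
    rw [show i + 1 + 5 = (i + 5) + 1 by ring, pow_succ]
    omega

/-- The only solution. -/
theorem eq_315 {n : ℕ} (D : Finset ℕ) (e : ℕ → ℕ) (h15 : 15 ∣ n) (hodd : Odd n)
    (hk : ∀ k ∈ D, 3 ≤ k ∧ k ∣ n ∧ (e k = 2 ∨ e k = 4 ∨ e k = 8) ∧ e k ∣ k - 1 ∧
      ∃ q, q * (k * e k) = 64 * n ∧ q % k = 1)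
    (hco : (D : Set ℕ).Pairwise Nat.Coprime)
    (hsum : n = 123 + 64 * ∑ k ∈ D, (k - 1) / e k) : n = 315 := by
  rcases D.eq_empty_or_nonempty with rfl | hne
  · rw [Finset.sum_empty] at hsum
    omega
  obtain ⟨K, hKD, hmax⟩ := D.exists_max_image id hne
  obtain ⟨hK3, ⟨M, hM⟩, heK, hedvd, q, hq, hqK⟩ := hk K hKD
  have hD' : ∀ k ∈ D.erase K, 3 ≤ k ∧ k < K ∧ k ∣ n ∧ Nat.Coprime k K ∧
      (e k = 2 ∨ e k = 4 ∨ e k = 8) := by
    intro k hk'
    obtain ⟨hne', hkD⟩ := Finset.mem_erase.1 hk'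
    exact ⟨(hk k hkD).1, lt_of_le_of_ne (hmax k hkD) hne', (hk k hkD).2.1, hco hkD hKD hne',
      (hk k hkD).2.2.1⟩
  have hdM : ∀ k ∈ D.erase K, k ∣ M := fun k h => by
    obtain ⟨-, -, h1, h2, -⟩ := hD' k h
    rw [hM] at h1
    exact h2.dvd_of_dvd_mul_left h1
  have hM0 : 0 < M := Nat.pos_of_ne_zero fun e0 => by
    rw [hM, e0, mul_zero] at hodd; exact absurd hodd (by decide)
  have hMle : M ≤ 201 := by
    have hprod : (∏ k ∈ D.erase K, k) ∣ M :=
      Finset.prod_dvd_of_isRelPrime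
        (fun a ha b hb hab => Nat.coprime_iff_isRelPrime.1
          (hco (Finset.mem_of_mem_erase ha) (Finset.mem_of_mem_erase hb) hab))
        hdM
    have h3 : 3 ^ (D.card - 1) ≤ M := by
      rw [← Finset.card_erase_of_mem hKD]
      exact (Finset.pow_card_le_prod _ _ 3 fun k h => (hD' k h).1).trans (Nat.le_of_dvd hM0 hprod)
    have hle : ∑ k ∈ D, (k - 1) / e k ≤ D.card * ((K - 1) / 2) := by
      rw [← smul_eq_mul]
      refine Finset.sum_le_card_nsmul _ _ _ fun k h => ?_
      exact (Nat.div_le_div_left (by rcases (hk k h).2.2.1 with h | h | h <;> omega) (by norm_num)).trans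
        (Nat.div_le_div_right (Nat.sub_le_sub_right (hmax k h) 1))
    have hMK : M * K ≤ 123 + 32 * D.card * K := by
      rw [mul_comm M K, ← hM]
      have h2 : 2 * ((K - 1) / 2) ≤ K := by omega
      nlinarith
    have hMr : M ≤ 32 * D.card + 41 := by nlinarith
    rcases Nat.lt_or_ge D.card 6 with h | h
    · omega
    · obtain ⟨i, hi⟩ : ∃ i, D.card = i + 6 := ⟨D.card - 6, by omega⟩
      have := three_pow_gt i
      rw [hi, show i + 6 - 1 = i + 5 by omega] at h3
      omega
  have hMo : Odd M := (Nat.odd_mul.1 (hM ▸ hodd)).2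
  have hKN : K ∣ 64 * M / e K - 1 := by
    have hqe : q * e K = 64 * M :=
      Nat.eq_of_mul_eq_mul_left (show 0 < K by omega) (by rw [hM] at hq; linarith)
    rw [← hqe, Nat.mul_div_cancel _ (by rcases heK with h | h | h <;> omega)]
    exact ⟨q / K, by have := Nat.div_add_mod q K; omega⟩
  have h := ok_of_dvd hMo hMle heK hKN
  have hrest : ∑ k ∈ D.erase K, (k - 1) / e k ≤ restBound M K := by
    refine (Finset.sum_le_sum fun k hk' => ?_).trans
      (Finset.sum_le_sum_of_subset fun k hk' => Finset.mem_filter.2 ⟨Finset.mem_range.2 ?_,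
        (hD' k hk').1, (hD' k hk').2.1, Nat.mod_eq_zero_of_dvd (hdM k hk')⟩)
    · exact Nat.div_le_div_left (by rcases (hD' k hk').2.2.2.2 with h | h | h <;> omega) (by norm_num)
    · exact Nat.lt_succ_of_le (Nat.le_of_dvd hM0 (hdM k hk'))
  rw [← Finset.add_sum_erase D _ hKD] at hsum
  have hn : M * K = n := by rw [hM, mul_comm]
  have he0 : (K - 1) % e K = 0 := Nat.mod_eq_zero_of_dvd hedvd
  have h15' : M * K % 15 = 0 := hn ▸ Nat.mod_eq_zero_of_dvd h15
  simp only [ok, Bool.or_eq_true, beq_iff_eq, Bool.not_eq_true', hn] at h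
  rcases h with h | h
  · exfalso
    have hd : (decide (3 ≤ K) && (K - 1) % e K == 0 && n % 15 == 0 &&
      decide (123 + 64 * ((K - 1) / e K) ≤ n) && (n - 123 - 64 * ((K - 1) / e K)) % 64 == 0 &&
      decide ((n - 123 - 64 * ((K - 1) / e K)) / 64 ≤ restBound M K)) = true := by
      rw [hn] at h15'
      simp only [Bool.and_eq_true, beq_iff_eq, decide_eq_true_eq]
      omega
    rw [hd] at h
    exact absurd h (by decide)
  · exact h

end CfsgLib.CITGroups.Numerology
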