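import Cfsg.Agent.CITGroups.Defs
import Cfsg.Agent.CITGroups.Numerology

/-!
# Counting involutions: the configuration of `PSL₃` over four elements has order `20160`
-/

set_option autoImplicit false
set_option linter.style.haveILetI false
set_option linter.unusedSectionVars false

namespace CfsgLib.CITGroups

open Subgroup Finset

section General

/-- A group acting with one fixed point and semiregularly elsewhere. -/
theorem card_mod_eq_one {H X : Type*} [Group H] [Finite H] [MulAction H X] [Finite X] (x₀ : X)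
    (hfix : ∀ h : H, h • x₀ = x₀) (hfree : ∀ (h : H) (x : X), h • x = x → h = 1 ∨ x = x₀) :
    Nat.card X % Nat.card H = 1 % Nat.card H := by
  classical
  let Y : SubMulAction H X :=
    { carrier := {x | x ≠ x₀}
      smul_mem' := fun h x hx e => hx (by rw [← inv_smul_smul h x, e, hfix]) }
  haveI : Fintype (Quotient (MulAction.orbitRel H Y)) := Fintype.ofFinite _
  have hY : Nat.card Y = Fintype.card (Quotient (MulAction.orbitRel H Y)) * Nat.card H := by
    rw [Nat.card_congr (MulAction.selfEquivSigmaOrbitsQuotientStabilizer H Y), Nat.card_sigma,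
      Finset.sum_congr rfl fun ω _ => show _ = Nat.card H from ?_, Finset.sum_const,
      Finset.card_univ, smul_eq_mul]
    have hst : MulAction.stabilizer H ω.out = ⊥ := by
      refine (Subgroup.eq_bot_iff_forall _).2 fun h hh => ?_
      have h' : h • (ω.out : X) = (ω.out : X) := congrArg Subtype.val hh
      exact (hfree h _ h').resolve_right ω.out.2
    rw [hst]
    exact Nat.card_congr QuotientGroup.quotientBot.toEquiv
  have hX : Nat.card X = Nat.card Y + 1 := by
    have h := Set.ncard_add_ncard_compl ({x₀} : Set X)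
    rw [Set.ncard_singleton] at h
    have hy : Nat.card Y = ({x₀}ᶜ : Set X).ncard := by
      rw [← Nat.card_coe_set_eq]
      exact Nat.card_congr (Equiv.subtypeEquivRight fun x => Iff.rfl)
    omega
  rw [hX, hY, Nat.mul_add_mod']

variable {G : Type*} [Group G]

/-- Conjugation bijects filtered sets. -/
theorem card_filter_conj [Fintype G] (g : G) {p q : G → Prop} [DecidablePred p] [DecidablePred q]
    (h : ∀ x, p x ↔ q (g * x * g⁻¹)) :
    (univ.filter p).card = (univ.filter q).card :=
  Finset.card_equiv (MulAut.conj g).toEquiv fun x => by simp [h x]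

theorem card_filter_eq_ncard [Fintype G] (p : G → Prop) [DecidablePred p] :
    (univ.filter p).card = {x | p x}.ncard := by
  rw [← Set.ncard_coe_finset]
  congr 1
  ext x
  simp

theorem orderOf_conj (g x : G) : orderOf (g * x * g⁻¹) = orderOf x :=
  MulEquiv.orderOf_eq (MulAut.conj g) x

theorem mem_centralizer_conj {g x y : G} :
    g * y * g⁻¹ ∈ centralizer ({g * x * g⁻¹} : Set G) ↔ y ∈ centralizer ({x} : Set G) := by
  simp only [mem_centralizer_singleton_iff]
  constructor
  · intro h
    calc y * x = g⁻¹ * (g * y * g⁻¹ * (g * x * g⁻¹)) * g := by group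
      _ = g⁻¹ * (g * x * g⁻¹ * (g * y * g⁻¹)) * g := by rw [h]
      _ = x * y := by group
  · intro h
    calc g * y * g⁻¹ * (g * x * g⁻¹) = g * (y * x) * g⁻¹ := by group
      _ = g * (x * y) * g⁻¹ := by rw [h]
      _ = g * x * g⁻¹ * (g * y * g⁻¹) := by group

theorem inv_eq_self_of_two {t : G} (h : orderOf t = 2) : t * t = 1 ∧ t⁻¹ = t ∧ t ≠ 1 := by
  have h1 := CfsgLib.Small.orderOf_eq_two_iff_sq.1 h
  exact ⟨h1.2, inv_eq_of_mul_eq_one_right h1.2, h1.1⟩

end General

namespace FourFrame

variable {G : Type*} [Group G] {T V A : Subgroup G}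

/-- The elements of odd order other than the identity inverted by `t`. -/
def Inverted (t x : G) : Prop := Odd (orderOf x) ∧ x ≠ 1 ∧ t * x * t = x⁻¹

section Basics

variable (F : FourFrame T V A)
include F

theorem le_T_V : V ≤ T := F.sup_eq ▸ le_sup_left

theorem le_T_A : A ≤ T := F.sup_eq ▸ le_sup_right

theorem exists_center : ∃ c ∈ V ⊓ A, orderOf c = 2 := by
  obtain ⟨c, hc, hc1⟩ := (V ⊓ A).bot_or_exists_ne_one.resolve_left fun h => by
    have := F.card_inf
    rw [h, Subgroup.card_bot] at this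
    omega
  exact ⟨c, hc, orderOf_two_of_mul_self (F.sq_V c (Subgroup.mem_inf.1 hc).1) hc1⟩

theorem centralizer_center {c : G} (hc : c ∈ V ⊓ A) (h2 : orderOf c = 2) :
    centralizer ({c} : Set G) = T :=
  F.centralizer_eq c hc (inv_eq_self_of_two h2).2.2

theorem exists_A : ∃ a ∈ A, a ∉ V := by
  by_contra h
  push Not at h
  have h' : V ⊓ A = A := inf_eq_right.2 h
  have := F.card_inf
  rw [h', F.card_A] at this
  omega

theorem exists_V : ∃ v ∈ V, v ∉ A := by
  by_contra h
  push Not at h
  have h' : V ⊓ A = V := inf_eq_left.2 h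
  have := F.card_inf
  rw [h', F.card_V] at this
  omega

theorem center_iff {z : G} (hz : orderOf z = 2) :
    centralizer ({z} : Set G) = T ↔ z ∈ V ⊓ A := by
  refine ⟨fun h => ?_, fun h => F.centralizer_center h hz⟩
  have hzT : z ∈ T := h ▸ mem_centralizer_singleton_iff.2 rfl
  rcases F.invol z hzT (inv_eq_self_of_two hz).1 with hV | hA
  · refine Subgroup.mem_inf.2 ⟨hV, by_contra fun hA => ?_⟩
    obtain ⟨a, ha, haV⟩ := F.exists_A
    exact F.not_commute z hV hA a ha haV
      (mem_centralizer_singleton_iff.1 (h ▸ F.le_T_A ha : a ∈ centralizer ({z} : Set G))).symm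
  · refine Subgroup.mem_inf.2 ⟨by_contra fun hV => ?_, hA⟩
    obtain ⟨v, hv, hvA⟩ := F.exists_V
    exact F.not_commute v hv hvA z hA hV
      (mem_centralizer_singleton_iff.1 (h ▸ F.le_T_V hv : v ∈ centralizer ({z} : Set G)))

theorem exists_conj_center {z : G} (hz : orderOf z = 2) :
    ∃ g c, c ∈ V ⊓ A ∧ orderOf c = 2 ∧ g * c * g⁻¹ = z ∧
      ∀ y, g * y * g⁻¹ ∈ centralizer ({z} : Set G) ↔ y ∈ T := by
  obtain ⟨c, hc, hc2⟩ := F.exists_center
  obtain ⟨g, hg⟩ := isConj_iff.1 (F.isConj c z hc2 hz)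
  exact ⟨g, c, hc, hc2, hg, fun y => by rw [← hg, mem_centralizer_conj, F.centralizer_center hc hc2]⟩

/-- The square of the product of two noncommuting involutions of `T` is central. -/
theorem sq_mem_center {s u : G} (hs : s ∈ T) (hu : u ∈ T) (hs2 : s * s = 1) (hu2 : u * u = 1)
    (hne : s * u ≠ u * s) : s * u * (s * u) ∈ V ⊓ A ∧ s * u * (s * u) ≠ 1 := by
  have hsi : s⁻¹ = s := inv_eq_of_mul_eq_one_right hs2
  have hui : u⁻¹ = u := inv_eq_of_mul_eq_one_right hu2
  refine ⟨?_, fun h => hne ?_⟩
  · have hnorm : ∀ (X : Subgroup G), T ≤ normalizer (X : Set G) → ∀ x ∈ X, ∀ y ∈ T, y * y = 1 →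
        y * x * y ∈ X := fun X hX x hx y hy hy2 => by
      have := (mem_normalizer_iff.1 (hX hy) x).1 hx
      rwa [inv_eq_of_mul_eq_one_right hy2] at this
    have key : ∀ (X : Subgroup G), T ≤ normalizer (X : Set G) → s ∈ X ∨ u ∈ X →
        s * u * (s * u) ∈ X := by
      rintro X hX (h | h)
      · rw [show s * u * (s * u) = s * (u * s * u) by simp only [mul_assoc]]
        exact X.mul_mem h (hnorm X hX s h u hu hu2)
      · rw [show s * u * (s * u) = (s * u * s) * u by simp only [mul_assoc]]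
        exact X.mul_mem (hnorm X hX u h s hs hs2) h
    have hcomm : ∀ (X : Subgroup G), (∀ x ∈ X, x * x = 1) → s ∈ X → u ∈ X → False :=
      fun X hX h h' => hne (by
        have := inv_eq_of_mul_eq_one_right (hX _ (X.mul_mem h h'))
        rwa [mul_inv_rev, hsi, hui, eq_comm] at this)
    rcases F.invol s hs hs2 with hsV | hsA <;> rcases F.invol u hu hu2 with huV | huA
    · exact (hcomm V F.sq_V hsV huV).elim
    · exact Subgroup.mem_inf.2 ⟨key V F.normal_V (.inl hsV), key A F.normal_A (.inr huA)⟩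
    · exact Subgroup.mem_inf.2 ⟨key V F.normal_V (.inr huV), key A F.normal_A (.inl hsA)⟩
    · exact (hcomm A F.sq_A hsA huA).elim
  · have := inv_eq_of_mul_eq_one_right h
    rwa [mul_inv_rev, hsi, hui, eq_comm] at this

/-- Two noncommuting involutions centralising `z` determine the centraliser of `z`. -/
theorem centralizer_sq {z s u : G} (hz : orderOf z = 2) (hs : s * z = z * s) (hu : u * z = z * u)
    (hs2 : s * s = 1) (hu2 : u * u = 1) (hne : s * u ≠ u * s) :
    orderOf (s * u * (s * u)) = 2 ∧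
      centralizer ({s * u * (s * u)} : Set G) = centralizer ({z} : Set G) := by
  obtain ⟨g, c, hc, hc2, hg, hgT⟩ := F.exists_conj_center hz
  have hmem : ∀ {y}, y * z = z * y → g⁻¹ * y * g ∈ T := fun {y} hy =>
    (hgT _).1 (by rw [show g * (g⁻¹ * y * g) * g⁻¹ = y by group]
                  exact mem_centralizer_singleton_iff.2 hy)
  have hsq : ∀ {y : G}, y * y = 1 → g⁻¹ * y * g * (g⁻¹ * y * g) = 1 := fun {y} hy => by
    rw [show g⁻¹ * y * g * (g⁻¹ * y * g) = g⁻¹ * (y * y) * g by group, hy]; group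
  have h := F.sq_mem_center (hmem hs) (hmem hu) (hsq hs2) (hsq hu2) fun h => hne (by
    calc s * u = g * (g⁻¹ * s * g * (g⁻¹ * u * g)) * g⁻¹ := by group
      _ = g * (g⁻¹ * u * g * (g⁻¹ * s * g)) * g⁻¹ := by rw [h]
      _ = u * s := by group)
  have he : s * u * (s * u) = g * (g⁻¹ * s * g * (g⁻¹ * u * g) * (g⁻¹ * s * g * (g⁻¹ * u * g))) * g⁻¹ := by
    group
  generalize g⁻¹ * s * g * (g⁻¹ * u * g) * (g⁻¹ * s * g * (g⁻¹ * u * g)) = w at h he
  have hw2 : orderOf w = 2 :=
    orderOf_two_of_mul_self (F.sq_V w (Subgroup.mem_inf.1 h.1).1) h.2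
  rw [he, orderOf_conj]
  refine ⟨hw2, Subgroup.ext fun y => ?_⟩
  rw [show y = g * (g⁻¹ * y * g) * g⁻¹ by group, mem_centralizer_conj, hgT,
    F.centralizer_center h.1 hw2]

end Basics

open scoped Classical

variable [Fintype G] (F : FourFrame T V A)
include F

theorem card_T_filter : (univ.filter fun u => orderOf u = 2 ∧ u ∈ T).card = 27 := by
  rw [card_filter_eq_ncard]
  have hset : {u | orderOf u = 2 ∧ u ∈ T} = ((V : Set G) ∪ A) \ {1} := by
    ext u
    constructor
    · rintro ⟨h2, hu⟩
      exact ⟨F.invol u hu (inv_eq_self_of_two h2).1, (inv_eq_self_of_two h2).2.2⟩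
    · rintro ⟨h | h, h1⟩
      · exact ⟨orderOf_two_of_mul_self (F.sq_V u h) h1, F.le_T_V h⟩
      · exact ⟨orderOf_two_of_mul_self (F.sq_A u h) h1, F.le_T_A h⟩
  have h := Set.ncard_union_add_ncard_inter (V : Set G) A (Set.toFinite _) (Set.toFinite _)
  rw [← Subgroup.coe_inf, ← Nat.card_coe_set_eq ((V ⊓ A : Subgroup G) : Set G),
    ← Nat.card_coe_set_eq (V : Set G), ← Nat.card_coe_set_eq (A : Set G)] at h
  have h1 : (1 : G) ∈ (V : Set G) ∪ A := Or.inl V.one_mem
  rw [hset, Set.ncard_diff_singleton_of_mem h1]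
  have e1 : Nat.card ((V ⊓ A : Subgroup G) : Set G) = 4 := F.card_inf
  have e2 : Nat.card (V : Set G) = 16 := F.card_V
  have e3 : Nat.card (A : Set G) = 16 := F.card_A
  omega

theorem card_center_filter :
    (univ.filter fun y => orderOf y = 2 ∧ centralizer ({y} : Set G) = T).card = 3 := by
  rw [card_filter_eq_ncard]
  have hset : {y | orderOf y = 2 ∧ centralizer ({y} : Set G) = T} =
      ((V ⊓ A : Subgroup G) : Set G) \ {1} := by
    ext y
    constructor
    · rintro ⟨h2, hy⟩
      exact ⟨(F.center_iff h2).1 hy, (inv_eq_self_of_two h2).2.2⟩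
    · rintro ⟨hy, h1⟩
      have h2 := orderOf_two_of_mul_self (F.sq_V y (Subgroup.mem_inf.1 hy).1) h1
      exact ⟨h2, F.centralizer_center hy h2⟩
  rw [hset, Set.ncard_diff_singleton_of_mem (Subgroup.one_mem _), ← Nat.card_coe_set_eq]
  exact congrArg (· - 1) F.card_inf

theorem card_same {z : G} (hz : orderOf z = 2) :
    (univ.filter fun y => orderOf y = 2 ∧
      centralizer ({y} : Set G) = centralizer ({z} : Set G)).card = 3 := by
  obtain ⟨g, c, hc, hc2, hg, -⟩ := F.exists_conj_center hz
  rw [← F.card_center_filter]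
  refine (card_filter_conj g fun x => and_congr (by rw [orderOf_conj]) ⟨fun h => ?_, fun h => ?_⟩).symm
  · ext y
    rw [show y = g * (g⁻¹ * y * g) * g⁻¹ by group, mem_centralizer_conj, h, ← hg,
      mem_centralizer_conj, F.centralizer_center hc hc2]
  · ext y
    rw [← mem_centralizer_conj (g := g), h, ← hg, mem_centralizer_conj,
      F.centralizer_center hc hc2]

theorem card_cent_filter {z : G} (hz : orderOf z = 2) :
    (univ.filter fun u => orderOf u = 2 ∧ u ∈ centralizer ({z} : Set G)).card = 27 := by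
  obtain ⟨g, c, hc, hc2, hg, hgT⟩ := F.exists_conj_center hz
  rw [← F.card_T_filter]
  exact (card_filter_conj g fun x => by rw [orderOf_conj, hgT]).symm

theorem card_outside {z : G} (hz : orderOf z = 2) (hzT : z ∈ T) (hzc : z ∉ V ⊓ A) :
    (univ.filter fun u => orderOf u = 2 ∧ u ∈ centralizer ({z} : Set G) ∧ u ∉ T).card = 12 := by
  have h := Finset.card_filter_add_card_filter_not
    (s := univ.filter fun u => orderOf u = 2 ∧ u ∈ centralizer ({z} : Set G)) (fun u => u ∈ T)
  rw [F.card_cent_filter hz, Finset.filter_filter, Finset.filter_filter] at h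
  have h15 : (univ.filter fun u => (orderOf u = 2 ∧ u ∈ centralizer ({z} : Set G)) ∧ u ∈ T).card = 15 := by
    rw [card_filter_eq_ncard]
    rw [Subgroup.mem_inf] at hzc
    rcases F.invol z hzT (inv_eq_self_of_two hz).1 with hV | hA
    · have hset : {u | (orderOf u = 2 ∧ u ∈ centralizer ({z} : Set G)) ∧ u ∈ T} = (V : Set G) \ {1} := by
        ext u
        constructor
        · rintro ⟨⟨h2, hc⟩, hu⟩
          refine ⟨?_, (inv_eq_self_of_two h2).2.2⟩
          rcases F.invol u hu (inv_eq_self_of_two h2).1 with h | h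
          · exact h
          · exact by_contra fun huV => F.not_commute z hV (fun hA => hzc ⟨hV, hA⟩) u h huV
              (mem_centralizer_singleton_iff.1 hc).symm
        · rintro ⟨hu, h1⟩
          refine ⟨⟨orderOf_two_of_mul_self (F.sq_V u hu) h1, mem_centralizer_singleton_iff.2 ?_⟩,
            F.le_T_V hu⟩
          have := inv_eq_of_mul_eq_one_right (F.sq_V _ (V.mul_mem hu hV))
          rw [mul_inv_rev, inv_eq_of_mul_eq_one_right (F.sq_V u hu),
            inv_eq_of_mul_eq_one_right (F.sq_V z hV)] at this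
          exact this.symm
      rw [hset, Set.ncard_diff_singleton_of_mem V.one_mem, ← Nat.card_coe_set_eq]
      exact congrArg (· - 1) F.card_V
    · have hset : {u | (orderOf u = 2 ∧ u ∈ centralizer ({z} : Set G)) ∧ u ∈ T} = (A : Set G) \ {1} := by
        ext u
        constructor
        · rintro ⟨⟨h2, hc⟩, hu⟩
          refine ⟨?_, (inv_eq_self_of_two h2).2.2⟩
          rcases F.invol u hu (inv_eq_self_of_two h2).1 with h | h
          · exact by_contra fun huA => F.not_commute u h huA z hA (fun hV => hzc ⟨hV, hA⟩)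
              (mem_centralizer_singleton_iff.1 hc)
          · exact h
        · rintro ⟨hu, h1⟩
          refine ⟨⟨orderOf_two_of_mul_self (F.sq_A u hu) h1, mem_centralizer_singleton_iff.2 ?_⟩,
            F.le_T_A hu⟩
          have := inv_eq_of_mul_eq_one_right (F.sq_A _ (A.mul_mem hu hA))
          rw [mul_inv_rev, inv_eq_of_mul_eq_one_right (F.sq_A u hu),
            inv_eq_of_mul_eq_one_right (F.sq_A z hA)] at this
          exact this.symm
      rw [hset, Set.ncard_diff_singleton_of_mem A.one_mem, ← Nat.card_coe_set_eq]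
      exact congrArg (· - 1) F.card_A
  simp only [and_assoc] at h h15 ⊢
  omega

/-- The number of involutions meeting the central involution in an element of even order outside
`T`. -/
theorem card_even {c : G} (hc : c ∈ V ⊓ A) (hc2 : orderOf c = 2) :
    (univ.filter fun u => orderOf u = 2 ∧ u ∉ T ∧ ¬ Odd (orderOf (c * u))).card = 96 := by
  set E := univ.filter fun u => orderOf u = 2 ∧ u ∉ T ∧ ¬ Odd (orderOf (c * u)) with hE
  set X := univ.filter fun z => orderOf z = 2 ∧ z ∈ T ∧ z ∉ V ⊓ A with hX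
  have hX24 : X.card = 24 := by
    have h := Finset.card_filter_add_card_filter_not
      (s := univ.filter fun u => orderOf u = 2 ∧ u ∈ T) (fun u => u ∈ V ⊓ A)
    rw [F.card_T_filter, Finset.filter_filter, Finset.filter_filter] at h
    have h3 : (univ.filter fun u => (orderOf u = 2 ∧ u ∈ T) ∧ u ∈ V ⊓ A).card = 3 := by
      rw [← F.card_center_filter]
      refine congrArg Finset.card (Finset.filter_congr fun u _ => ?_)
      constructor
      · rintro ⟨⟨h2, -⟩, hu⟩
        exact ⟨h2, F.centralizer_center hu h2⟩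
      · rintro ⟨h2, hu⟩
        have h := (F.center_iff h2).1 hu
        exact ⟨⟨h2, F.le_T_V (Subgroup.mem_inf.1 h).1⟩, h⟩
    simp only [and_assoc] at h h3
    rw [hX]
    omega
  have hcT : centralizer ({c} : Set G) = T := F.centralizer_center hc hc2
  obtain ⟨hcc, hci, -⟩ := inv_eq_self_of_two hc2
  have hrow : ∀ z ∈ X, (Finset.bipartiteAbove (fun z u : G => u * z = z * u) E z).card = 12 := by
    intro z hz
    obtain ⟨hz2, hzT, hzc⟩ := (Finset.mem_filter.1 hz).2
    rw [← F.card_outside hz2 hzT hzc, Finset.bipartiteAbove, hE, Finset.filter_filter]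
    refine congrArg Finset.card (Finset.filter_congr fun u _ => ⟨?_, ?_⟩)
    · rintro ⟨⟨h2, hu, -⟩, hcm⟩
      exact ⟨h2, mem_centralizer_singleton_iff.2 hcm, hu⟩
    · rintro ⟨h2, hcm, hu⟩
      refine ⟨⟨h2, hu, fun hodd => ?_⟩, mem_centralizer_singleton_iff.1 hcm⟩
      have hzC : Commute z c :=
        (mem_centralizer_singleton_iff.1 (hcT.symm ▸ hzT : z ∈ centralizer ({c} : Set G)))
      have hone : c * u = 1 := eq_one_of_odd_mem (F.cit z hz2)
        (mem_centralizer_singleton_iff.2
          ((hzC.mul_right (show Commute z u from (mem_centralizer_singleton_iff.1 hcm).symm)).eq.symm))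
        hodd
      apply hu
      rw [show u = c from by rw [← one_mul u, ← hcc, mul_assoc, hone, mul_one]]
      exact F.le_T_V (Subgroup.mem_inf.1 hc).1
  have hcol : ∀ u ∈ E, (Finset.bipartiteBelow (fun z u : G => u * z = z * u) X u).card = 3 := by
    intro u hu
    obtain ⟨hu2, huT, hev⟩ := (Finset.mem_filter.1 hu).2
    obtain ⟨huu, hui, -⟩ := inv_eq_self_of_two hu2
    have hne : c * u ≠ u * c := fun h => huT (hcT ▸ mem_centralizer_singleton_iff.2 h.symm)
    -- a central involution of the dihedral group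
    have hm : 2 ∣ orderOf (c * u) := even_iff_two_dvd.1 (Nat.not_odd_iff_even.1 hev)
    set i := orderOf (c * u) / 2 with hi
    set z₀ := (c * u) ^ i with hz₀
    have hz₀2 : orderOf z₀ = 2 := orderOf_pow_orderOf_div (orderOf_pos _).ne' hm
    obtain ⟨hz₀sq, hz₀i, -⟩ := inv_eq_self_of_two hz₀2
    have hflip : ∀ y : G, y * y = 1 → y * (c * u) * y = (c * u)⁻¹ → y * z₀ = z₀ * y := by
      intro y hy hy'
      have h := conj_pow (a := y) (b := c * u) (i := i)
      rw [inv_eq_of_mul_eq_one_right hy, hy', inv_pow, ← hz₀, hz₀i] at h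
      calc y * z₀ = y * z₀ * (y * y) := by rw [hy, mul_one]
        _ = y * z₀ * y * y := by simp only [mul_assoc]
        _ = z₀ * y := by rw [← h]
    have hcz : c * z₀ = z₀ * c := hflip c hcc (by
      rw [mul_inv_rev, hci, hui, ← mul_assoc c c u, hcc, one_mul])
    have huz : u * z₀ = z₀ * u := hflip u huu (by
      rw [mul_inv_rev, hci, hui, mul_assoc, mul_assoc c u u, huu, mul_one])
    obtain ⟨hw2, hwC⟩ := F.centralizer_sq hz₀2 hcz huz hcc huu hne
    set w := c * u * (c * u) with hw
    rw [← F.card_same hw2, Finset.bipartiteBelow, hX, Finset.filter_filter]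
    refine congrArg Finset.card (Finset.filter_congr fun z _ => ⟨?_, ?_⟩)
    · rintro ⟨⟨hz2, hzT, -⟩, hcm⟩
      refine ⟨hz2, ?_⟩
      exact (F.centralizer_sq hz2
        (mem_centralizer_singleton_iff.1 (hcT.symm ▸ hzT : z ∈ centralizer ({c} : Set G))).symm
        hcm hcc huu hne).2.symm
    · rintro ⟨hz2, hzC⟩
      have hcm : ∀ {y : G}, y * z₀ = z₀ * y → y * z = z * y := fun {y} hy =>
        mem_centralizer_singleton_iff.1 (by
          rw [hzC, hwC]; exact mem_centralizer_singleton_iff.2 hy)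
      have hzT : z ∈ T := hcT ▸ mem_centralizer_singleton_iff.2 (hcm hcz).symm
      refine ⟨⟨hz2, hzT, fun hz => huT ?_⟩, hcm huz⟩
      rw [← F.centralizer_center hz hz2]
      exact mem_centralizer_singleton_iff.2 (hcm huz)
  have h := Finset.card_mul_eq_card_mul (fun z u : G => u * z = z * u) hrow hcol
  rw [hX24] at h
  omega

theorem card_involutions :
    (univ.filter fun t : G => orderOf t = 2).card = T.index := by
  obtain ⟨c, hc, hc2⟩ := F.exists_center
  have hcT := F.centralizer_center hc hc2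
  rw [card_filter_eq_ncard, ← Nat.card_coe_set_eq]
  refine Nat.card_congr (Equiv.ofBijective
    (Quotient.lift (fun g => (⟨g * c * g⁻¹, by
      show orderOf (g * c * g⁻¹) = 2
      rw [orderOf_conj]; exact hc2⟩ : {t : G | orderOf t = 2})) (fun a b hab => by
        have h : a⁻¹ * b ∈ centralizer ({c} : Set G) := hcT ▸ QuotientGroup.leftRel_apply.1 hab
        rw [mem_centralizer_singleton_iff] at h
        refine Subtype.ext ?_
        show a * c * a⁻¹ = b * c * b⁻¹
        calc a * c * a⁻¹ = a * (c * (a⁻¹ * b)) * b⁻¹ := by group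
          _ = a * (a⁻¹ * b * c) * b⁻¹ := by rw [h]
          _ = b * c * b⁻¹ := by group) : G ⧸ T → {t : G | orderOf t = 2}) ⟨?_, ?_⟩).symm
  · intro p q hpq
    obtain ⟨a, rfl⟩ := QuotientGroup.mk_surjective p
    obtain ⟨b, rfl⟩ := QuotientGroup.mk_surjective q
    have h : a * c * a⁻¹ = b * c * b⁻¹ := congrArg Subtype.val hpq
    refine QuotientGroup.eq.2 (hcT ▸ mem_centralizer_singleton_iff.2 ?_)
    calc a⁻¹ * b * c = a⁻¹ * (b * c * b⁻¹) * b := by group
      _ = a⁻¹ * (a * c * a⁻¹) * b := by rw [h]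
      _ = c * (a⁻¹ * b) := by group
  · rintro ⟨t, ht⟩
    obtain ⟨g, hg⟩ := isConj_iff.1 (F.isConj c t hc2 ht)
    exact ⟨(g : G ⧸ T), Subtype.ext hg⟩

theorem card_inverted {t : G} (ht : orderOf t = 2) :
    123 + (univ.filter fun x => Inverted t x).card = T.index := by
  obtain ⟨c, hc, hc2⟩ := F.exists_center
  obtain ⟨g, hg⟩ := isConj_iff.1 (F.isConj c t hc2 ht)
  have hconj : (univ.filter fun x => Inverted c x).card = (univ.filter fun x => Inverted t x).card := by
    refine card_filter_conj g fun x => ?_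
    simp only [Inverted, orderOf_conj, ← hg, ne_eq, conj_eq_one_iff]
    refine and_congr_right fun _ => and_congr_right fun _ => ⟨fun h => ?_, fun h => ?_⟩
    · calc g * c * g⁻¹ * (g * x * g⁻¹) * (g * c * g⁻¹) = g * (c * x * c) * g⁻¹ := by group
        _ = (g * x * g⁻¹)⁻¹ := by rw [h]; group
    · calc c * x * c = g⁻¹ * (g * c * g⁻¹ * (g * x * g⁻¹) * (g * c * g⁻¹)) * g := by group
        _ = x⁻¹ := by rw [h]; group
  rw [← hconj, ← F.card_involutions]
  obtain ⟨hcc, hci, -⟩ := inv_eq_self_of_two hc2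
  have hcT := F.centralizer_center hc hc2
  have h1 := Finset.card_filter_add_card_filter_not
    (s := univ.filter fun t : G => orderOf t = 2) (fun u => u ∈ T)
  have h2 := Finset.card_filter_add_card_filter_not
    (s := univ.filter fun u : G => orderOf u = 2 ∧ u ∉ T) (fun u => ¬ Odd (orderOf (c * u)))
  simp only [Finset.filter_filter, and_assoc, not_not] at h1 h2
  rw [F.card_T_filter] at h1
  rw [F.card_even hc hc2] at h2
  have h3 : (univ.filter fun u : G => orderOf u = 2 ∧ u ∉ T ∧ Odd (orderOf (c * u))).card =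
      (univ.filter fun x => Inverted c x).card := by
    refine Finset.card_equiv (Equiv.mulLeft c) fun u => ?_
    simp only [Finset.mem_filter, Finset.mem_univ, true_and, Equiv.coe_mulLeft]
    constructor
    · rintro ⟨h2', huT, ho⟩
      obtain ⟨huu, hui, -⟩ := inv_eq_self_of_two h2'
      refine ⟨ho, fun h => huT ?_, ?_⟩
      · rw [show u = c from by rw [← one_mul u, ← hcc, mul_assoc, h, mul_one]]
        exact F.le_T_V (Subgroup.mem_inf.1 hc).1
      · rw [mul_inv_rev, hci, hui, ← mul_assoc c c u, hcc, one_mul]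
    · rintro ⟨ho, hne, hinv⟩
      rw [← mul_assoc c c u, hcc, one_mul, mul_inv_rev, hci] at hinv
      have huu : u * u = 1 := by
        have := congrArg (· * c) hinv
        simp only [mul_assoc, hcc, mul_one] at this
        calc u * u = u * u⁻¹ := by nth_rw 2 [this]
          _ = 1 := mul_inv_cancel u
      have huT : u ∉ T := fun huT => hne (eq_one_of_odd_mem (F.cit c hc2) (hcT.symm ▸
        T.mul_mem (F.le_T_V (Subgroup.mem_inf.1 hc).1) huT) ho)
      exact ⟨orderOf_two_of_mul_self huu fun h => huT (h ▸ T.one_mem), huT, ho⟩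
  omega

/-- The centraliser of an inverted element. -/
theorem cent_inverted {t x : G} (ht : orderOf t = 2) (hx : Inverted t x) :
    (∀ y ∈ centralizer ({x} : Set G), Odd (orderOf y) ∧ t * y * t = y⁻¹) ∧
      ∀ y ∈ centralizer ({x} : Set G), y ≠ 1 →
        centralizer ({y} : Set G) = centralizer ({x} : Set G) := by
  obtain ⟨htt, hti, -⟩ := inv_eq_self_of_two ht
  have key : ∀ {z : G}, Inverted t z → ∀ y ∈ centralizer ({z} : Set G),
      Odd (orderOf y) ∧ t * y * t = y⁻¹ := by
    intro z hz
    obtain ⟨hzo, hz1, hzi⟩ := hz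
    have hodd : ∀ y ∈ centralizer ({z} : Set G), Odd (orderOf y) := fun y hy =>
      F.cit.odd_of_commute hzo hz1 (mem_centralizer_singleton_iff.1 hy).symm
    refine fun y hy => ⟨hodd y hy, inverts_of_fixedPointFree htt (fun a ha => ?_) (fun a ha hc => ?_) y hy⟩
    · rw [mem_centralizer_singleton_iff] at ha ⊢
      have hcm : Commute a z⁻¹ := (show Commute a z from ha).inv_right
      have := hcm.conj t
      rw [hti, ← hzi, show t * (t * z * t) * t = (t * t) * z * (t * t) by simp only [mul_assoc],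
        htt, one_mul, mul_one] at this
      exact this
    · exact eq_one_of_odd_mem (F.cit t ht) (mem_centralizer_singleton_iff.2 hc.symm) (hodd a ha)
  refine ⟨key hx, fun y hy hy1 => ?_⟩
  have hy' : Inverted t y := ⟨(key hx y hy).1, hy1, (key hx y hy).2⟩
  have hcomm : ∀ {z : G}, Inverted t z → ∀ a ∈ centralizer ({z} : Set G),
      ∀ b ∈ centralizer ({z} : Set G), a * b = b * a := fun {z} hz =>
    commute_of_inverted htt fun a ha => (key hz a ha).2
  refine le_antisymm (fun a ha => mem_centralizer_singleton_iff.2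
    (hcomm hy' a ha x (mem_centralizer_singleton_iff.2 (mem_centralizer_singleton_iff.1 hy).symm)))
    fun a ha => mem_centralizer_singleton_iff.2 (hcomm hx a ha y hy)

theorem card_inverters {t x : G} (ht : orderOf t = 2) (hx : Inverted t x) :
    (univ.filter fun s => orderOf s = 2 ∧ Inverted s x).card =
      Nat.card (centralizer ({x} : Set G)) := by
  obtain ⟨htt, hti, -⟩ := inv_eq_self_of_two ht
  have hC : Nat.card (centralizer ({x} : Set G)) =
      (univ.filter fun y => y ∈ centralizer ({x} : Set G)).card := by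
    rw [card_filter_eq_ncard, ← Nat.card_coe_set_eq]; rfl
  rw [hC]
  refine (Finset.card_equiv (Equiv.mulLeft t) fun y => ?_).symm
  simp only [Finset.mem_filter, Finset.mem_univ, true_and, Equiv.coe_mulLeft]
  constructor
  · intro hy
    obtain ⟨hyo, hyi⟩ := (F.cent_inverted ht hx).1 y hy
    have hsq : t * y * (t * y) = 1 := by
      rw [show t * y * (t * y) = (t * y * t) * y by simp only [mul_assoc], hyi, inv_mul_cancel]
    refine ⟨orderOf_two_of_mul_self hsq fun h => ?_, hx.1, hx.2.1, ?_⟩
    · have e : y = t := by rw [← one_mul y, ← htt, mul_assoc, h, mul_one]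
      rw [e, ht] at hyo
      exact absurd hyo (by decide)
    · have hi := inv_eq_of_mul_eq_one_right hsq
      rw [mul_inv_rev, hti] at hi
      have hcm := mem_centralizer_singleton_iff.1 hy
      calc t * y * x * (t * y) = t * y * x * (y⁻¹ * t) := by rw [hi]
        _ = t * (y * x) * y⁻¹ * t := by simp only [mul_assoc]
        _ = t * x * t := by rw [hcm]; simp only [mul_assoc, mul_inv_cancel_left]
        _ = x⁻¹ := hx.2.2
  · rintro ⟨h2, -, -, hi⟩
    obtain ⟨hss, hsi, -⟩ := inv_eq_self_of_two h2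
    rw [mem_centralizer_singleton_iff]
    rw [mul_inv_rev, hti] at hsi
    have h : t * (y * x * y⁻¹) * t = t * x * t := by
      rw [hx.2.2, ← hi]
      nth_rw 2 [← hsi]
      simp only [mul_assoc]
    exact mul_inv_eq_iff_eq_mul.1 (mul_left_cancel (mul_right_cancel h))

/-- The normaliser of the centraliser of an inverted element. -/
theorem normalizer_facts {t x : G} (ht : orderOf t = 2) (hx : Inverted t x) :
    ∃ e, (e = 2 ∨ e = 4 ∨ e = 8) ∧ e ∣ Nat.card (centralizer ({x} : Set G)) - 1 ∧
      Nat.card (normalizer (centralizer ({x} : Set G) : Set G)) =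
        Nat.card (centralizer ({x} : Set G)) * e ∧
      ∀ y ∈ normalizer (centralizer ({x} : Set G) : Set G), Odd (orderOf y) →
        y ∈ centralizer ({x} : Set G) := by
  obtain ⟨htt, hti, -⟩ := inv_eq_self_of_two ht
  obtain ⟨hK, hKeq⟩ := F.cent_inverted ht hx
  set K := centralizer ({x} : Set G) with hKdef
  set N := normalizer (K : Set G) with hNdef
  have hxK : x ∈ K := mem_centralizer_singleton_iff.2 rfl
  have hdisj : ∀ y ∈ K, y * t = t * y → y = 1 := fun y hy h =>
    eq_one_of_odd_mem (F.cit t ht) (mem_centralizer_singleton_iff.2 h) (hK y hy).1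
  have htN : t ∈ N := by
    have hmem : ∀ y ∈ K, t * y * t⁻¹ ∈ K := fun y hy => by
      rw [hti, (hK y hy).2]; exact K.inv_mem hy
    refine mem_normalizer_iff.2 fun y => ⟨hmem y, fun hy => ?_⟩
    have := hmem _ hy
    rwa [hti, show t * (t * y * t) * t = (t * t) * y * (t * t) by simp only [mul_assoc], htt,
      one_mul, mul_one] at this
  have hinvol : ∀ s ∈ N, orderOf s = 2 → t * s ∈ K := by
    intro s hs h2
    obtain ⟨hss, hsi, -⟩ := inv_eq_self_of_two h2
    have hsx : s * x * s = x⁻¹ := inverts_of_fixedPointFree hss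
      (fun a ha => by have := (mem_normalizer_iff.1 hs a).1 ha; rwa [hsi] at this)
      (fun a ha hc => eq_one_of_odd_mem (F.cit s h2) (mem_centralizer_singleton_iff.2 hc.symm) (hK a ha).1)
      x hxK
    rw [hKdef, mem_centralizer_singleton_iff]
    calc t * s * x = t * (s * x * s) * s := by simp only [mul_assoc, hss, mul_one]
      _ = t * x⁻¹ * s := by rw [hsx]
      _ = x * (t * s) := by
        rw [← hx.2.2, show t * (t * x * t) * s = (t * t) * x * (t * s) by simp only [mul_assoc], htt,
          one_mul]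
  have hKodd : Odd (Nat.card K) := by
    refine Nat.not_even_iff_odd.1 fun h => ?_
    haveI : Fact (Nat.Prime 2) := ⟨Nat.prime_two⟩
    obtain ⟨y, hy⟩ := exists_prime_orderOf_dvd_card' 2 (even_iff_two_dvd.1 h)
    have ho := (hK y y.2).1
    rw [Subgroup.orderOf_coe, hy] at ho
    exact absurd ho (by decide)
  set D := N ⊓ centralizer ({t} : Set G) with hD
  have hDt : ∀ {d}, d ∈ D → d * t = t * d := fun hd =>
    mem_centralizer_singleton_iff.1 (Subgroup.mem_inf.1 hd).2
  have hsplit : ∀ n ∈ N, ∃ j ∈ K, ∃ d ∈ D, n = j * d := by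
    intro n hn
    have hs : t * (n * t * n⁻¹) ∈ K :=
      hinvol _ (N.mul_mem (N.mul_mem hn htN) (N.inv_mem hn)) (by rw [orderOf_conj]; exact ht)
    set k := t * (n * t * n⁻¹) with hk
    obtain ⟨r, hr⟩ := hKodd
    have hkpow : k ^ (2 * r + 1) = 1 := by
      rw [← hr]
      exact congrArg Subtype.val (pow_card_eq_one' (x := (⟨k, hs⟩ : K)))
    set h := k ^ (r + 1) with hh
    have hh2 : h * h = k := by
      rw [hh, ← pow_add, show r + 1 + (r + 1) = (2 * r + 1) + 1 by omega, pow_succ, hkpow, one_mul]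
    have hhK : h ∈ K := K.pow_mem hs _
    have e : h⁻¹ * t * h = t * k := by
      calc h⁻¹ * t * h = (t * t) * h⁻¹ * t * h := by rw [htt, one_mul]
        _ = t * (t * h⁻¹ * t) * h := by simp only [mul_assoc]
        _ = t * h * h := by rw [(hK _ (K.inv_mem hhK)).2, inv_inv]
        _ = t * k := by rw [mul_assoc, hh2]
    refine ⟨h⁻¹, K.inv_mem hhK, h * n, Subgroup.mem_inf.2 ⟨N.mul_mem (Subgroup.le_normalizer hhK) hn,
      mem_centralizer_singleton_iff.2 ?_⟩, by group⟩
    have e2 : n * t * n⁻¹ = h⁻¹ * t * h := by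
      rw [e, hk, ← mul_assoc, htt, one_mul]
    calc h * n * t = h * (n * t * n⁻¹) * n := by group
      _ = h * (h⁻¹ * t * h) * n := by rw [e2]
      _ = t * (h * n) := by group
  have hcardN : Nat.card N = Nat.card K * Nat.card D := by
    rw [← Nat.card_prod]
    refine (Nat.card_congr (Equiv.ofBijective (fun p : K × D =>
      (⟨(p.1 : G) * p.2, N.mul_mem (Subgroup.le_normalizer p.1.2) (Subgroup.mem_inf.1 p.2.2).1⟩ : N))
      ⟨fun p q hpq => ?_, fun n => ?_⟩)).symm
    · have h : (p.1 : G) * p.2 = q.1 * q.2 := congrArg Subtype.val hpq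
      have h1 : (q.1 : G)⁻¹ * p.1 = q.2 * (p.2 : G)⁻¹ := by
        calc (q.1 : G)⁻¹ * p.1 = (q.1 : G)⁻¹ * (p.1 * p.2) * (p.2 : G)⁻¹ := by group
          _ = (q.1 : G)⁻¹ * (q.1 * q.2) * (p.2 : G)⁻¹ := by rw [h]
          _ = q.2 * (p.2 : G)⁻¹ := by group
      have h2 := hdisj _ (K.mul_mem (K.inv_mem q.1.2) p.1.2)
        (by rw [h1]; exact hDt (D.mul_mem q.2.2 (D.inv_mem p.2.2)))
      refine Prod.ext (Subtype.ext (inv_mul_eq_one.1 h2).symm) (Subtype.ext ?_)
      rw [h1] at h2
      exact (mul_inv_eq_one.1 h2).symm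
    · obtain ⟨j, hj, d, hd, he⟩ := hsplit n n.2
      exact ⟨(⟨j, hj⟩, ⟨d, hd⟩), Subtype.ext he.symm⟩
  have hD2 : IsPGroup 2 D := (F.cit t ht).to_le inf_le_right
  have htD : t ∈ D := Subgroup.mem_inf.2 ⟨htN, mem_centralizer_singleton_iff.2 rfl⟩
  have honly : ∀ s ∈ D, s * s = 1 → s = 1 ∨ s = t := by
    intro s hs hss
    by_cases h1 : s = 1
    · exact Or.inl h1
    · have hk := hinvol s (Subgroup.mem_inf.1 hs).1 (orderOf_two_of_mul_self hss h1)
      have := hdisj _ hk (hDt (D.mul_mem htD hs))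
      exact Or.inr (by rw [← one_mul s, ← htt, mul_assoc, this, mul_one])
  have hD8 : Nat.card D ≤ 8 := by
    obtain ⟨g, c, hc, hc2, hg, hgT⟩ := F.exists_conj_center ht
    let Vg := V.map (MulAut.conj g).toMonoidHom
    have hVg : Nat.card Vg = 16 :=
      (Subgroup.card_map_of_injective (MulAut.conj g).injective).trans F.card_V
    have hVC : Vg ≤ centralizer ({t} : Set G) := by
      rintro _ ⟨v, hv, rfl⟩
      exact (hgT v).2 (F.le_T_V hv)
    have hC : Nat.card (centralizer ({t} : Set G)) = 64 := by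
      rw [← F.card_T]
      exact (Nat.card_congr ((MulAut.conj g).toEquiv.subtypeEquiv fun y => (hgT y).symm)).symm
    have h1 : Vg.relIndex (centralizer ({t} : Set G)) = 4 := by
      have h := Subgroup.card_mul_index (Vg.subgroupOf (centralizer ({t} : Set G)))
      rw [Nat.card_congr (Subgroup.subgroupOfEquivOfLe hVC).toEquiv, hVg, hC] at h
      rw [Subgroup.relIndex]
      omega
    have h2 : Vg.relIndex D ≤ 4 :=
      h1 ▸ Subgroup.relIndex_le_of_le_right inf_le_right (by rw [h1]; norm_num)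
    have h3 := Subgroup.card_mul_index (Vg.subgroupOf D)
    have h4 : Nat.card (Vg.subgroupOf D) ≤ 2 := by
      refine (Nat.card_le_card_of_injective (fun z : Vg.subgroupOf D =>
        (⟨((z : D) : G), ?_⟩ : ({1, t} : Set G))) ?_).trans ?_
      · obtain ⟨v, hv, hv'⟩ := Subgroup.mem_subgroupOf.1 z.2
        rw [Set.mem_insert_iff, Set.mem_singleton_iff]
        refine honly _ (z : D).2 ?_
        rw [← hv', ← map_mul, F.sq_V v hv, map_one]
      · intro a b h
        have h' : ((a : D) : G) = ((b : D) : G) := congrArg (fun w : ({1, t} : Set G) => (w : G)) h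
        exact Subtype.ext (Subtype.ext h')
      · rw [Nat.card_coe_set_eq]
        exact (Set.ncard_insert_le _ _).trans (by rw [Set.ncard_singleton])
    rw [Subgroup.relIndex] at h2
    exact h3 ▸ Nat.mul_le_mul h4 h2
  refine ⟨Nat.card D, ?_, ?_, hcardN, fun y hy ho => ?_⟩
  · haveI : Fact (Nat.Prime 2) := ⟨Nat.prime_two⟩
    obtain ⟨i, hi⟩ := IsPGroup.iff_card.1 hD2
    have h2 : orderOf t ∣ Nat.card D := D.orderOf_dvd_natCard htD
    rw [ht, hi] at h2
    rw [hi] at hD8 ⊢
    have : i ≤ 3 := by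
      by_contra h
      have := Nat.pow_le_pow_right (show 1 ≤ 2 by norm_num) (show 4 ≤ i by omega)
      omega
    interval_cases i <;> omega
  · letI : MulAction D K :=
      { smul := fun d y => ⟨(d : G) * y * (d : G)⁻¹,
          (mem_normalizer_iff.1 (Subgroup.mem_inf.1 d.2).1 y).1 y.2⟩
        one_smul := fun y => Subtype.ext (by show (1 : G) * y * (1 : G)⁻¹ = y; group)
        mul_smul := fun a b y => Subtype.ext (by
          show (a : G) * b * y * ((a : G) * b)⁻¹ = a * (b * y * (b : G)⁻¹) * (a : G)⁻¹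
          group) }
    have h := card_mod_eq_one (H := D) (X := K) 1
      (fun d => Subtype.ext (by show (d : G) * 1 * (d : G)⁻¹ = 1; group))
      (fun d y hdy => by
        by_cases hy1 : y = 1
        · exact Or.inr hy1
        · refine Or.inl (Subtype.ext ?_)
          have hc : (d : G) * y * (d : G)⁻¹ = y := congrArg Subtype.val hdy
          have hcy : (d : G) ∈ centralizer ({(y : G)} : Set G) :=
            mem_centralizer_singleton_iff.2 (mul_inv_eq_iff_eq_mul.1 hc)
          rw [hKeq y y.2 fun h => hy1 (Subtype.ext h)] at hcy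
          exact hdisj _ hcy (hDt d.2))
    exact (Nat.modEq_iff_dvd' Nat.card_pos).1 h.symm
  · obtain ⟨j, hj, d, hd, rfl⟩ := hsplit y hy
    set N' := N with hN'
    haveI : (K.subgroupOf N).Normal := Subgroup.normal_in_normalizer
    have hidx : (K.subgroupOf N).index = Nat.card D := by
      have h := Subgroup.card_mul_index (K.subgroupOf N)
      rw [Nat.card_congr (Subgroup.subgroupOfEquivOfLe Subgroup.le_normalizer).toEquiv, hcardN] at h
      exact Nat.eq_of_mul_eq_mul_left Nat.card_pos h
    have hpow := Subgroup.pow_index_mem (K.subgroupOf N) ⟨j * d, hy⟩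
    rw [hidx, Subgroup.mem_subgroupOf] at hpow
    haveI : Fact (Nat.Prime 2) := ⟨Nat.prime_two⟩
    obtain ⟨i, hi⟩ := (IsPGroup.iff_card (p := 2) (G := D)).1 hD2
    have hco : (Nat.card D).Coprime (orderOf (j * d)) := by
      rw [hi]
      exact Nat.Coprime.pow_left _ ((Nat.prime_two.coprime_iff_not_dvd).2 fun h =>
        Nat.not_even_iff_odd.2 ho (even_iff_two_dvd.2 h))
    obtain ⟨m, hm⟩ := exists_pow_eq_self_of_coprime hco
    rw [← hm]
    exact K.pow_mem hpow m

theorem index_mod {t x : G} (ht : orderOf t = 2) (hx : Inverted t x) :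
    (normalizer (centralizer ({x} : Set G) : Set G)).index %
      Nat.card (centralizer ({x} : Set G)) = 1 % Nat.card (centralizer ({x} : Set G)) := by
  obtain ⟨hK, hKeq⟩ := F.cent_inverted ht hx
  obtain ⟨e, -, -, -, hodd⟩ := F.normalizer_facts ht hx
  set K := centralizer ({x} : Set G) with hKdef
  refine card_mod_eq_one (H := K) (X := G ⧸ normalizer (K : Set G)) ((1 : G) : G ⧸ _) (fun y => ?_)
    (fun y q hq => ?_)
  · refine QuotientGroup.eq.2 ?_
    simpa using Subgroup.le_normalizer (K.inv_mem y.2)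
  · obtain ⟨g, rfl⟩ := QuotientGroup.mk_surjective q
    by_cases hy1 : y = 1
    · exact Or.inl hy1
    refine Or.inr (QuotientGroup.eq.2 ?_)
    have hmem : g⁻¹ * y * g ∈ normalizer (K : Set G) := by
      have h := QuotientGroup.eq.1 hq
      have h' : ((y : G) * g)⁻¹ * g ∈ normalizer (K : Set G) := h
      simpa [mul_assoc] using inv_mem h'
    have hyG : (y : G) ≠ 1 := fun h => hy1 (Subtype.ext h)
    have hz : g⁻¹ * y * g ∈ K := hodd _ hmem (by
      rw [show g⁻¹ * (y : G) * g = g⁻¹ * y * g⁻¹⁻¹ by group, orderOf_conj]; exact (hK y y.2).1)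
    have hz1 : g⁻¹ * (y : G) * g ≠ 1 := fun h => hyG (by
      rw [show (y : G) = g * (g⁻¹ * y * g) * g⁻¹ by group, h]; group)
    have hconj : ∀ a, g * a * g⁻¹ ∈ K ↔ a ∈ K := fun a => by
      rw [← hKeq y y.2 hyG]
      nth_rw 1 [show (y : G) = g * (g⁻¹ * y * g) * g⁻¹ by group]
      rw [mem_centralizer_conj, hKeq _ hz hz1, hKeq y y.2 hyG]
    rw [mul_one]
    exact inv_mem (mem_normalizer_iff.2 fun a => (hconj a).symm)

omit F in
theorem odd_card_of_odd {K : Subgroup G} (h : ∀ y ∈ K, Odd (orderOf y)) : Odd (Nat.card K) := by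
  haveI : Fact (Nat.Prime 2) := ⟨Nat.prime_two⟩
  refine Nat.not_even_iff_odd.1 fun he => ?_
  obtain ⟨y, hy⟩ := exists_prime_orderOf_dvd_card' 2 (even_iff_two_dvd.1 he)
  have ho := h y y.2
  rw [Subgroup.orderOf_coe, hy] at ho
  exact absurd ho (by decide)

/-- Centralisers of inverted elements sharing a prime divisor are conjugate. -/
theorem exists_conj {s x t y : G} (hs : orderOf s = 2) (hx : Inverted s x) (ht : orderOf t = 2)
    (hy : Inverted t y) {p : ℕ} (hp : p.Prime) (hpx : p ∣ Nat.card (centralizer ({x} : Set G)))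
    (hpy : p ∣ Nat.card (centralizer ({y} : Set G))) :
    ∃ g : G, ∀ a, g * a * g⁻¹ ∈ centralizer ({y} : Set G) ↔ a ∈ centralizer ({x} : Set G) := by
  haveI := Fact.mk hp
  have sylow : ∀ {r z : G}, orderOf r = 2 → Inverted r z →
      p ∣ Nat.card (centralizer ({z} : Set G)) →
      ∃ P : Sylow p G, (P : Subgroup G) ≤ centralizer ({z} : Set G) ∧
        ∃ w ∈ (P : Subgroup G), w ≠ 1 := by
    intro r z hr hz hd
    obtain ⟨_, hKeq⟩ := F.cent_inverted hr hz
    obtain ⟨w, hw⟩ := exists_prime_orderOf_dvd_card' p hd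
    have hwG : orderOf (w : G) = p := by rw [Subgroup.orderOf_coe, hw]
    have hw1 : (w : G) ≠ 1 := fun h => by
      rw [h, orderOf_one] at hwG; exact hp.one_lt.ne hwG
    obtain ⟨P, hP⟩ := (IsPGroup.of_card (p := p) (n := 1) (G := zpowers (w : G))
      (by rw [Nat.card_zpowers, hwG, pow_one])).exists_le_sylow
    have hwP : (w : G) ∈ (P : Subgroup G) := hP (mem_zpowers _)
    haveI : Nontrivial (P : Subgroup G) :=
      (Subgroup.nontrivial_iff_exists_ne_one _).2 ⟨w, hwP, hw1⟩
    haveI : Finite (P : Subgroup G) := inferInstance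
    haveI : Nontrivial (center (P : Subgroup G)) := IsPGroup.center_nontrivial P.isPGroup'
    obtain ⟨u, hu⟩ := exists_ne (1 : center (P : Subgroup G))
    have huc : ∀ a ∈ (P : Subgroup G), a * ((u : (P : Subgroup G)) : G) = ((u : (P : Subgroup G)) : G) * a :=
      fun a ha => congrArg Subtype.val (Subgroup.mem_center_iff.1 u.2 ⟨a, ha⟩)
    set u' : G := ((u : (P : Subgroup G)) : G) with hu'
    have hu1 : u' ≠ 1 := fun h => hu (Subtype.ext (Subtype.ext h))
    have huK : u' ∈ centralizer ({z} : Set G) := by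
      rw [← hKeq w w.2 hw1, mem_centralizer_singleton_iff]
      exact (huc w hwP).symm
    refine ⟨P, fun a ha => ?_, w, hwP, hw1⟩
    rw [← hKeq u' huK hu1, mem_centralizer_singleton_iff]
    exact huc a ha
  obtain ⟨P, hP, w, hw, hw1⟩ := sylow hs hx hpx
  obtain ⟨Q, hQ, -⟩ := sylow ht hy hpy
  obtain ⟨g, hg⟩ := MulAction.exists_smul_eq G P Q
  refine ⟨g, fun a => ?_⟩
  have hgw : g * w * g⁻¹ ∈ centralizer ({y} : Set G) := hQ (by
    rw [← hg, Sylow.smul_def, Sylow.pointwise_smul_def]
    exact ⟨w, hw, rfl⟩)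
  rw [← (F.cent_inverted ht hy).2 _ hgw (fun h => hw1 (conj_eq_one_iff.1 h)), mem_centralizer_conj,
    (F.cent_inverted hs hx).2 w (hP hw) hw1]

/-- The order of the group. -/
theorem card_eq_of_fintype : Nat.card G = 20160 := by
  set n := T.index with hn
  have hG : Nat.card G = 64 * n := by rw [← T.card_mul_index, F.card_T]
  let I := univ.filter fun t : G => orderOf t = 2
  let R := univ.filter fun x : G => ∃ t, orderOf t = 2 ∧ Inverted t x
  let kx : G → ℕ := fun x => Nat.card (centralizer ({x} : Set G))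
  let D := R.image kx
  have hex : ∀ k ∈ D, ∃ t x, orderOf t = 2 ∧ Inverted t x ∧ kx x = k := by
    intro k hk
    obtain ⟨x, hx, hxk⟩ := Finset.mem_image.1 hk
    obtain ⟨t, ht, htx⟩ := (Finset.mem_filter.1 hx).2
    exact ⟨t, x, ht, htx, hxk⟩
  choose! tk xk hrep using hex
  have he : ∀ k ∈ D, ∃ e, (e = 2 ∨ e = 4 ∨ e = 8) ∧ e ∣ k - 1 ∧
      Nat.card (normalizer (centralizer ({xk k} : Set G) : Set G)) = k * e := by
    intro k hk
    obtain ⟨ht, hx, hxk⟩ := hrep k hk
    obtain ⟨e, h1, h2, h3, -⟩ := F.normalizer_facts ht hx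
    have hc : Nat.card (centralizer ({xk k} : Set G)) = k := hxk
    rw [hc] at h2 h3
    exact ⟨e, h1, h2, h3⟩
  choose! e he1 he2 he3 using he
  let q : ℕ → ℕ := fun k => (normalizer (centralizer ({xk k} : Set G) : Set G)).index
  have hq : ∀ k ∈ D, q k * (k * e k) = 64 * n := fun k hk => by
    rw [← hG, ← he3 k hk, mul_comm]
    exact Subgroup.card_mul_index _
  have hk3 : ∀ k ∈ D, 3 ≤ k ∧ Odd k ∧ k ∣ n := by
    intro k hk
    obtain ⟨ht, hx, hxk⟩ := hrep k hk
    have ho : Odd k := hxk ▸ odd_card_of_odd fun y hy => ((F.cent_inverted ht hx).1 y hy).1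
    have h1 : 1 < k := by
      rw [← hxk]
      haveI : Nontrivial (centralizer ({xk k} : Set G)) :=
        (Subgroup.nontrivial_iff_exists_ne_one _).2
          ⟨xk k, mem_centralizer_singleton_iff.2 rfl, hx.2.1⟩
      exact Finite.one_lt_card
    refine ⟨by obtain ⟨r, rfl⟩ := ho; omega, ho, ?_⟩
    have hd : k ∣ 2 ^ 6 * n := by
      rw [show (2 : ℕ) ^ 6 = 64 by norm_num, ← hG, ← hxk]
      exact Subgroup.card_subgroup_dvd_card _
    exact (Nat.Coprime.pow_right 6 ((Nat.prime_two.coprime_iff_not_dvd).2 fun h =>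
      Nat.not_even_iff_odd.2 ho (even_iff_two_dvd.2 h)).symm).dvd_of_dvd_mul_left hd
  have hsame : ∀ {s x t y : G}, orderOf s = 2 → Inverted s x → orderOf t = 2 → Inverted t y →
      ∀ {p : ℕ}, p.Prime → p ∣ kx x → p ∣ kx y → kx x = kx y := by
    intro s x t y hs hx ht hy p hp hpx hpy
    obtain ⟨g, hg⟩ := F.exists_conj hs hx ht hy hp hpx hpy
    exact Nat.card_congr ((MulAut.conj g).toEquiv.subtypeEquiv fun a => (hg a).symm)
  have hco : (D : Set ℕ).Pairwise Nat.Coprime := by
    intro a ha b hb hab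
    refine Nat.coprime_of_dvd' fun p hp hpa hpb => ?_
    exfalso
    obtain ⟨ht, hx, hxk⟩ := hrep a ha
    obtain ⟨hs, hy, hyk⟩ := hrep b hb
    exact hab (hxk ▸ hyk ▸ hsame ht hx hs hy hp (hxk.symm ▸ hpa) (hyk.symm ▸ hpb))
  -- counting the pairs
  have hcount : ∀ k ∈ D, (R.filter fun x => kx x = k).card = q k * (k - 1) := by
    intro k hk
    obtain ⟨ht, hx, hxk⟩ := hrep k hk
    obtain ⟨hK, hKeq⟩ := F.cent_inverted ht hx
    set K := centralizer ({xk k} : Set G) with hKdef
    have hk1 : Nat.card {y : G // y ∈ K ∧ y ≠ 1} = k - 1 := by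
      have h : Nat.card {y : G // y ∈ K ∧ y ≠ 1} = ((K : Set G) \ {1}).ncard :=
        Nat.card_coe_set_eq _
      rw [h, Set.ncard_diff_singleton_of_mem K.one_mem, ← Nat.card_coe_set_eq, ← hxk]
      rfl
    have hfun : ∀ (g : G) (y : G), y ∈ K → y ≠ 1 →
        g * y * g⁻¹ ∈ R.filter fun x => kx x = k := by
      intro g y hy hy1
      refine Finset.mem_filter.2 ⟨Finset.mem_filter.2 ⟨Finset.mem_univ _, g * tk k * g⁻¹,
        by rw [orderOf_conj]; exact ht, ⟨by rw [orderOf_conj]; exact (hK y hy).1,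
        fun h => hy1 (conj_eq_one_iff.1 h), ?_⟩⟩, ?_⟩
      · calc g * tk k * g⁻¹ * (g * y * g⁻¹) * (g * tk k * g⁻¹)
            = g * (tk k * y * tk k) * g⁻¹ := by group
          _ = (g * y * g⁻¹)⁻¹ := by rw [(hK y hy).2]; group
      · rw [← hxk]
        show Nat.card (centralizer ({g * y * g⁻¹} : Set G)) = Nat.card K
        rw [← hKeq y hy hy1]
        exact (Nat.card_congr
          ((MulAut.conj g).toEquiv.subtypeEquiv fun a => mem_centralizer_conj.symm)).symm
    rw [← hk1, ← Nat.card_eq_finsetCard]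
    change _ = Nat.card (G ⧸ normalizer (K : Set G)) * _
    rw [← Nat.card_prod]
    refine (Nat.card_congr (Equiv.ofBijective (fun p : (G ⧸ normalizer (K : Set G)) ×
        {y : G // y ∈ K ∧ y ≠ 1} =>
      (⟨p.1.out * p.2.1 * p.1.out⁻¹, hfun _ _ p.2.2.1 p.2.2.2⟩ :
        {x // x ∈ R.filter fun x => kx x = k})) ⟨fun a b hab => ?_, fun x => ?_⟩)).symm
    · obtain ⟨qa, ya, hya, hya1⟩ := a
      obtain ⟨qb, yb, hyb, hyb1⟩ := b
      have h : qa.out * ya * qa.out⁻¹ = qb.out * yb * qb.out⁻¹ := congrArg Subtype.val hab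
      set g := qb.out⁻¹ * qa.out with hg
      have hgy : g * ya * g⁻¹ = yb := by
        rw [hg]
        calc qb.out⁻¹ * qa.out * ya * (qb.out⁻¹ * qa.out)⁻¹
            = qb.out⁻¹ * (qa.out * ya * qa.out⁻¹) * qb.out := by group
          _ = qb.out⁻¹ * (qb.out * yb * qb.out⁻¹) * qb.out := by rw [h]
          _ = yb := by group
      have hgN : g ∈ normalizer (K : Set G) := mem_normalizer_iff.2 fun a => by
        have e1 := mem_centralizer_conj (g := g) (x := ya) (y := a)
        rw [hgy, hKeq yb hyb hyb1, hKeq ya hya hya1] at e1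
        exact e1.symm
      have hqq : qb = qa := by
        rw [← QuotientGroup.out_eq' qb, ← QuotientGroup.out_eq' qa]
        exact QuotientGroup.eq.2 hgN
      subst hqq
      exact Prod.ext rfl (Subtype.ext (mul_left_cancel (mul_right_cancel h)))
    · obtain ⟨x, hxm⟩ := x
      obtain ⟨hxR, hxk'⟩ := Finset.mem_filter.1 hxm
      obtain ⟨s, hs, hsx⟩ := (Finset.mem_filter.1 hxR).2
      obtain ⟨p, hp, hpd⟩ := Nat.exists_prime_and_dvd (show k ≠ 1 by have := (hk3 k hk).1; omega)
      obtain ⟨g, hg⟩ := F.exists_conj ht hx hs hsx hp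
        (by change p ∣ kx (xk k); rw [hxk]; exact hpd) (by change p ∣ kx x; rw [hxk']; exact hpd)
      set g' := (g : G ⧸ normalizer (K : Set G)).out with hg'
      have hn' : g⁻¹ * g' ∈ normalizer (K : Set G) :=
        QuotientGroup.eq.1 (QuotientGroup.out_eq' (g : G ⧸ normalizer (K : Set G))).symm
      have hy : g'⁻¹ * x * g' ∈ K := by
        have h1 : g⁻¹ * x * g ∈ K := (hg _).1 (by
          rw [show g * (g⁻¹ * x * g) * g⁻¹ = x by group]
          exact mem_centralizer_singleton_iff.2 rfl)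
        have h2 := (mem_normalizer_iff.1 hn' (g'⁻¹ * x * g')).2
        refine h2 ?_
        rwa [show g⁻¹ * g' * (g'⁻¹ * x * g') * (g⁻¹ * g')⁻¹ = g⁻¹ * x * g by group]
      have hy1 : g'⁻¹ * x * g' ≠ 1 := fun h => hsx.2.1 (by
        rw [show x = g' * (g'⁻¹ * x * g') * g'⁻¹ by group, h]; group)
      refine ⟨((g : G ⧸ normalizer (K : Set G)), ⟨_, hy, hy1⟩), Subtype.ext ?_⟩
      show g' * (g'⁻¹ * x * g') * g'⁻¹ = x
      group
  have hsum : 123 + 64 * ∑ k ∈ D, (k - 1) / e k = n := by
    have hrow : ∀ t ∈ I, 123 + (Finset.bipartiteAbove Inverted R t).card = n := fun t ht => by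
      rw [hn, ← F.card_inverted (Finset.mem_filter.1 ht).2]
      congr 2
      ext x
      simp only [Finset.bipartiteAbove, Finset.mem_filter, R, Finset.mem_univ, true_and]
      exact ⟨fun h => h.2, fun h => ⟨⟨t, (Finset.mem_filter.1 ht).2, h⟩, h⟩⟩
    have h1 := Finset.sum_card_bipartiteAbove_eq_sum_card_bipartiteBelow (r := Inverted) (s := I) (t := R)
    have h2 : ∀ x ∈ R, (Finset.bipartiteBelow Inverted I x).card = kx x := fun x hx => by
      obtain ⟨t, ht, htx⟩ := (Finset.mem_filter.1 hx).2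
      rw [Finset.bipartiteBelow, Finset.filter_filter]
      exact F.card_inverters ht htx
    rw [Finset.sum_congr rfl h2,
      ← Finset.sum_fiberwise_of_maps_to (t := D) (g := kx) fun x hx => Finset.mem_image_of_mem _ hx] at h1
    have h3 : ∀ k ∈ D, ∑ x ∈ R.filter (fun x => kx x = k), kx x = n * (64 * ((k - 1) / e k)) := by
      intro k hk
      rw [Finset.sum_congr rfl fun x hx => (Finset.mem_filter.1 hx).2, Finset.sum_const, hcount k hk,
        smul_eq_mul]
      obtain ⟨j, hj⟩ := he2 k hk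
      have hpos : 0 < e k := by rcases he1 k hk with h | h | h <;> omega
      rw [hj, Nat.mul_div_cancel_left _ hpos,
        show q k * (e k * j) * k = q k * (k * e k) * j by ring, hq k hk]
      ring
    rw [Finset.sum_congr rfl h3, ← Finset.mul_sum, ← Finset.mul_sum] at h1
    have hI : I.card = n := F.card_involutions
    have h4 : 123 * n + ∑ t ∈ I, (Finset.bipartiteAbove Inverted R t).card = n * n := by
      have h5 := Finset.sum_congr rfl hrow
      rw [Finset.sum_add_distrib, Finset.sum_const, Finset.sum_const, hI, smul_eq_mul, smul_eq_mul] at h5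
      rw [mul_comm 123 n]
      exact h5
    have hn0 : 0 < n := Nat.pos_of_ne_zero Subgroup.index_ne_zero_of_finite
    rw [h1] at h4
    exact Nat.eq_of_mul_eq_mul_left hn0 (by rw [mul_add, mul_comm n 123]; exact h4)
  have h315 : n = 315 := by
    refine Numerology.eq_315 D e ?_ F.odd_index (fun k hk => ?_) hco hsum.symm
    · have h : 15 ∣ 2 ^ 6 * n := by
        rw [show (2 : ℕ) ^ 6 = 64 by norm_num, ← hG]
        exact (show (15 : ℕ) ∣ 960 by norm_num).trans
          (F.card_normalizer_V ▸ Subgroup.card_subgroup_dvd_card _)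
      exact (Nat.Coprime.dvd_of_dvd_mul_left (by decide) h)
    · obtain ⟨ht, hx, hxk⟩ := hrep k hk
      refine ⟨(hk3 k hk).1, (hk3 k hk).2.2, he1 k hk, he2 k hk, q k, hq k hk, ?_⟩
      have h := F.index_mod ht hx
      change q k % kx (xk k) = 1 % kx (xk k) at h
      rw [hxk] at h
      rw [h]
      exact Nat.mod_eq_of_lt (by have := (hk3 k hk).1; omega)
  rw [hG, h315]

end FourFrame

/-- The configuration of `PSL₃` over four elements has order `20160`. -/
theorem FourFrame.card_eq {G : Type*} [Group G] [Finite G] [IsSimpleGroup G] {T V A : Subgroup G}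
    (F : FourFrame T V A) : Nat.card G = 20160 :=
  haveI := Fintype.ofFinite G
  F.card_eq_of_fintype

end CfsgLib.CITGroups
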