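import Cfsg.Agent.CITGroups.Basic
import Cfsg.Agent.EPPOSeven.Dihedral

/-!
# A self-centralising four group in a group with two-group involution centralisers gives `PSL₂`

The argument is the one of `EPPOSeven.Dihedral`, needing of the hypothesis only that centralisers of
involutions are two-groups.
-/

set_option autoImplicit false
set_option linter.style.haveILetI false
set_option linter.unusedSectionVars false

namespace CfsgLib.CITGroups

open Subgroup
open scoped commutatorElement
open CfsgLib.EPPOSeven (index_commutator_of_centralizer_four orderOf_two_of_sq_one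
  sq_one_of_orderOf_two exists_two_pow_of_mem)

variable {G : Type*} [Group G] [Finite G]

/-- A self-centralising four group makes the group `PSL₂` over a field of odd order. -/
theorem psl_of_four (h : IsCIT G) [IsSimpleGroup G] (hna : ∃ a b : G, a * b ≠ b * a) (S : Sylow 2 G)
    (V : Subgroup G) (hVS : V ≤ S) (hV4 : Nat.card V = 4) (hV2 : ∀ v ∈ V, v * v = 1)
    (hVc : centralizer (V : Set G) = V) (hS8 : 8 ≤ Nat.card (S : Subgroup G)) :
    ∃ (F : Type) (_ : Field F) (_ : Fintype F), Odd (Fintype.card F) ∧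
      Nonempty (G ≃* Matrix.ProjectiveSpecialLinearGroup (Fin 2) F) := by
  classical
  haveI : Fact (Nat.Prime 2) := ⟨Nat.prime_two⟩
  obtain ⟨n, hn⟩ := IsPGroup.iff_card.1 S.2
  have hn3 : 3 ≤ n := by
    by_contra h
    have : 2 ^ n ≤ 2 ^ 2 := Nat.pow_le_pow_right two_pos (by omega)
    omega
  haveI : Nontrivial (S : Subgroup G) := Finite.one_lt_card_iff_nontrivial.1 (by omega)
  haveI := S.2.center_nontrivial
  -- a central involution `v` and a second involution `w` of `V`
  obtain ⟨k, hk⟩ := IsPGroup.iff_card.1 (S.2.to_subgroup (center (S : Subgroup G)))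
  have hk0 : k ≠ 0 := fun e => by
    rw [e, pow_zero] at hk
    have := Finite.one_lt_card (α := center (S : Subgroup G))
    omega
  obtain ⟨c, hc⟩ := exists_prime_orderOf_dvd_card' (G := center (S : Subgroup G)) 2
    (hk ▸ dvd_pow_self 2 hk0)
  set v : G := ((c : (S : Subgroup G)) : G) with hv
  have hvS : v ∈ (S : Subgroup G) := c.1.2
  have hvo : orderOf v = 2 := by rw [hv, Subgroup.orderOf_coe, Subgroup.orderOf_coe, hc]
  have hvc : ∀ z ∈ (S : Subgroup G), z * v = v * z := fun z hz =>
    congrArg Subtype.val (mem_center_iff.1 c.2 ⟨z, hz⟩)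
  have hvV : v ∈ V := by
    have : v ∈ centralizer (V : Set G) := mem_centralizer_iff.2 fun u hu => hvc u (hVS hu)
    rwa [hVc] at this
  have hCv : centralizer ({v} : Set G) = (S : Subgroup G) :=
    S.3 (h v hvo)
      fun z hz => mem_centralizer_singleton_iff.2 (hvc z hz)
  obtain ⟨w, hw, hwv, hw1⟩ : ∃ w ∈ V, w ≠ v ∧ w ≠ 1 := by
    by_contra hcon
    push Not at hcon
    haveI := Fintype.ofFinite V
    rw [Nat.card_eq_fintype_card] at hV4
    have : (Finset.univ : Finset V) ⊆ {1, ⟨v, hvV⟩} := fun u _ => by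
      by_cases hu : (u : G) = v
      · simp [Subtype.ext_iff, hu]
      · simp [Subtype.ext_iff, hcon u u.2 hu]
    have := Finset.card_le_card this
    have h2 := Finset.card_le_two (a := (1 : V)) (b := ⟨v, hvV⟩)
    rw [Finset.card_univ] at this
    omega
  have hwS : w ∈ (S : Subgroup G) := hVS hw
  have hwo : orderOf w = 2 := orderOf_two_of_sq_one (hV2 w hw) hw1
  have hv1 : v ≠ 1 := fun e => by rw [e, orderOf_one] at hvo; omega
  have hVab : ∀ a ∈ V, ∀ b ∈ V, a * b = b * a := fun a ha b hb =>
    (mem_centralizer_iff.1 (hVc.ge ha) b hb).symm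
  have hVgen : ∀ u ∈ V, u = 1 ∨ u = v ∨ u = w ∨ u = v * w := by
    intro u hu
    by_contra hcon
    push Not at hcon
    obtain ⟨h1, h2, h3, h4⟩ := hcon
    let f : Fin 5 → V := ![1, ⟨v, hvV⟩, ⟨w, hw⟩, ⟨v * w, mul_mem hvV hw⟩, ⟨u, hu⟩]
    have hinj : Function.Injective f := by
      have e1 : v * w ≠ 1 := fun e => hwv (by
        rw [eq_inv_of_mul_eq_one_right e, inv_eq_of_mul_eq_one_right (hV2 v hvV)])
      have e2 : v * w ≠ v := fun e => hw1 (mul_eq_left.1 e)
      have e3 : v * w ≠ w := fun e => hv1 (mul_eq_right.1 e)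
      intro i j hij
      have := congrArg (fun z : V => (z : G)) hij
      fin_cases i <;> fin_cases j <;> first
        | rfl
        | exact absurd this hv1 | exact absurd this.symm hv1
        | exact absurd this hw1 | exact absurd this.symm hw1
        | exact absurd this hwv | exact absurd this.symm hwv
        | exact absurd this e1 | exact absurd this.symm e1
        | exact absurd this e2 | exact absurd this.symm e2
        | exact absurd this e3 | exact absurd this.symm e3
        | exact absurd this h1 | exact absurd this.symm h1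
        | exact absurd this h2 | exact absurd this.symm h2
        | exact absurd this h3 | exact absurd this.symm h3
        | exact absurd this h4 | exact absurd this.symm h4
    have := Nat.card_le_card_of_injective f hinj
    rw [Nat.card_fin] at this
    omega
  have hCw : ∀ z ∈ (S : Subgroup G), Commute z w → z ∈ V := by
    intro z hz hzw
    rw [← hVc]
    refine mem_centralizer_iff.2 fun u hu => ?_
    rcases hVgen u hu with rfl | rfl | rfl | rfl
    · simp
    · exact (hvc z hz).symm
    · exact hzw.eq.symm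
    · exact ((show Commute z v from hvc z hz).mul_right hzw).eq.symm
  let w' : (S : Subgroup G) := ⟨w, hwS⟩
  have hCw4 : Nat.card (centralizer ({w'} : Set (S : Subgroup G))) = 4 := by
    rw [← hV4]
    refine Nat.card_congr
      { toFun := fun z => ⟨z.1, hCw _ z.1.2 (congrArg Subtype.val (mem_centralizer_singleton_iff.1 z.2))⟩
        invFun := fun u => ⟨⟨u, hVS u.2⟩, mem_centralizer_singleton_iff.2 (Subtype.ext (hVab u u.2 w hw))⟩
        left_inv := fun z => rfl
        right_inv := fun u => rfl }
  have hidx := index_commutator_of_centralizer_four hn hn3 w' hCw4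
  obtain ⟨D⟩ := CfsgLib.MaxClassTwo.exists_data hn3 hn hidx
  set a : G := ((D.a : (S : Subgroup G)) : G) with ha
  have haS : a ∈ (S : Subgroup G) := D.a.2
  have hao : orderOf a = 2 ^ (n - 1) := by rw [ha, Subgroup.orderOf_coe, D.order]
  set t : G := a ^ 2 ^ (n - 2) with ht
  have hto : orderOf t = 2 := by
    rw [ht, orderOf_pow, hao, Nat.gcd_eq_right (pow_dvd_pow 2 (by omega)),
      Nat.pow_div (by omega) two_pos, show n - 1 - (n - 2) = 1 by omega, pow_one]
  have hpow2 : ∀ i : ℤ, t ^ i = 1 ∨ t ^ i = t := fun i => by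
    rw [← zpow_mod_orderOf, hto]
    rcases Int.emod_two_eq_zero_or_one i with h | h <;> simp [h]
  have hA : ∀ z ∈ zpowers a, z * z = 1 → z = 1 ∨ z = t := by
    intro z hz hz2
    obtain ⟨i, rfl⟩ := mem_zpowers_iff.1 hz
    rw [← zpow_add] at hz2
    have hd := orderOf_dvd_iff_zpow_eq_one.2 hz2
    rw [hao] at hd
    obtain ⟨l, hl⟩ := hd
    have hi : i = 2 ^ (n - 2) * l := by
      have : ((2 ^ (n - 1) : ℕ) : ℤ) = 2 * 2 ^ (n - 2) := by
        rw [show n - 1 = n - 2 + 1 by omega, pow_succ]; push_cast; ring
      rw [this] at hl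
      linarith
    rw [hi, zpow_mul, show (2 : ℤ) ^ (n - 2) = ((2 ^ (n - 2) : ℕ) : ℤ) by push_cast; rfl,
      zpow_natCast]
    exact hpow2 l
  have hnormA : ∀ z ∈ (S : Subgroup G), ∀ u ∈ zpowers a, z * u * z⁻¹ ∈ zpowers a := by
    intro z hz u hu
    haveI : (zpowers D.a).Normal := normal_of_index_eq_two D.index
    obtain ⟨i, rfl⟩ := mem_zpowers_iff.1 hu
    obtain ⟨j, hj⟩ := mem_zpowers_iff.1
      ((inferInstance : (zpowers D.a).Normal).conj_mem (D.a ^ i) (zpow_mem (mem_zpowers _) i) ⟨z, hz⟩)
    exact ⟨j, by simpa [ha] using congrArg Subtype.val hj⟩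
  have htA : t ∈ zpowers a := pow_mem (mem_zpowers a) _
  have ht1 : t ≠ 1 := fun e => by rw [e, orderOf_one] at hto; omega
  have htS : t ∈ (S : Subgroup G) := pow_mem haS _
  have htc : ∀ z ∈ (S : Subgroup G), z * t = t * z := by
    intro z hz
    rcases hA _ (hnormA z hz t htA) (by
      rw [show z * t * z⁻¹ * (z * t * z⁻¹) = z * (t * t) * z⁻¹ by group, sq_one_of_orderOf_two hto,
        mul_one, mul_inv_cancel]) with h | h
    · exact absurd (conj_eq_one_iff.1 h) ht1
    · exact mul_inv_eq_iff_eq_mul.1 h
  have hwA : w ∉ zpowers a := by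
    intro hwa
    -- then every element of `⟨a⟩` and the outer element centralise `w`
    have h1 : w = t := (hA w hwa (hV2 w hw)).resolve_left hw1
    have h2 : ∀ z ∈ (S : Subgroup G), z ∈ V := fun z hz => hCw z hz (h1 ▸ htc z hz)
    have := card_le_of_le (show (S : Subgroup G) ≤ V from h2)
    omega
  have hwinv : w⁻¹ = w := inv_eq_of_mul_eq_one_right (hV2 w hw)
  have hSA : ∀ z ∈ (S : Subgroup G), z ∈ zpowers a ∨ ∃ i : ℤ, z = w * a ^ i := by
    have hmem : ∀ z : (S : Subgroup G), z ∈ zpowers D.a → (z : G) ∈ zpowers a := by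
      rintro z ⟨i, rfl⟩
      exact ⟨i, by simp [ha]⟩
    intro z hz
    by_cases hza : (⟨z, hz⟩ : (S : Subgroup G)) ∈ zpowers D.a
    · exact Or.inl (hmem _ hza)
    · right
      have hw' : w' ∉ zpowers D.a := fun h => hwA (hmem _ h)
      have h2 : w' * ⟨z, hz⟩ ∈ zpowers D.a :=
        (mul_mem_iff_of_index_two D.index).2 ⟨fun h => absurd h hw', fun h => absurd h hza⟩
      obtain ⟨i, hi⟩ := mem_zpowers_iff.1 (hmem _ h2)
      exact ⟨i, by
        rw [show a ^ i = w * z from hi, ← mul_assoc, hV2 w hw, one_mul]⟩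
  -- conjugation by `w` on `a`
  have hwa : w * a * w⁻¹ = a⁻¹ ∨ w * a * w⁻¹ = a⁻¹ * t := by
    have hk : w' * D.a * w'⁻¹ = D.a ^ D.k := by
      rcases D.mul_mem_cases w' with h | ⟨i, h⟩
      · obtain ⟨i, hi⟩ := mem_zpowers_iff.1 h
        exact absurd ⟨i, by simpa [ha] using congrArg Subtype.val hi⟩ hwA
      · rw [h, show D.b * D.a ^ i * D.a * (D.b * D.a ^ i)⁻¹ = D.b * D.a * D.b⁻¹ by group]
        exact D.conj
    have hk' : w * a * w⁻¹ = a ^ D.k := by simpa [ha] using congrArg Subtype.val hk
    obtain ⟨l, hl⟩ := D.inv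
    have hkl : a ^ D.k = a⁻¹ * t ^ l := by
      rw [show D.k = -1 + 2 ^ (n - 2) * l by linarith, zpow_add, zpow_neg_one, zpow_mul,
        show (2 : ℤ) ^ (n - 2) = ((2 ^ (n - 2) : ℕ) : ℤ) by push_cast; rfl, zpow_natCast]
    rcases hpow2 l with h | h <;> rw [hk', hkl, h]
    · exact Or.inl (mul_one _)
    · exact Or.inr rfl
  rcases hwa with hdih | hsd
  · obtain ⟨e⟩ := CfsgLib.TwoGroups.nonempty_equiv_dihedral (H := (S : Subgroup G)) haS hwS hao
      (hV2 w hw) hdih hwA (by rw [hn, ← pow_succ']; congr 1; omega)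
    have hO : ((Cfsg.oddCore (centralizer ({v} : Set G))).map (centralizer ({v} : Set G)).subtype) = ⊥ := by
      rw [Subgroup.map_eq_bot_iff_of_injective _ (centralizer ({v} : Set G)).subtype_injective]
      obtain ⟨j, hj⟩ := IsPGroup.iff_card.1
        ((h v hvo).to_subgroup (Cfsg.oddCore (centralizer ({v} : Set G))))
      have := CfsgLib.TwoGroups.odd_card_oddCore (G := centralizer ({v} : Set G))
      rw [hj] at this
      refine card_eq_one.1 ?_
      rw [hj]
      rcases Nat.eq_zero_or_pos j with rfl | hj0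
      · rfl
      · exact absurd this (Nat.not_odd_iff_even.2 ((Nat.even_pow' hj0.ne').2 even_two))
    exact CfsgLib.Classification.DihedralBSW.exists_equiv S (2 ^ (n - 1))
      (by have : 2 ^ 1 ≤ 2 ^ (n - 1) := Nat.pow_le_pow_right two_pos (by omega); simpa using this)
      ⟨e⟩ v hvo hvS hvc ⊥ hO.symm (fun h => absurd rfl h)
      (fun s _ hs => absurd (mem_centralizer_iff.2 fun y hy => by
        rw [mem_bot.1 hy, one_mul, mul_one]) hs)
      (fun Y hY hY1 => absurd (le_bot_iff.1 hY) hY1)
  · -- the semidihedral case contradicts the focal subgroup theorem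
    exfalso
    set H := zpowers (a * a) ⊔ zpowers w with hH
    have htH : t ∈ H := mem_sup_left ⟨((2 ^ (n - 3) : ℕ) : ℤ), by
      show (a * a) ^ ((2 ^ (n - 3) : ℕ) : ℤ) = t
      rw [zpow_natCast, ← pow_two, ← pow_mul, ht]
      congr 1
      rw [← pow_succ']; congr 1; omega⟩
    have heven : ∀ i : ℤ, 2 ∣ i → a ^ i ∈ H := by
      rintro i ⟨l, rfl⟩
      refine mem_sup_left ⟨l, ?_⟩
      show (a * a) ^ l = a ^ (2 * l)
      rw [zpow_mul, show (2 : ℤ) = ((2 : ℕ) : ℤ) from rfl, zpow_natCast, pow_two]
    have hsq : ∀ i : ℤ, (w * a ^ i) * (w * a ^ i) = t ^ i := by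
      intro i
      have hct : Commute a⁻¹ t := (show Commute a t from htc a haS).inv_left
      calc w * a ^ i * (w * a ^ i) = (w * a ^ i * w⁻¹) * a ^ i := by rw [hwinv]; group
        _ = (w * a * w⁻¹) ^ i * a ^ i := by rw [conj_zpow]
        _ = (a⁻¹) ^ i * t ^ i * a ^ i := by rw [hsd, hct.mul_zpow]
        _ = t ^ i := by
            rw [mul_assoc, ((show Commute t a from (htc a haS).symm).zpow_zpow i i).eq, ← mul_assoc,
              inv_zpow, inv_mul_cancel, one_mul]
    have hinvH : ∀ z ∈ (S : Subgroup G), z * z = 1 → z ∈ H := by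
      intro z hz hz2
      rcases hSA z hz with h | ⟨i, rfl⟩
      · rcases hA z h hz2 with rfl | rfl
        · exact one_mem _
        · exact htH
      · rw [hsq] at hz2
        have := orderOf_dvd_iff_zpow_eq_one.2 hz2
        rw [hto] at this
        exact mul_mem (mem_sup_right (mem_zpowers w)) (heven i (by exact_mod_cast this))
    have hwn : zpowers w ≤ normalizer ((zpowers (a * a) : Subgroup G) : Set G) := by
      have key : ∀ u ∈ zpowers (a * a), w * u * w⁻¹ ∈ zpowers (a * a) := by
        intro u hu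
        obtain ⟨i, rfl⟩ := mem_zpowers_iff.1 hu
        refine ⟨-i, ?_⟩
        show (a * a) ^ (-i) = w * (a * a) ^ i * w⁻¹
        have hct : Commute a⁻¹ t := (show Commute a t from htc a haS).inv_left
        rw [← conj_zpow, show w * (a * a) * w⁻¹ = (w * a * w⁻¹) * (w * a * w⁻¹) by group, hsd,
          show a⁻¹ * t * (a⁻¹ * t) = a⁻¹ * (t * a⁻¹) * t by simp only [mul_assoc], ← hct.eq,
          show a⁻¹ * (a⁻¹ * t) * t = (a * a)⁻¹ * (t * t) by group, sq_one_of_orderOf_two hto, mul_one,
          zpow_neg, inv_zpow]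
      refine zpowers_le.2 (mem_normalizer_iff.2 fun u => ⟨key u, fun hu => ?_⟩)
      have := key _ hu
      rwa [hwinv, show w * (w * u * w) * w = (w * w) * u * (w * w) by group, hV2 w hw, one_mul,
        mul_one] at this
    have haH : a ∉ H := by
      intro h
      rw [hH, ← SetLike.mem_coe, coe_mul_of_right_le_normalizer_left _ _ hwn] at h
      obtain ⟨p, hp, q, hq, hpq⟩ := h
      have hq' : q = 1 ∨ q = w := by
        obtain ⟨i, rfl⟩ := mem_zpowers_iff.1 hq
        rw [← zpow_mod_orderOf, hwo]
        rcases Int.emod_two_eq_zero_or_one i with h' | h' <;> simp [h']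
      obtain ⟨i, rfl⟩ := mem_zpowers_iff.1 hp
      rcases hq' with rfl | hqw
      · have e : a ^ (2 * i) = a := by
          rw [zpow_mul, show (2 : ℤ) = ((2 : ℕ) : ℤ) from rfl, zpow_natCast, pow_two]
          simpa using hpq
        have h1 : a ^ (2 * i - 1) = 1 := by rw [zpow_sub, zpow_one, e, mul_inv_cancel]
        have := orderOf_dvd_iff_zpow_eq_one.2 h1
        rw [hao, show n - 1 = n - 2 + 1 by omega, pow_succ'] at this
        push_cast at this
        have h2 : (2 : ℤ) ∣ 2 * i - 1 := (dvd_mul_right 2 _).trans this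
        omega
      · rw [hqw] at hpq
        refine hwA ?_
        have : w = ((a * a) ^ i)⁻¹ * a := by
          rw [show ((a * a) ^ i)⁻¹ * a = ((a * a) ^ i)⁻¹ * ((a * a) ^ i * w) by
            rw [show (a * a) ^ i * w = a from hpq]]
          group
        rw [this]
        exact mul_mem (inv_mem (zpow_mem (mul_mem (mem_zpowers a) (mem_zpowers a)) i)) (mem_zpowers a)
    have hcommH : ∀ z ∈ (S : Subgroup G), ∀ u ∈ (S : Subgroup G), z * u * z⁻¹ * u⁻¹ ∈ H := by
      intro z hz u hu
      have h1 : ⁅(⟨z, hz⟩ : (S : Subgroup G)), (⟨u, hu⟩ : (S : Subgroup G))⁆ ∈ zpowers (D.a ^ (D.k - 1)) :=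
        D.derived (commutator_mem_commutator (mem_top _) (mem_top _))
      obtain ⟨i, hi⟩ := mem_zpowers_iff.1 h1
      have hi' : (a ^ (D.k - 1)) ^ i = z * u * z⁻¹ * u⁻¹ := by
        simpa [ha, commutatorElement_def] using congrArg Subtype.val hi
      rw [← hi', ← zpow_mul]
      refine heven _ (Dvd.dvd.mul_right ?_ i)
      obtain ⟨l, hl⟩ := D.inv
      rw [show D.k - 1 = 2 ^ (n - 2) * l - 2 by linarith]
      exact dvd_sub ((dvd_pow_self 2 (by omega)).mul_right l) dvd_rfl
    have hfocal : (S : Subgroup G).focalSubgroup ≤ H := by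
      rw [Subgroup.focalSubgroup_def, closure_le]
      rintro _ ⟨hgS, z, hz, u, rfl⟩
      have hy : u * z⁻¹ * u⁻¹ ∈ (S : Subgroup G) := by
        have := mul_mem (inv_mem hz) hgS
        simpa [commutatorElement_def, mul_assoc] using this
      obtain ⟨j, hj⟩ := exists_two_pow_of_mem S.2 hz
      show z * u * z⁻¹ * u⁻¹ ∈ H
      by_cases hj1 : j ≤ 1
      · have hz2 : z * z = 1 := by
          rw [← pow_two, ← orderOf_dvd_iff_pow_eq_one, hj]; exact pow_dvd_pow 2 hj1
        rw [show z * u * z⁻¹ * u⁻¹ = z * (u * z⁻¹ * u⁻¹) by group]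
        refine mul_mem (hinvH z hz hz2) (hinvH _ hy ?_)
        rw [show u * z⁻¹ * u⁻¹ * (u * z⁻¹ * u⁻¹) = u * (z * z)⁻¹ * u⁻¹ by group, hz2, inv_one,
          mul_one, mul_inv_cancel]
      · -- `u` centralises the only square involution
        have hsquare : ∀ r ∈ (S : Subgroup G), (r * r) * (r * r) = 1 → r * r ≠ 1 → r * r = t := by
          intro r hr h4 h2
          rcases hSA r hr with h | ⟨i, rfl⟩
          · exact (hA _ (mul_mem h h) h4).resolve_left h2
          · rw [hsq] at h2 ⊢
            exact (hpow2 i).resolve_left h2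
        set r := z ^ 2 ^ (j - 2) with hr
        have hro : orderOf r = 4 := by
          rw [hr, orderOf_pow, hj, Nat.gcd_eq_right (pow_dvd_pow 2 (by omega)),
            Nat.pow_div (by omega) two_pos, show j - (j - 2) = 2 by omega]
          norm_num
        have hr4 : r * r * (r * r) = 1 := by
          rw [show r * r * (r * r) = r ^ 4 by simp [pow_succ, mul_assoc], ← hro, pow_orderOf_eq_one]
        have hr2 : r * r ≠ 1 := fun e => by
          have : orderOf r ∣ 2 := orderOf_dvd_of_pow_eq_one (by rw [pow_two, e])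
          rw [hro] at this
          norm_num at this
        have hrt : r * r = t := hsquare r (pow_mem hz _) hr4 hr2
        set q := u * r⁻¹ * u⁻¹ with hq
        have hqS : q ∈ (S : Subgroup G) := by
          rw [hq, hr, ← inv_pow, ← conj_pow]
          exact pow_mem hy _
        have htinv : t⁻¹ = t := inv_eq_of_mul_eq_one_right (sq_one_of_orderOf_two hto)
        have hq2 : q * q = u * t * u⁻¹ := by
          rw [hq, show u * r⁻¹ * u⁻¹ * (u * r⁻¹ * u⁻¹) = u * (r * r)⁻¹ * u⁻¹ by group, hrt, htinv]
        have hqt : u * t * u⁻¹ = t := by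
          rw [← hq2]
          refine hsquare q hqS ?_ ?_
          · rw [hq2, show u * t * u⁻¹ * (u * t * u⁻¹) = u * (t * t) * u⁻¹ by group,
              sq_one_of_orderOf_two hto, mul_one, mul_inv_cancel]
          · rw [hq2]; exact fun e => ht1 (conj_eq_one_iff.1 e)
        have htv : t = v := by
          have htV : t ∈ V := hCw t htS (htc w hwS).symm
          rcases hVgen t htV with h | h | h | h
          · exact absurd h ht1
          · exact h
          · exact absurd (h ▸ htA) hwA
          · exfalso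
            have h3 := htc a haS
            rw [h] at h3
            have hav := hvc a haS
            have h5 : Commute a w := by
              have : Commute a (v⁻¹ * (v * w)) := (show Commute a v from hav).inv_right.mul_right h3
              rwa [inv_mul_cancel_left] at this
            have haV : a ∈ V := hCw a haS h5
            have h6 := hV2 a haV
            rw [← pow_two, ← orderOf_dvd_iff_pow_eq_one, hao] at h6
            have := Nat.le_of_dvd two_pos h6
            have : 2 ^ 2 ≤ 2 ^ (n - 1) := Nat.pow_le_pow_right two_pos (by omega)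
            omega
        have huS : u ∈ (S : Subgroup G) := by
          rw [← hCv, mem_centralizer_singleton_iff, ← htv]
          exact mul_inv_eq_iff_eq_mul.1 hqt
        exact hcommH z hz u huS
    have htop : commutator G = ⊤ := by
      rcases (inferInstance : (commutator G).Normal).eq_bot_or_eq_top with h | h
      · exfalso
        obtain ⟨p, q, hpq⟩ := hna
        refine hpq ?_
        have : ⁅p, q⁆ = 1 := by
          rw [← mem_bot, ← h]; exact commutator_mem_commutator (mem_top p) (mem_top q)
        exact commutatorElement_eq_one_iff_mul_comm.1 this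
      · exact h
    have hfoc := Subgroup.commutator_inf_eq_focalSubgroup S
    rw [htop, top_inf_eq] at hfoc
    exact haH (hfocal (hfoc ▸ haS))

end CfsgLib.CITGroups
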