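import Cfsg.Agent.CITGroups.Local
import Cfsg.Agent.SEmbed.ProjectiveLine
import Cfsg.Agent.HigmanSL2.Main
import Cfsg.Agent.PLocal.TwoTransvection

/-!
# `D` is the natural module of `SL₂` over a field of characteristic two
-/

set_option autoImplicit false
set_option linter.style.haveILetI false
set_option linter.unusedSectionVars false

namespace CfsgLib.CITGroups

open Subgroup
open scoped commutatorElement MatrixGroups
open CfsgLib.EPPOSeven (JT MaxPair omegaCentral)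
open CfsgLib.PLocal.SL2 (up)

variable {G : Type*} [Group G] [Finite G]

/-- Coordinates on `D` and on `N` modulo `D`, the Sylow subgroup `T` being upper unitriangular. -/
structure Natural (M : MaxPair G) (K : Type*) [Field K] where
  π : M.N →* SL(2, K)
  vec : G → (Fin 2 → K)
  two : (2 : K) = 0
  card_K : Nat.card K = Nat.card (fixT M)
  surj : Function.Surjective π
  ker : ∀ g : M.N, π g = 1 ↔ (g : G) ∈ M.D
  omega_eq : omegaCentral M.D = M.D
  vec_mul : ∀ u ∈ M.D, ∀ v ∈ M.D, vec (u * v) = vec u + vec v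
  vec_inj : ∀ u ∈ M.D, ∀ v ∈ M.D, vec u = vec v → u = v
  vec_surj : ∀ x, ∃ u ∈ M.D, vec u = x
  vec_conj : ∀ (g : M.N), ∀ u ∈ M.D,
    vec ((g : G) * u * (g : G)⁻¹) = (π g : Matrix (Fin 2) (Fin 2) K).mulVec (vec u)
  mem_T : ∀ g : M.N, (g : G) ∈ M.T ↔ (π g) 1 0 = 0 ∧ (π g) 0 0 = 1
  mem_stab : ∀ g : M.N, (g : G) ∈ stab M ↔ (π g) 1 0 = 0
  mem_fix : ∀ u ∈ M.D, u ∈ fixT M ↔ vec u 1 = 0

theorem center_SL2_char_two {F : Type*} [Field F] (h2 : (2 : F) = 0) :
    center (SL(2, F)) = ⊥ := by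
  refine (eq_bot_iff_forall _).2 fun A hA => ?_
  obtain ⟨r, hr, hA'⟩ := Matrix.SpecialLinearGroup.mem_center_iff.1 hA
  rw [Fintype.card_fin, sq] at hr
  have hr1 : r = 1 := by
    rcases mul_self_eq_one_iff.1 hr with h | h
    · exact h
    · rw [h]
      linear_combination -h2
  apply Subtype.ext
  rw [← hA', hr1, map_one]
  rfl

theorem mem_range_up {K : Type*} [Field K] {A : SL(2, K)} (h10 : A 1 0 = 0) (h00 : A 0 0 = 1) :
    A = up (A 0 1) := by
  have := CfsgLib.PLocal.SL2.det2 A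
  rw [h10, h00, mul_zero, sub_zero, one_mul] at this
  exact CfsgLib.PLocal.SL2.ext2 (by simp [h00]) (by simp) (by simp [h10]) (by simp [this])

theorem card_eq_ker_mul_range {A B : Type*} [Group A] [Group B] (f : A →* B) :
    Nat.card A = Nat.card f.ker * Nat.card f.range := by
  rw [← f.ker.card_mul_index, Subgroup.index_ker]

theorem four_le_or_two (L : Subgroup G) (hL : IsPGroup 2 L) (h1 : 1 < Nat.card L) :
    Nat.card L = 2 ∨ 4 ≤ Nat.card L := by
  haveI : Fact (Nat.Prime 2) := ⟨Nat.prime_two⟩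
  obtain ⟨n, hn⟩ := IsPGroup.iff_card.1 hL
  match n, hn with
  | 0, hn => omega
  | 1, hn => exact Or.inl hn
  | n + 2, hn =>
    refine Or.inr (hn ▸ ?_)
    calc 4 = 2 ^ 2 := rfl
      _ ≤ 2 ^ (n + 2) := Nat.pow_le_pow_right two_pos (by omega)

theorem exists_natural (h : IsCIT G) (M : MaxPair G) (hq : 4 ≤ Nat.card (fixT M)) :
    ∃ (K : Type) (_ : Field K) (_ : Fintype K), Nonempty (Natural M K) := by
  classical
  haveI : Fact (Nat.Prime 2) := ⟨Nat.prime_two⟩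
  have Q := quotData h M
  have L := localData h M
  have hTN : M.T ≤ M.N := inf_le_right
  haveI hDn : (M.D.subgroupOf M.N).Normal :=
    normal_subgroupOf_iff_le_normalizer le_normalizer |>.2 le_rfl
  set p := QuotientGroup.mk' (M.D.subgroupOf M.N) with hp
  have hp1 : ∀ x : M.N, p x = 1 ↔ (x : G) ∈ M.D := fun x => by
    rw [hp, QuotientGroup.mk'_apply, QuotientGroup.eq_one_iff]; rfl
  -- the Sylow subgroup of the quotient
  let ST : Sylow 2 M.N :=
    ⟨M.T.subgroupOf M.N, M.T_isPGroup.comap_subtype, fun {Z} hZ hle => by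
      have := M.max₁ (Z.map M.N.subtype) (hZ.map _) (map_subtype_le _) (by
        intro t ht
        exact ⟨⟨t, hTN ht⟩, hle ht, rfl⟩)
      rw [← comap_map_eq_self_of_injective M.N.subtype_injective Z, this]
      rfl⟩
  let SX := ST.mapSurjective (QuotientGroup.mk'_surjective (M.D.subgroupOf M.N))
  have hSX : (SX : Subgroup (M.N ⧸ M.D.subgroupOf M.N)) = (M.T.subgroupOf M.N).map p := rfl
  have hmemSX : ∀ x : M.N, p x ∈ SX ↔ (x : G) ∈ M.T := by
    intro x
    constructor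
    · rintro ⟨y, hy, hxy⟩
      have h1 : p (y⁻¹ * x) = 1 := by rw [map_mul, map_inv, hxy, inv_mul_cancel]
      have := mul_mem (show (y : G) ∈ M.T from hy) (M.D_le_T ((hp1 _).1 h1))
      simpa using this
    · exact fun hx => ⟨x, hx, rfl⟩
  have hSXcard : Nat.card (SX : Subgroup (M.N ⧸ M.D.subgroupOf M.N)) = Nat.card (fixT M) := by
    let f : M.T →* M.N ⧸ M.D.subgroupOf M.N := p.comp (Subgroup.inclusion hTN)
    have hker : Nat.card f.ker = Nat.card M.D := Nat.card_congr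
      ⟨fun x => ⟨((x : M.T) : G), (hp1 (Subgroup.inclusion hTN x.1)).1 x.2⟩,
        fun d => ⟨⟨d, M.D_le_T d.2⟩, (hp1 (Subgroup.inclusion hTN ⟨d, M.D_le_T d.2⟩)).2 d.2⟩,
        fun _ => rfl, fun _ => rfl⟩
    have hrange : f.range = (SX : Subgroup (M.N ⧸ M.D.subgroupOf M.N)) := by
      rw [hSX]
      ext z
      constructor
      · rintro ⟨x, rfl⟩; exact ⟨Subgroup.inclusion hTN x, x.2, rfl⟩
      · rintro ⟨x, hx, rfl⟩; exact ⟨⟨x, hx⟩, rfl⟩
    have := card_eq_ker_mul_range f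
    rw [L.card_T, hker, hrange] at this
    exact (Nat.eq_of_mul_eq_mul_left Nat.card_pos this).symm
  have hordSX : ∀ x ∈ (SX : Subgroup (M.N ⧸ M.D.subgroupOf M.N)), x ^ 2 = 1 := by
    rintro _ ⟨x, hx, rfl⟩
    rw [pow_two]
    show p x * p x = 1
    rw [← map_mul]
    exact (hp1 _).2 (L.sq_mem _ hx)
  have hE : CfsgLib.SEmbed.ElemCentralizers SX := by
    refine ⟨fun hcyc => ?_, fun hnor => ?_, fun t ht => ?_⟩
    · haveI := hcyc
      obtain ⟨g, hg⟩ := IsCyclic.exists_ofOrder_eq_natCard (α := (SX : Subgroup (M.N ⧸ M.D.subgroupOf M.N)))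
      have h2 : orderOf g ∣ 2 := orderOf_dvd_of_pow_eq_one (Subtype.ext (hordSX g g.2))
      rw [hg, hSXcard] at h2
      have := Nat.le_of_dvd two_pos h2
      omega
    · refine Q.ne (le_antisymm inf_le_left fun g hg => ?_)
      obtain ⟨t, ht, htD⟩ := SetLike.exists_of_lt M.lt₁
      refine Q.se t ht htD (L.sq_mem t ht) g hg (Q.T_le ?_)
      have := hnor.conj_mem (p ⟨t, hTN ht⟩) ((hmemSX ⟨t, hTN ht⟩).2 ht) (p ⟨g, hg⟩)
      rw [← map_inv, ← map_mul, ← map_mul] at this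
      exact (hmemSX _).1 this
    · obtain ⟨S', hS'⟩ := (IsPGroup.of_card (p := 2) (n := 1) (G := zpowers t)
        (by rw [Nat.card_zpowers, ht, pow_one])).exists_le_sylow
      obtain ⟨g, hg⟩ := MulAction.exists_smul_eq (M.N ⧸ M.D.subgroupOf M.N) S' SX
      have ht' : g * t * g⁻¹ ∈ (SX : Subgroup (M.N ⧸ M.D.subgroupOf M.N)) := by
        rw [← hg, Sylow.coe_subgroup_smul]
        exact ⟨t, hS' (mem_zpowers t), rfl⟩
      have key : ∀ c ∈ centralizer ({t} : Set _), g * c * g⁻¹ ∈ (SX : Subgroup (M.N ⧸ M.D.subgroupOf M.N)) := by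
        intro c hc
        obtain ⟨x, hx⟩ := QuotientGroup.mk'_surjective (M.D.subgroupOf M.N) (g * c * g⁻¹)
        obtain ⟨y, hy, hyx⟩ := ht'
        rw [← hx]
        refine (hmemSX x).2 (Q.centralizer y hy (fun e => ?_) (L.sq_mem _ hy) x x.2 ?_)
        · have h3 : g * t * g⁻¹ = 1 := by rw [← hyx]; exact (hp1 _).2 e
          rw [conj_eq_one_iff] at h3
          rw [h3, orderOf_one] at ht
          omega
        · refine (hp1 ⁅x, y⁆).1 ?_
          rw [map_commutatorElement, commutatorElement_eq_one_iff_mul_comm]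
          have hc' := mem_centralizer_singleton_iff.1 hc
          show p x * p y = p y * p x
          rw [show p y = g * t * g⁻¹ from hyx, show p x = g * c * g⁻¹ from hx,
            show g * c * g⁻¹ * (g * t * g⁻¹) = g * (c * t) * g⁻¹ by group, hc']
          group
      refine ⟨⟨⟨fun a b => Subtype.ext ?_⟩⟩, fun c hc => ?_⟩
      · have hcomm := comm_of_sq (U := (SX : Subgroup (M.N ⧸ M.D.subgroupOf M.N)))
          (fun u hu => by rw [← pow_two]; exact hordSX u hu) (key a a.2) (key b b.2)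
        have h4 : g * (a.1 * b.1) * g⁻¹ = g * (b.1 * a.1) * g⁻¹ := by
          calc g * (a.1 * b.1) * g⁻¹ = g * a.1 * g⁻¹ * (g * b.1 * g⁻¹) := by group
            _ = g * b.1 * g⁻¹ * (g * a.1 * g⁻¹) := hcomm
            _ = g * (b.1 * a.1) * g⁻¹ := by group
        exact mul_left_cancel (mul_right_cancel h4)
      · have := hordSX _ (key c hc)
        rw [conj_pow, conj_eq_one_iff] at this
        exact this
  obtain ⟨F, fF, fFin, hFcard, ⟨e⟩⟩ := CfsgLib.SEmbed.exists_equiv_PSL2 hE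
  letI := fF
  letI := fFin
  rw [hSXcard] at hFcard
  obtain ⟨n, hn⟩ := IsPGroup.iff_card.1
    (M.T_isPGroup.to_le (show fixT M ≤ M.T from (inf_le_left.trans (omegaCentral_le _)).trans M.D_le_T))
  have h2 : (2 : F) = 0 := by
    have h3 : ((Fintype.card F : ℕ) : F) = 0 := FiniteField.cast_card_eq_zero F
    rw [hFcard, hn, Nat.cast_pow, Nat.cast_ofNat] at h3
    exact eq_zero_of_pow_eq_zero h3
  haveI : CharP F 2 := CharTwo.of_one_ne_zero_of_two_eq_zero one_ne_zero h2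
  let e' : M.N ⧸ M.D.subgroupOf M.N ≃* SL(2, F) :=
    e.trans ((QuotientGroup.quotientMulEquivOfEq (center_SL2_char_two h2)).trans QuotientGroup.quotientBot)
  -- an element of order three
  obtain ⟨x, hx⟩ : ∃ x : M.N, orderOf x = 3 := by
    haveI : Fact (Nat.Prime 3) := ⟨Nat.prime_three⟩
    obtain ⟨A, a00, a01, a10, a11⟩ :
        ∃ A : SL(2, F), A 0 0 = 0 ∧ A 0 1 = 1 ∧ A 1 0 = 1 ∧ A 1 1 = 1 :=
      ⟨⟨!![0, 1; 1, 1], by simp [Matrix.det_fin_two]; linear_combination -h2⟩, rfl, rfl, rfl, rfl⟩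
    obtain ⟨w, hw⟩ := e'.surjective A
    have hw3 : orderOf w = 3 := by
      rw [← MulEquiv.orderOf_eq e' w, hw]
      refine orderOf_eq_prime ?_ ?_
      · rw [pow_three']
        apply CfsgLib.PLocal.SL2.ext2 <;>
          simp [CfsgLib.PLocal.SL2.mul_apply2, a00, a01, a10, a11] <;> linear_combination h2
      · intro h1
        rw [h1] at a00
        simp at a00
    obtain ⟨x₀, rfl⟩ := QuotientGroup.mk_surjective w
    exact ⟨x₀ ^ (orderOf x₀ / 3), orderOf_pow_orderOf_div (orderOf_pos x₀).ne'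
      (hw3 ▸ orderOf_map_dvd (QuotientGroup.mk' _) x₀)⟩
  have hxG : orderOf (x : G) = 3 := by rw [Subgroup.orderOf_coe, hx]
  obtain ⟨hea, k, V, hV, -, hVsup⟩ := CfsgLib.HigmanSL2.higman (Q := M.D.subgroupOf M.N) e'
    M.D_isPGroup.comap_subtype (by rw [Nat.card_eq_fintype_card, hFcard]; omega) x hx
    (fun d hd hxd => by
      refine Subtype.ext (h.eq_one_of_mem M.D_isPGroup (y := (x : G)) hd (by rw [hxG]; decide)
        (fun h1 => by rw [h1, orderOf_one] at hxG; omega) ?_)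
      exact mul_inv_eq_iff_eq_mul.1 (congrArg Subtype.val hxd))
  have hsqD : ∀ d ∈ M.D, d * d = 1 := fun d hd => by
    have := congrArg Subtype.val (hea.2 ⟨d, le_normalizer hd⟩ hd)
    rwa [SubgroupClass.coe_pow, pow_two] at this
  have homega : omegaCentral M.D = M.D := le_antisymm (omegaCentral_le _)
    fun d hd => ⟨hd, fun d' hd' => comm_of_sq hsqD hd' hd, hsqD d hd⟩
  have hDcard : Nat.card M.D = Nat.card F * Nat.card F := by
    rw [@Nat.card_eq_fintype_card F, hFcard]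
    calc Nat.card M.D = Nat.card (omegaCentral M.D) := by rw [homega]
      _ = _ := L.card_omega
  have hD'card : Nat.card (M.D.subgroupOf M.N) = Nat.card M.D :=
    Nat.card_congr (subgroupOfEquivOfLe le_normalizer).toEquiv
  -- the only natural summand is `D`
  have hk : 0 < k := by
    rcases Nat.eq_zero_or_pos k with rfl | h'
    · exfalso
      rw [iSup_of_empty] at hVsup
      rw [← hVsup, card_bot] at hD'card
      exact M.ne_bot (card_eq_one.1 hD'card.symm)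
    · exact h'
  obtain ⟨hVQ, -, -, -, ρ, ψ, hρr, hψs, hψk, hact⟩ := hV ⟨0, hk⟩
  have hψinj : Function.Injective ψ := (injective_iff_map_eq_one ψ).2 fun u hu =>
    Subtype.ext (mem_bot.1 ((hψk u).1 hu))
  have hV₀ : (V ⟨0, hk⟩) = M.D.subgroupOf M.N := by
    refine eq_of_le_of_card_ge hVQ ?_
    rw [hD'card, hDcard, Nat.card_congr (Equiv.ofBijective ψ ⟨hψinj, hψs⟩),
      Nat.card_congr Multiplicative.toAdd, Nat.card_fun, Nat.card_fin, pow_two]
  let π₀ : M.N →* SL(2, F) := ρ.comp (Subgroup.topEquiv (G := M.N)).symm.toMonoidHom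
  have hπ₀s : Function.Surjective π₀ := fun y => by
    obtain ⟨g, hg⟩ := (MonoidHom.range_eq_top.1 hρr) y
    exact ⟨g.1, hg⟩
  let vec₀ : G → (Fin 2 → F) := fun u =>
    if hu : u ∈ M.D then (ψ ⟨⟨u, le_normalizer hu⟩, hV₀.symm ▸ hu⟩).toAdd else 0
  have hvec₀ : ∀ u (hu : u ∈ M.D),
      vec₀ u = (ψ ⟨⟨u, le_normalizer hu⟩, hV₀.symm ▸ hu⟩).toAdd := fun u hu => dif_pos hu
  have hconj₀ : ∀ (g : M.N), ∀ u ∈ M.D,
      vec₀ ((g : G) * u * (g : G)⁻¹) = (π₀ g : Matrix (Fin 2) (Fin 2) F).mulVec (vec₀ u) := by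
    intro g u hu
    obtain ⟨w, hw, hwe⟩ := hact ⟨g, mem_top g⟩ ⟨⟨u, le_normalizer hu⟩, hV₀.symm ▸ hu⟩
    rw [hvec₀ u hu, hvec₀ _ ((mem_normalizer_iff.1 g.2 u).1 hu)]
    have e : (⟨⟨(g : G) * u * (g : G)⁻¹, le_normalizer ((mem_normalizer_iff.1 g.2 u).1 hu)⟩,
        hV₀.symm ▸ (mem_normalizer_iff.1 g.2 u).1 hu⟩ : ↥(V ⟨0, hk⟩)) = w :=
      Subtype.ext (Subtype.ext (congrArg Subtype.val hw).symm)
    rw [e]
    exact hwe
  have hker₀ : ∀ g : M.N, π₀ g = 1 ↔ (g : G) ∈ M.D := by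
    intro g
    constructor
    · intro hg
      rw [← L.centralizer_eq]
      refine ⟨g.2, mem_centralizer_iff.2 fun u hu => ?_⟩
      rw [homega] at hu
      have h1 := hconj₀ g u hu
      rw [hg, Matrix.SpecialLinearGroup.coe_one, Matrix.one_mulVec, hvec₀ u hu,
        hvec₀ _ ((mem_normalizer_iff.1 g.2 u).1 hu)] at h1
      have h2 := congrArg (fun z : (V ⟨0, hk⟩) => ((z : M.N) : G)) (hψinj (Multiplicative.toAdd.injective h1))
      exact (mul_inv_eq_iff_eq_mul.1 h2).symm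
    · intro hg
      apply Subtype.ext
      rw [Matrix.SpecialLinearGroup.coe_one]
      refine (Matrix.toLin'.injective (LinearMap.ext fun v => ?_))
      obtain ⟨u, hu⟩ := hψs (Multiplicative.ofAdd v)
      have hu' : ((u : M.N) : G) ∈ M.D := (hV₀ ▸ u.2 : (u : M.N) ∈ M.D.subgroupOf M.N)
      have h1 := hconj₀ g _ hu'
      rw [comm_of_sq hsqD hg hu', mul_inv_cancel_right, hvec₀ _ hu'] at h1
      have h2 : (ψ u).toAdd = v := by rw [hu]; rfl
      rw [Matrix.toLin'_apply, Matrix.toLin'_apply, Matrix.one_mulVec, ← h2]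
      exact h1.symm
  -- move the unitriangular group onto `T`
  let upHom : Multiplicative F →* SL(2, F) := MonoidHom.mk' (fun x => up x.toAdd)
    fun x y => (CfsgLib.PLocal.SL2.up_mul _ _).symm
  have hupinj : Function.Injective upHom := fun x y hxy =>
    Multiplicative.toAdd.injective (congrArg (fun A : SL(2, F) => A 0 1) hxy :)
  set Z := (upHom.range.comap π₀).map M.N.subtype with hZ
  have hZcard : Nat.card Z = Nat.card M.T := by
    rw [hZ, card_map_of_injective M.N.subtype_injective]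
    let f : upHom.range.comap π₀ →* SL(2, F) := π₀.comp (upHom.range.comap π₀).subtype
    have hfr : f.range = upHom.range := by
      ext y
      constructor
      · rintro ⟨z, rfl⟩; exact z.2
      · intro hy
        obtain ⟨z, rfl⟩ := hπ₀s y
        exact ⟨⟨z, hy⟩, rfl⟩
    have hfk : Nat.card f.ker = Nat.card M.D := by
      have hone : ∀ d : M.D, π₀ ⟨d, le_normalizer d.2⟩ = 1 := fun d => (hker₀ _).2 d.2
      exact Nat.card_congr
        ⟨fun z => ⟨((z.1 : M.N) : G), (hker₀ _).1 z.2⟩,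
          fun d => ⟨⟨⟨d, le_normalizer d.2⟩, by rw [mem_comap, hone d]; exact one_mem _⟩, hone d⟩,
          fun _ => rfl, fun _ => rfl⟩
    rw [card_eq_ker_mul_range f, hfr, hfk, L.card_T, ← hFcard,
      ← Nat.card_congr (MonoidHom.ofInjective hupinj).toEquiv,
      Nat.card_congr Multiplicative.toAdd, @Nat.card_eq_fintype_card F]
  have hZN : Z ≤ M.N := map_subtype_le _
  have hZ2 : IsPGroup 2 Z := by
    obtain ⟨j, hj⟩ := IsPGroup.iff_card.1 M.T_isPGroup
    exact IsPGroup.of_card (n := j) (hZcard.trans hj)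
  have hZmax : ∀ P : Subgroup G, IsPGroup 2 P → P ≤ M.N → Z ≤ P → P = Z := by
    intro P hP hPN hle
    obtain ⟨Z', hPZ', hZ'N, hZ', hZ'max⟩ := CfsgLib.EPPOSeven.exists_maximal_two_subgroup hP hPN
    obtain ⟨n, -, hnZ⟩ := CfsgLib.EPPOSeven.exists_conj_maximal M.T_isPGroup hTN M.max₁ hZ' hZ'N hZ'max
    have : Nat.card Z' = Nat.card Z := by
      rw [hZcard, ← hnZ, card_map_of_injective (MulAut.conj n).injective]
    exact (eq_of_le_of_card_ge hle (this ▸ card_le_of_le hPZ')).symm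
  obtain ⟨m, hm, hmZ⟩ := CfsgLib.EPPOSeven.exists_conj_maximal hZ2 hZN hZmax M.T_isPGroup hTN M.max₁
  let π : M.N →* SL(2, F) := π₀.comp (MulAut.conj (⟨m, hm⟩⁻¹ : M.N)).toMonoidHom
  have hπ : ∀ g : M.N, π g = π₀ (⟨m, hm⟩⁻¹ * g * ⟨m, hm⟩) := fun g => by
    show π₀ _ = _
    simp
  let vec : G → (Fin 2 → F) := fun u => vec₀ (m⁻¹ * u * m)
  have hmD : ∀ {u}, u ∈ M.D → m⁻¹ * u * m ∈ M.D := fun hu => (mem_normalizer_iff''.1 hm _).1 hu
  have hconjv : ∀ (g : M.N), ∀ u ∈ M.D,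
      vec ((g : G) * u * (g : G)⁻¹) = (π g : Matrix (Fin 2) (Fin 2) F).mulVec (vec u) := by
    intro g u hu
    rw [hπ, ← hconj₀ _ _ (hmD hu)]
    show vec₀ _ = vec₀ _
    congr 1
    show m⁻¹ * ((g : G) * u * (g : G)⁻¹) * m = (m⁻¹ * g * m) * (m⁻¹ * u * m) * (m⁻¹ * g * m)⁻¹
    group
  have hkerπ : ∀ g : M.N, π g = 1 ↔ (g : G) ∈ M.D := fun g => by
    rw [hπ, hker₀]
    exact (mem_normalizer_iff''.1 hm _).symm
  have hmemT : ∀ g : M.N, (g : G) ∈ M.T ↔ (π g) 1 0 = 0 ∧ (π g) 0 0 = 1 := by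
    intro g
    rw [← hmZ]
    constructor
    · rintro ⟨z, ⟨z', ⟨x, hx⟩, rfl⟩, hzg⟩
      have he : ⟨m, hm⟩⁻¹ * g * ⟨m, hm⟩ = z' := Subtype.ext (by
        show m⁻¹ * (g : G) * m = z'
        rw [← hzg]; simp [mul_assoc])
      rw [hπ, he, ← hx]
      exact ⟨rfl, rfl⟩
    · rintro ⟨h10, h00⟩
      rw [hπ] at h10 h00
      refine ⟨m⁻¹ * g * m, ⟨⟨m, hm⟩⁻¹ * g * ⟨m, hm⟩, ?_, rfl⟩, by simp [mul_assoc]⟩
      exact ⟨Multiplicative.ofAdd _, (mem_range_up h10 h00).symm⟩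
  have hvinj : ∀ u ∈ M.D, ∀ v ∈ M.D, vec u = vec v → u = v := by
    intro u hu v hv huv
    change vec₀ _ = vec₀ _ at huv
    rw [hvec₀ _ (hmD hu), hvec₀ _ (hmD hv)] at huv
    have := congrArg (fun z : (V ⟨0, hk⟩) => ((z : M.N) : G)) (hψinj (Multiplicative.toAdd.injective huv))
    exact mul_left_cancel (mul_right_cancel this)
  obtain ⟨t₁, ht₁⟩ := (show Function.Surjective π from fun y => by
    obtain ⟨g, rfl⟩ := hπ₀s y
    exact ⟨⟨m, hm⟩ * g * ⟨m, hm⟩⁻¹, by rw [hπ]; congr 1; group⟩) (up 1)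
  have ht₁T : (t₁ : G) ∈ M.T := (hmemT t₁).2 (by rw [ht₁]; exact ⟨rfl, rfl⟩)
  have ht₁D : (t₁ : G) ∉ M.D := fun e => by
    have := congrArg (fun A : SL(2, F) => A 0 1) (ht₁.symm.trans ((hkerπ t₁).2 e))
    simp at this
  refine ⟨F, fF, fFin, ⟨π, vec, h2, by rw [Nat.card_eq_fintype_card, hFcard], ?_, hkerπ, homega,
    fun u hu v hv => ?_, hvinj, fun y => ?_, hconjv, hmemT, fun g => ⟨fun hg => ?_, fun h10 => ?_⟩,
    fun u hu => ⟨fun huC => ?_, fun h1 => ?_⟩⟩⟩
  · intro y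
    obtain ⟨g, rfl⟩ := hπ₀s y
    exact ⟨⟨m, hm⟩ * g * ⟨m, hm⟩⁻¹, by rw [hπ]; congr 1; group⟩
  · show vec₀ _ = vec₀ _ + vec₀ _
    rw [hvec₀ _ (hmD (mul_mem hu hv)), hvec₀ _ (hmD hu), hvec₀ _ (hmD hv), ← toAdd_mul, ← map_mul]
    congr 2
    exact Subtype.ext (Subtype.ext (show m⁻¹ * (u * v) * m = m⁻¹ * u * m * (m⁻¹ * v * m) by group))
  · obtain ⟨z, hz⟩ := hψs (Multiplicative.ofAdd y)
    have hz' : ((z : M.N) : G) ∈ M.D := (hV₀ ▸ z.2 : (z : M.N) ∈ M.D.subgroupOf M.N)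
    refine ⟨m * z * m⁻¹, (mem_normalizer_iff.1 hm _).1 hz', ?_⟩
    show vec₀ _ = y
    rw [show m⁻¹ * (m * ((z : M.N) : G) * m⁻¹) * m = z by group, hvec₀ _ hz']
    exact congrArg Multiplicative.toAdd hz
  · have h1 := (hmemT (g * t₁ * g⁻¹)).1 ((mem_normalizer_iff.1 (Q.T_normal hg) _).1 ht₁T)
    rw [map_mul, map_mul, map_inv, ht₁, CfsgLib.PLocal.SL2.conj_up_apply] at h1
    simpa using h1.1
  · refine Q.se t₁ ht₁T ht₁D (L.sq_mem _ ht₁T) g g.2 (Q.T_le ((hmemT (g * t₁ * g⁻¹)).2 ?_))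
    rw [map_mul, map_mul, map_inv, ht₁, CfsgLib.PLocal.SL2.conj_up_of_lower_zero _ _ h10]
    exact ⟨rfl, rfl⟩
  · have hc := mem_centralizer_iff.1 huC.2 (t₁ : G) ht₁T
    have h1 := hconjv t₁ u hu
    rw [hc, mul_inv_cancel_right, ht₁] at h1
    have h3 := congrFun h1 0
    simp [Matrix.mulVec, dotProduct, Fin.sum_univ_two] at h3
    exact h3
  · rw [fixT, homega]
    refine ⟨hu, mem_centralizer_iff.2 fun t ht => ?_⟩
    have hπt := (hmemT ⟨t, hTN ht⟩).1 ht
    have h5 := hconjv ⟨t, hTN ht⟩ u hu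
    have h4 : (π ⟨t, hTN ht⟩ : Matrix (Fin 2) (Fin 2) F).mulVec (vec u) = vec u := by
      rw [mem_range_up hπt.1 hπt.2]
      ext i
      fin_cases i <;> simp [Matrix.mulVec, dotProduct, Fin.sum_univ_two, h1]
    rw [h4] at h5
    exact mul_inv_eq_iff_eq_mul.1 (hvinj _ ((mem_normalizer_iff.1 (hTN ht) u).1 hu) _ hu h5)

end CfsgLib.CITGroups
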