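import Cfsg.Agent.PlaneFour.Oval
import Cfsg.Agent.Mathieu.Plane

/-!
# The plane over four elements, its group and the bound on all collineations
-/

set_option autoImplicit false

namespace CfsgLib.CITGroups

open Finset Cfsg Matrix
open CfsgLib.Linear (GF4)
open CfsgLib.Mathieu.Plane (rep rep_ne_zero point point_bijective card_PSL34)
open scoped LinearAlgebra.Projectivization Pointwise

/-- The lines of the coordinate plane. -/
def dualLine (k : Fin 21) : Finset (Fin 21) := univ.filter fun p => rep k ⬝ᵥ rep p = 0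

/-- The coordinate plane. -/
def coordLines : Set (Finset (Fin 21)) := Set.range dualLine

theorem dualLine_facts : (∀ k, (dualLine k).card = 5) ∧
    (∀ a b : Fin 21, a ≠ b → ∃ k, a ∈ dualLine k ∧ b ∈ dualLine k ∧
      ∀ k', a ∈ dualLine k' → b ∈ dualLine k' → k' = k) := by
  decide +kernel

theorem coord_steiner : IsSteinerSystem 2 5 coordLines := by
  refine ⟨?_, fun s hs => ?_⟩
  · rintro _ ⟨k, rfl⟩
    exact dualLine_facts.1 k
  · obtain ⟨a, b, hab, rfl⟩ := card_eq_two.1 hs
    obtain ⟨k, ha, hb, huniq⟩ := dualLine_facts.2 a b hab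
    refine ⟨dualLine k, ⟨⟨k, rfl⟩, by simp [insert_subset_iff, ha, hb]⟩, ?_⟩
    rintro _ ⟨⟨k', rfl⟩, hsub⟩
    rw [huniq k' (hsub (by simp)) (hsub (by simp))]

/-- A plane of order four has at most `120960` collineations. -/
theorem card_aut_le {α : Type*} [Fintype α] [DecidableEq α] {L : Set (Finset α)}
    (hL : IsSteinerSystem 2 5 L) (hα : Fintype.card α = 21) :
    Nat.card (setSystemAut L) ≤ 120960 := by
  classical
  open CfsgLib.PlaneFour in
  obtain ⟨φ, hφ⟩ := exists_model hL hα
  set H := CfsgLib.PlaneFour.oval.image φ with hHdef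
  have hH6 : H.card = 6 := by rw [card_image_of_injective _ φ.injective]; rfl
  have hH : ∀ l ∈ L, (l ∩ H).card ≤ 2 :=
    (CfsgLib.PlaneFour.indep_image hφ _).2 CfsgLib.PlaneFour.indep_oval
  have hline : ∀ g : Equiv.Perm α, g ∈ setSystemAut L → ∀ l ∈ L, l.image g ∈ L := by
    intro g hg l hl
    have h : (fun s : Finset α => s.image g) '' L = L := hg
    exact h ▸ ⟨l, hl, rfl⟩
  -- the stabiliser of the oval
  have himg : ∀ g : Equiv.Perm α, g ∈ setSystemAut L →
      H.image g ∈ univ.filter (fun S : Finset α => S.card = 6 ∧ ∀ l ∈ L, (l ∩ S).card ≤ 2) := by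
    intro g hg
    refine mem_filter.2 ⟨mem_univ _, by rw [card_image_of_injective _ g.injective, hH6], fun l hl => ?_⟩
    have hl' := hline g⁻¹ ((setSystemAut L).inv_mem hg) l hl
    have e : l ∩ H.image g = (l.image ⇑g⁻¹ ∩ H).image g := by
      ext x
      simp only [mem_inter, mem_image]
      constructor
      · rintro ⟨hx, q, hq, rfl⟩
        exact ⟨q, ⟨⟨g q, hx, by simp⟩, hq⟩, rfl⟩
      · rintro ⟨q, ⟨⟨y, hy, rfl⟩, hq⟩, rfl⟩
        exact ⟨by simpa using hy, _, hq, rfl⟩
    rw [e, card_image_of_injective _ g.injective]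
    exact hH _ hl'
  have hovals := CfsgLib.PlaneFour.card_ovals hL hα
  have hO : (univ.filter fun S : Finset α => S.card = 6 ∧ ∀ l ∈ L, (l ∩ S).card ≤ 2).card = 168 := by
    rw [← hovals, ← Set.ncard_coe_finset]
    congr 1
    ext S
    simp
  -- an automorphism is determined on the oval
  have huniq : ∀ g : Equiv.Perm α, g ∈ setSystemAut L → (∀ p ∈ H, g p = p) → g = 1 := by
    intro g hg hfix
    obtain ⟨a, b, hab⟩ := Fintype.exists_pair_of_one_lt_card (show 1 < Fintype.card α by omega)
    refine Equiv.ext fun x => ?_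
    show g x = x
    by_cases hx : x ∈ H
    · exact hfix x hx
    obtain ⟨y, rfl⟩ := φ.surjective x
    have hy : y ∉ CfsgLib.PlaneFour.oval := fun h => hx (mem_image_of_mem _ h)
    obtain ⟨k, k', hk, hk', hkk⟩ := CfsgLib.PlaneFour.secants y hy
    have hfixline : ∀ i : Fin 21, (CfsgLib.PlaneFour.line i ∩ CfsgLib.PlaneFour.oval).card = 2 →
        ((CfsgLib.PlaneFour.line i).image φ).image g = (CfsgLib.PlaneFour.line i).image φ := by
      intro i hi
      have hiL : (CfsgLib.PlaneFour.line i).image φ ∈ L := hφ ▸ ⟨_, ⟨i, rfl⟩, rfl⟩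
      obtain ⟨u, v, huv, he⟩ := card_eq_two.1 hi
      have hu : u ∈ CfsgLib.PlaneFour.line i ∧ u ∈ CfsgLib.PlaneFour.oval :=
        mem_inter.1 (by rw [he]; simp)
      have hv : v ∈ CfsgLib.PlaneFour.line i ∧ v ∈ CfsgLib.PlaneFour.oval :=
        mem_inter.1 (by rw [he]; simp)
      refine CfsgLib.PlaneFour.eq_of_two hL (hline g hg _ hiL) hiL
        (show φ u ≠ φ v from fun h => huv (φ.injective h)) ?_ ?_
        (mem_image_of_mem _ hu.1) (mem_image_of_mem _ hv.1)
      · exact mem_image.2 ⟨φ u, mem_image_of_mem _ hu.1, hfix _ (mem_image_of_mem _ hu.2)⟩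
      · exact mem_image.2 ⟨φ v, mem_image_of_mem _ hv.1, hfix _ (mem_image_of_mem _ hv.2)⟩
    have h1 : g (φ y) ∈ (CfsgLib.PlaneFour.line k).image φ ∩ (CfsgLib.PlaneFour.line k').image φ := by
      rw [← hfixline k hk, ← hfixline k' hk', ← image_inter _ _ g.injective,
        ← image_inter _ _ φ.injective, hkk]
      simp
    rw [← image_inter _ _ φ.injective, hkk] at h1
    simpa using h1
  let f : setSystemAut L → {S // S ∈ univ.filter
      (fun S : Finset α => S.card = 6 ∧ ∀ l ∈ L, (l ∩ S).card ≤ 2)} :=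
    fun g => ⟨H.image (g : Equiv.Perm α), himg g g.2⟩
  haveI : Fintype (setSystemAut L) := Fintype.ofFinite _
  have hfib : ∀ s, (univ.filter fun g => f g = s).card ≤ 720 := by
    intro s
    rcases (univ.filter fun g => f g = s).eq_empty_or_nonempty with h | ⟨g₀, hg₀⟩
    · simp [h]
    have hmaps : ∀ g, f g = s → ∀ p : H, ((g₀ : Equiv.Perm α)⁻¹ * g) p ∈ H := by
      intro g hg p
      have h : H.image (g : Equiv.Perm α) = H.image (g₀ : Equiv.Perm α) :=
        congrArg Subtype.val (hg.trans (mem_filter.1 hg₀).2.symm)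
      have hp : (g : Equiv.Perm α) p ∈ H.image (g₀ : Equiv.Perm α) := h ▸ mem_image_of_mem _ p.2
      obtain ⟨q, hq, hq'⟩ := mem_image.1 hp
      rw [Equiv.Perm.mul_apply, ← hq']
      simpa using hq
    have hH' : Fintype.card (Equiv.Perm H) = 720 := by
      rw [Fintype.card_perm, Fintype.card_coe, hH6]; rfl
    rw [← hH', ← card_univ (α := Equiv.Perm H)]
    refine card_le_card_of_injOn (fun g =>
      if hg : f g = s then Equiv.ofBijective (fun p : H => (⟨_, hmaps g hg p⟩ : H))
        (Finite.injective_iff_bijective.1 fun p q h =>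
          Subtype.ext (((g₀ : Equiv.Perm α)⁻¹ * g).injective (congrArg Subtype.val h)))
      else 1) (fun _ _ => mem_univ _) ?_
    intro g hg g' hg' h
    simp only [coe_filter, mem_univ, true_and, Set.mem_setOf_eq] at hg hg'
    simp only [dif_pos hg, dif_pos hg'] at h
    have h2 : ∀ p ∈ H, ((g' : Equiv.Perm α)⁻¹ * g) p = p := fun p hp => by
      have := congrArg Subtype.val (Equiv.congr_fun h ⟨p, hp⟩)
      simp only [Equiv.ofBijective_apply, Equiv.Perm.mul_apply] at this
      have := (Equiv.injective _) this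
      simp [this]
    have h3 := huniq _ (mul_mem ((setSystemAut L).inv_mem g'.2) g.2) h2
    exact Subtype.ext (inv_mul_eq_one.1 h3).symm
  have h := card_le_mul_card_image (f := f) univ 720 fun s _ => hfib s
  rw [card_univ, ← Nat.card_eq_fintype_card] at h
  refine h.trans ?_
  have hle := card_le_univ (univ.image f)
  rw [Fintype.card_coe, hO] at hle
  omega

/-- `PSL₃(4)` on the twenty-one labels. -/
noncomputable def pslHom : ProjectiveSpecialLinearGroup (Fin 3) GF4 →* Equiv.Perm (Fin 21) :=
  (Equiv.ofBijective point point_bijective).symm.permCongrHom.toMonoidHom.comp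
    Projectivization.PSLAction.toPermHom

theorem pslHom_injective : Function.Injective pslHom :=
  (Equiv.permCongrHom _).injective.comp
    Matrix.ProjectiveSpecialLinearGroup.toPermHom_injective

theorem pslHom_mem (x : ProjectiveSpecialLinearGroup (Fin 3) GF4) :
    pslHom x ∈ setSystemAut coordLines := by
  induction x using QuotientGroup.induction_on with
  | _ g =>
  set π := pslHom (g : ProjectiveSpecialLinearGroup (Fin 3) GF4) with hπ
  have hpt : ∀ p, point (π p) = g • point p := fun p =>
    (Equiv.ofBijective point point_bijective).apply_symm_apply (g • point p)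
  have hone : ∀ k, ∃ k', (dualLine k).image π = dualLine k' := by
    intro k
    set w := rep k ᵥ* (g⁻¹ : SpecialLinearGroup (Fin 3) GF4).1 with hw
    have hwg : w ᵥ* g.1 = rep k := by
      rw [hw, vecMul_vecMul, ← Matrix.SpecialLinearGroup.coe_mul, inv_mul_cancel,
        Matrix.SpecialLinearGroup.coe_one, vecMul_one]
    have hw0 : w ≠ 0 := fun h => rep_ne_zero k (by rw [← hwg, h, zero_vecMul])
    obtain ⟨k', hk'⟩ := point_bijective.2 (Projectivization.mk GF4 w hw0)
    obtain ⟨a, ha⟩ := (Projectivization.mk_eq_mk_iff' _ _ _ _ _).1 hk'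
    have ha0 : a ≠ 0 := fun h => rep_ne_zero k' (by rw [← ha, h, zero_smul])
    have key : ∀ p, π p ∈ dualLine k' ↔ p ∈ dualLine k := by
      intro p
      obtain ⟨b, hb⟩ := (Projectivization.mk_eq_mk_iff' _ _ _ _ _).1
        ((hpt p).trans (Projectivization.smul_mk g (rep_ne_zero p)))
      have hb0 : b ≠ 0 := fun h => rep_ne_zero (π p) (by rw [← hb, h, zero_smul])
      simp only [dualLine, mem_filter, mem_univ, true_and]
      rw [← ha, ← hb, smul_dotProduct, dotProduct_smul, smul_eq_mul, smul_eq_mul]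
      have e : w ⬝ᵥ (g • rep p) = rep k ⬝ᵥ rep p := by
        show w ⬝ᵥ (g.1 *ᵥ rep p) = _
        rw [dotProduct_mulVec, hwg]
      rw [e]
      simp [ha0, hb0]
    refine ⟨k', eq_of_subset_of_card_le (fun q hq => ?_) ?_⟩
    · obtain ⟨p, hp, rfl⟩ := mem_image.1 hq
      exact (key p).2 hp
    · rw [card_image_of_injective _ π.injective, dualLine_facts.1, dualLine_facts.1]
  show (fun s : Finset (Fin 21) => s.image π) '' coordLines = coordLines
  refine Set.eq_of_subset_of_ncard_le ?_ ?_ (Set.toFinite _)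
  · rintro _ ⟨_, ⟨k, rfl⟩, rfl⟩
    obtain ⟨k', hk'⟩ := hone k
    exact ⟨k', hk'.symm⟩
  · rw [Set.ncard_image_of_injective _ (image_injective π.injective)]

/-- A simple group of order `20160` preserving the lines of a plane of order four is `PSL₃(4)`. -/
theorem psl_of_plane {G : Type*} [Group G] [Finite G] [IsSimpleGroup G] (hG : Nat.card G = 20160)
    {α : Type*} [Fintype α] [DecidableEq α] [MulAction G α] {L : Set (Finset α)}
    (hL : IsSteinerSystem 2 5 L) (hα : Fintype.card α = 21)
    (hne : ∃ (g : G) (x : α), g • x ≠ x) (hline : ∀ (g : G), ∀ l ∈ L, l.image (g • ·) ∈ L) :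
    Nonempty (G ≃* ProjectiveSpecialLinearGroup (Fin 3) GF4) := by
  classical
  obtain ⟨φ, hφ⟩ := CfsgLib.PlaneFour.exists_model hL hα
  obtain ⟨φ₀, hφ₀⟩ := CfsgLib.PlaneFour.exists_model coord_steiner (by rfl)
  let e : α ≃ Fin 21 := φ.symm.trans φ₀
  have hLe : (fun s : Finset α => s.image e) '' L = coordLines := by
    rw [hφ, hφ₀, Set.image_image]
    refine Set.image_congr fun s _ => ?_
    rw [image_image]
    exact image_congr fun x _ => by simp [e]
  let ψ : G →* Equiv.Perm (Fin 21) := e.permCongrHom.toMonoidHom.comp (MulAction.toPermHom G α)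
  have hψ : ψ.range ≤ setSystemAut coordLines := by
    rintro _ ⟨g, rfl⟩
    show (fun s : Finset (Fin 21) => s.image (ψ g)) '' coordLines = coordLines
    refine Set.eq_of_subset_of_ncard_le ?_ ?_ (Set.toFinite _)
    · rw [← hLe]
      rintro _ ⟨_, ⟨l, hl, rfl⟩, rfl⟩
      refine ⟨l.image (g • ·), hline g l hl, ?_⟩
      simp [image_image, Function.comp_def, ψ, Equiv.permCongrHom, Equiv.permCongr_apply]
    · rw [Set.ncard_image_of_injective _ (image_injective (ψ g).injective)]
  have hinj : Function.Injective ψ := by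
    refine (MonoidHom.ker_eq_bot_iff ψ).1
      ((IsSimpleGroup.eq_bot_or_eq_top_of_normal ψ.ker inferInstance).resolve_right fun h => ?_)
    obtain ⟨g, x, hgx⟩ := hne
    have h1 : ψ g = 1 := MonoidHom.mem_ker.1 (h ▸ Subgroup.mem_top g)
    have h2 := (Equiv.permCongrHom e).injective (h1.trans (map_one _).symm)
    exact hgx (Equiv.congr_fun h2 x)
  set P := (pslHom).range with hP
  have hPle : P ≤ setSystemAut coordLines := by
    rintro _ ⟨x, rfl⟩
    exact pslHom_mem x
  have hPc : Nat.card P = 20160 := by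
    rw [← Nat.card_congr (MonoidHom.ofInjective pslHom_injective).toEquiv, card_PSL34]
  have hAut := card_aut_le coord_steiner (by rfl)
  have hidx : (P.comap ψ).index ≤ 6 := by
    rw [Subgroup.index_comap]
    have hmul := Subgroup.card_mul_index (P.subgroupOf (setSystemAut coordLines))
    rw [Nat.card_congr (Subgroup.subgroupOfEquivOfLe hPle).toEquiv, hPc] at hmul
    have h6 : P.relIndex (setSystemAut coordLines) ≤ 6 := by
      rw [Subgroup.relIndex]; omega
    refine (Subgroup.relIndex_le_of_le_right hψ ?_).trans h6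
    exact Subgroup.index_ne_zero_of_finite
  have htop : P.comap ψ = ⊤ := by
    rcases IsSimpleGroup.eq_bot_or_eq_top_of_normal (P.comap ψ).normalCore inferInstance with h | h
    · exfalso
      have hdvd : Nat.card G ∣ Nat.card (Equiv.Perm (G ⧸ P.comap ψ)) := by
        refine Subgroup.card_dvd_of_injective (MulAction.toPermHom G (G ⧸ P.comap ψ)) ?_
        rw [← MonoidHom.ker_eq_bot_iff, ← Subgroup.normalCore_eq_ker, h]
      have hle := Nat.le_of_dvd Nat.card_pos hdvd
      rw [Nat.card_perm] at hle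
      have := Nat.factorial_le hidx
      rw [show Nat.factorial 6 = 720 from rfl] at this
      change Nat.card G ≤ (P.comap ψ).index.factorial at hle
      omega
    · exact top_le_iff.1 (h ▸ Subgroup.normalCore_le _)
  have hrange : ψ.range = P := by
    refine Subgroup.eq_of_le_of_card_ge ?_ ?_
    · rintro _ ⟨g, rfl⟩
      exact Subgroup.mem_comap.1 (htop ▸ Subgroup.mem_top g)
    · rw [hPc, ← Nat.card_congr (MonoidHom.ofInjective hinj).toEquiv, hG]
  exact ⟨((MonoidHom.ofInjective hinj).trans (MulEquiv.subgroupCongr hrange)).trans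
    (MonoidHom.ofInjective pslHom_injective).symm⟩

end CfsgLib.CITGroups
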