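import Cfsg.Agent.CITGroups.Count
import Cfsg.Agent.CITGroups.PlaneModel

/-!
# The coset geometry of the configuration of `PSL₃` over four elements
-/

set_option autoImplicit false
set_option linter.style.haveILetI false
set_option linter.unusedSectionVars false

namespace CfsgLib.CITGroups

open Subgroup Cfsg
open scoped Pointwise

namespace FourFrame

variable {G : Type*} [Group G] [Finite G] {T V A : Subgroup G}

/-- Incidence: a common coset representative. -/
def Incident (V A : Subgroup G) (p : G ⧸ normalizer (V : Set G)) (l : G ⧸ normalizer (A : Set G)) :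
    Prop :=
  ∃ x : G, (x : G ⧸ normalizer (V : Set G)) = p ∧ (x : G ⧸ normalizer (A : Set G)) = l

theorem inf_normalizers (F : FourFrame T V A) :
    normalizer (V : Set G) ⊓ normalizer (A : Set G) = normalizer (T : Set G) := by
  set NV := normalizer (V : Set G)
  set NA := normalizer (A : Set G)
  have hTle : normalizer (T : Set G) ≤ NV ⊓ NA := le_inf F.normalizer_T_le_V F.normalizer_T_le_A
  have hd1 := Subgroup.card_dvd_of_le hTle
  have hd2 := Subgroup.card_dvd_of_le (inf_le_left : NV ⊓ NA ≤ NV)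
  rw [F.card_normalizer_T] at hd1
  rw [show Nat.card NV = 960 from F.card_normalizer_V] at hd2
  have hlt : Nat.card (NV ⊓ NA : Subgroup G) ≠ 960 := by
    intro h
    have hsub : NV ⊓ NA ≤ normalizer (T : Set G) := by
      intro g hg
      obtain ⟨hgV, hgA⟩ := Subgroup.mem_inf.1 hg
      rw [mem_normalizer_iff_map_conj_eq, ← F.sup_eq, Subgroup.map_sup,
        mem_normalizer_iff_map_conj_eq.1 hgV, mem_normalizer_iff_map_conj_eq.1 hgA]
    have := Subgroup.card_le_of_le hsub
    rw [h, F.card_normalizer_T] at this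
    omega
  obtain ⟨a, ha⟩ := hd1
  have ha5 : a ∣ 5 := Nat.dvd_of_mul_dvd_mul_left (show 0 < 192 by norm_num) (ha ▸ hd2)
  rcases (Nat.dvd_prime (by norm_num : Nat.Prime 5)).1 ha5 with rfl | rfl
  · exact (Subgroup.eq_of_le_of_card_ge hTle (by rw [ha, F.card_normalizer_T])).symm
  · exact absurd ha hlt

theorem index_normalizers (h : Nat.card G = 20160) (F : FourFrame T V A) :
    (normalizer (V : Set G)).index = 21 ∧ (normalizer (A : Set G)).index = 21 := by
  have h1 := (normalizer (V : Set G)).card_mul_index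
  have h2 := (normalizer (A : Set G)).card_mul_index
  rw [F.card_normalizer_V, h] at h1
  rw [F.card_normalizer_A, h] at h2
  omega

/-- A line has five points. -/
theorem card_points_on (F : FourFrame T V A) (l : G ⧸ normalizer (A : Set G)) :
    Nat.card {p // Incident V A p l} = 5 := by
  obtain ⟨g, rfl⟩ := QuotientGroup.mk_surjective l
  set NA := normalizer (A : Set G) with hNA
  set NV := normalizer (V : Set G) with hNV
  have h5 : Nat.card (NA ⧸ (NV.subgroupOf NA)) = 5 := by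
    have h := Subgroup.card_eq_card_quotient_mul_card_subgroup (NV.subgroupOf NA)
    have e : Nat.card (NV.subgroupOf NA) = 192 := by
      rw [← Subgroup.inf_subgroupOf_right,
        Nat.card_congr (Subgroup.subgroupOfEquivOfLe inf_le_right).toEquiv, F.inf_normalizers,
        F.card_normalizer_T]
    rw [F.card_normalizer_A, e] at h
    omega
  rw [← h5]
  refine (Nat.card_congr (Equiv.ofBijective (Quotient.lift
    (fun m : NA => (⟨((g * m : G) : G ⧸ NV), g * m, rfl,
      QuotientGroup.eq.2 (by simp [hNA])⟩ : {p // Incident V A p (g : G ⧸ NA)}))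
    (fun a b hab => by
      refine Subtype.ext (QuotientGroup.eq.2 ?_)
      have h := Subgroup.mem_subgroupOf.1 (QuotientGroup.leftRel_apply.1 hab)
      simpa [mul_assoc] using h)) ⟨?_, ?_⟩)).symm
  · intro p q hpq
    obtain ⟨a, rfl⟩ := QuotientGroup.mk_surjective p
    obtain ⟨b, rfl⟩ := QuotientGroup.mk_surjective q
    have h := QuotientGroup.eq.1 (congrArg Subtype.val hpq :
      ((g * a : G) : G ⧸ NV) = ((g * b : G) : G ⧸ NV))
    refine QuotientGroup.eq.2 (Subgroup.mem_subgroupOf.2 ?_)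
    simpa [mul_assoc] using h
  · rintro ⟨p, x, hx, hxl⟩
    refine ⟨((⟨g⁻¹ * x, QuotientGroup.eq.1 hxl.symm⟩ : NA) : NA ⧸ NV.subgroupOf NA), Subtype.ext ?_⟩
    show ((g * (g⁻¹ * x) : G) : G ⧸ NV) = p
    rw [mul_inv_cancel_left, hx]

/-- Two points lie on at most one common line. -/
theorem eq_or_eq (F : FourFrame T V A) {p p' : G ⧸ normalizer (V : Set G)}
    {l l' : G ⧸ normalizer (A : Set G)} (h1 : Incident V A p l) (h2 : Incident V A p' l)
    (h3 : Incident V A p l') (h4 : Incident V A p' l') : p = p' ∨ l = l' := by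
  obtain ⟨x1, p1, l1⟩ := h1
  obtain ⟨x2, p2, l2⟩ := h2
  obtain ⟨x3, p3, l3⟩ := h3
  obtain ⟨x4, p4, l4⟩ := h4
  by_contra hne
  push Not at hne
  obtain ⟨hpp, hll⟩ := hne
  obtain ⟨c, hc, hc2⟩ := F.exists_center
  -- representatives with the same coset give the same conjugate
  have same : ∀ (X : Subgroup G) (a b : G),
      (a : G ⧸ normalizer (X : Set G)) = (b : G ⧸ normalizer (X : Set G)) → ∀ y, a⁻¹ * y * a ∈ X ↔ b⁻¹ * y * b ∈ X := by
    intro X a b hab y
    have h := mem_normalizer_iff.1 (inv_mem (QuotientGroup.eq.1 hab)) (a⁻¹ * y * a)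
    rw [inv_inv] at h
    rwa [show (a⁻¹ * b)⁻¹ * (a⁻¹ * y * a) * (a⁻¹ * b) = b⁻¹ * y * b by group] at h
  have hnormal : ∀ (X : Subgroup G), T ≤ normalizer (X : Set G) → ∀ (a y z : G),
      a⁻¹ * y * a ∈ X → a⁻¹ * z * a ∈ T → a⁻¹ * (y * z * y⁻¹ * z⁻¹) * a ∈ X := by
    intro X hX a y z hy hz
    rw [show a⁻¹ * (y * z * y⁻¹ * z⁻¹) * a =
      (a⁻¹ * y * a) * ((a⁻¹ * z * a) * (a⁻¹ * y * a)⁻¹ * (a⁻¹ * z * a)⁻¹) by group]
    exact X.mul_mem hy ((mem_normalizer_iff.1 (hX hz) _).1 (X.inv_mem hy))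
  have hsep : ∀ (a b y : G), a⁻¹ * y * a ∈ V ⊓ A → b⁻¹ * y * b ∈ V ⊓ A → y ≠ 1 →
      (a : G ⧸ normalizer (V : Set G)) = b ∧ (a : G ⧸ normalizer (A : Set G)) = b := by
    intro a b y ha hb hy
    have hne1 : ∀ d : G, d⁻¹ * y * d ≠ 1 := fun d h => hy (by
      rw [show y = d * (d⁻¹ * y * d) * d⁻¹ by group, h]; group)
    have hT : ∀ (d : G), d⁻¹ * y * d ∈ V ⊓ A → ∀ z, z * y = y * z ↔ d⁻¹ * z * d ∈ T := by
      intro d hd z
      rw [← F.centralizer_eq _ hd (hne1 d), mem_centralizer_singleton_iff]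
      constructor
      · intro h
        calc d⁻¹ * z * d * (d⁻¹ * y * d) = d⁻¹ * (z * y) * d := by group
          _ = d⁻¹ * (y * z) * d := by rw [h]
          _ = d⁻¹ * y * d * (d⁻¹ * z * d) := by group
      · intro h
        calc z * y = d * (d⁻¹ * z * d * (d⁻¹ * y * d)) * d⁻¹ := by group
          _ = d * (d⁻¹ * y * d * (d⁻¹ * z * d)) * d⁻¹ := by rw [h]
          _ = y * z := by group
    have hmem : a⁻¹ * b ∈ normalizer (T : Set G) := mem_normalizer_iff.2 fun z => by
      have e1 := hT a ha (b * z * b⁻¹)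
      have e2 := hT b hb (b * z * b⁻¹)
      rw [show b⁻¹ * (b * z * b⁻¹) * b = z by group] at e2
      rw [show a⁻¹ * (b * z * b⁻¹) * a = a⁻¹ * b * z * (a⁻¹ * b)⁻¹ by group] at e1
      exact e2.symm.trans e1
    exact ⟨QuotientGroup.eq.2 (F.normalizer_T_le_V hmem), QuotientGroup.eq.2 (F.normalizer_T_le_A hmem)⟩
  -- nontrivial central elements of the first and last Sylow subgroups
  set y := x1 * c * x1⁻¹ with hy
  set z := x4 * c * x4⁻¹ with hz
  have hy1 : y ≠ 1 := fun h => (inv_eq_self_of_two hc2).2.2 (conj_eq_one_iff.1 h)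
  have hz1 : z ≠ 1 := fun h => (inv_eq_self_of_two hc2).2.2 (conj_eq_one_iff.1 h)
  have hyV : x1⁻¹ * y * x1 ∈ V ∧ x1⁻¹ * y * x1 ∈ A := by
    rw [hy, show x1⁻¹ * (x1 * c * x1⁻¹) * x1 = c by group]
    exact Subgroup.mem_inf.1 hc
  have hzV : x4⁻¹ * z * x4 ∈ V ∧ x4⁻¹ * z * x4 ∈ A := by
    rw [hz, show x4⁻¹ * (x4 * c * x4⁻¹) * x4 = c by group]
    exact Subgroup.mem_inf.1 hc
  have hyA2 := (same A x1 x2 (l1.trans l2.symm) y).1 hyV.2
  have hyV3 := (same V x1 x3 (p1.trans p3.symm) y).1 hyV.1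
  have hzV2 := (same V x4 x2 (p4.trans p2.symm) z).1 hzV.1
  have hzA3 := (same A x4 x3 (l4.trans l3.symm) z).1 hzV.2
  set w := y * z * y⁻¹ * z⁻¹ with hw
  -- the commutator lies in the centres of the middle two
  have hwA2 : x2⁻¹ * w * x2 ∈ A := hnormal A F.normal_A x2 y z hyA2 (F.le_T_V hzV2)
  have hwV3 : x3⁻¹ * w * x3 ∈ V := hnormal V F.normal_V x3 y z hyV3 (F.le_T_A hzA3)
  have hswap : ∀ (X : Subgroup G), T ≤ normalizer (X : Set G) → ∀ a : G,
      a⁻¹ * z * a ∈ X → a⁻¹ * y * a ∈ T → a⁻¹ * w * a ∈ X := by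
    intro X hX a hza hya
    have := X.inv_mem (hnormal X hX a z y hza hya)
    rwa [show (a⁻¹ * (z * y * z⁻¹ * y⁻¹) * a)⁻¹ = a⁻¹ * w * a by rw [hw]; group] at this
  have hwV2 : x2⁻¹ * w * x2 ∈ V := hswap V F.normal_V x2 hzV2 (F.le_T_A hyA2)
  have hwA3 : x3⁻¹ * w * x3 ∈ A := hswap A F.normal_A x3 hzA3 (F.le_T_V hyV3)
  have hw1 : w = 1 := by
    by_contra hw1
    exact hpp ((p3.symm.trans ((hsep x3 x2 w (Subgroup.mem_inf.2 ⟨hwV3, hwA3⟩)
      (Subgroup.mem_inf.2 ⟨hwV2, hwA2⟩) hw1).1)).trans p2)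
  have hcomm : z * y = y * z := by
    have h := hw ▸ hw1
    exact (mul_inv_eq_one.1 (by rwa [mul_inv_rev, ← mul_assoc] : y * z * (z * y)⁻¹ = 1)).symm
  have hzT : x1⁻¹ * z * x1 ∈ T := by
    rw [← F.centralizer_center hc hc2, mem_centralizer_singleton_iff]
    calc x1⁻¹ * z * x1 * c = x1⁻¹ * (z * y) * x1 := by rw [hy]; group
      _ = x1⁻¹ * (y * z) * x1 := by rw [hcomm]
      _ = c * (x1⁻¹ * z * x1) := by rw [hy]; group
  have hzsq : x1⁻¹ * z * x1 * (x1⁻¹ * z * x1) = 1 := by
    rw [show x1⁻¹ * z * x1 * (x1⁻¹ * z * x1) = x1⁻¹ * x4 * (c * c) * (x4⁻¹ * x1) by rw [hz]; group,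
      (inv_eq_self_of_two hc2).1]
    group
  rcases F.invol _ hzT hzsq with h | h
  · have hzV3 := (same V x1 x3 (p1.trans p3.symm) z).1 h
    exact hpp (p3.symm.trans ((hsep x3 x4 z (Subgroup.mem_inf.2 ⟨hzV3, hzA3⟩)
      (Subgroup.mem_inf.2 hzV) hz1).1.trans p4))
  · have hzA2 := (same A x1 x2 (l1.trans l2.symm) z).1 h
    exact hll (l2.symm.trans ((hsep x2 x4 z (Subgroup.mem_inf.2 ⟨hzV2, hzA2⟩)
      (Subgroup.mem_inf.2 hzV) hz1).2.trans l4))

/-- The group of the configuration is `PSL₃` over four elements. -/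
theorem psl_three [IsSimpleGroup G] (F : FourFrame T V A) (h : Nat.card G = 20160) :
    ∃ (K : Type) (_ : Field K) (_ : Fintype K), Fintype.card K = 4 ∧
      Nonempty (G ≃* Matrix.ProjectiveSpecialLinearGroup (Fin 3) K) := by
  classical
  obtain ⟨hiV, hiA⟩ := F.index_normalizers h
  let P := G ⧸ normalizer (V : Set G)
  let Q := G ⧸ normalizer (A : Set G)
  haveI : Fintype P := Fintype.ofFinite _
  haveI : Fintype Q := Fintype.ofFinite _
  have hP : Fintype.card P = 21 := by rw [← Nat.card_eq_fintype_card]; exact hiV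
  have hQ : Fintype.card Q = 21 := by rw [← Nat.card_eq_fintype_card]; exact hiA
  let pts : Q → Finset P := fun l => Finset.univ.filter fun p => Incident V A p l
  have h5 : ∀ l, (pts l).card = 5 := fun l => by
    rw [← F.card_points_on l, Nat.card_eq_fintype_card, Fintype.card_subtype]
  -- the pairs on the lines are all pairs
  have hdisj : ∀ l l', l ≠ l' → Disjoint ((pts l).powersetCard 2) ((pts l').powersetCard 2) := by
    intro l l' hll
    refine Finset.disjoint_left.2 fun s hs hs' => ?_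
    rw [Finset.mem_powersetCard] at hs hs'
    obtain ⟨p, p', hpp, rfl⟩ := Finset.card_eq_two.1 hs.2
    have m : ∀ {q : P} {k : Q}, q ∈ pts k → Incident V A q k := fun hq => (Finset.mem_filter.1 hq).2
    exact (F.eq_or_eq (m (hs.1 (by simp))) (m (hs.1 (by simp))) (m (hs'.1 (by simp)))
      (m (hs'.1 (by simp)))).elim hpp hll
  have hall : (Finset.univ.biUnion fun l => (pts l).powersetCard 2) =
      (Finset.univ : Finset P).powersetCard 2 := by
    refine Finset.eq_of_subset_of_card_le (Finset.biUnion_subset.2 fun l _ =>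
      Finset.powersetCard_mono (Finset.subset_univ _)) ?_
    rw [Finset.card_biUnion fun l _ l' _ hll => hdisj l l' hll,
      Finset.sum_congr rfl (g := fun _ => 10) (fun l _ => by
        rw [Finset.card_powersetCard, h5]; rfl),
      Finset.sum_const, Finset.card_univ, hQ, Finset.card_powersetCard, Finset.card_univ, hP]
    decide
  have hL : IsSteinerSystem 2 5 (Set.range pts) := by
    refine ⟨?_, fun s hs => ?_⟩
    · rintro _ ⟨l, rfl⟩
      exact h5 l
    · have hmem : s ∈ (Finset.univ : Finset P).powersetCard 2 :=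
        Finset.mem_powersetCard.2 ⟨Finset.subset_univ _, hs⟩
      rw [← hall, Finset.mem_biUnion] at hmem
      obtain ⟨l, -, hl⟩ := hmem
      refine ⟨pts l, ⟨⟨l, rfl⟩, (Finset.mem_powersetCard.1 hl).1⟩, ?_⟩
      rintro _ ⟨⟨l', rfl⟩, hl'⟩
      by_contra hne
      exact Finset.disjoint_left.1 (hdisj l' l fun e => hne (e ▸ rfl))
        (Finset.mem_powersetCard.2 ⟨hl', hs⟩) hl
  have hline : ∀ (g : G), ∀ l ∈ Set.range pts, Finset.image (g • ·) l ∈ Set.range pts := by
    rintro g _ ⟨l, rfl⟩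
    refine ⟨g • l, (Finset.eq_of_subset_of_card_le ?_ ?_).symm⟩
    · intro q hq
      obtain ⟨p, hp, rfl⟩ := Finset.mem_image.1 hq
      obtain ⟨x, rfl, rfl⟩ := (Finset.mem_filter.1 hp).2
      exact Finset.mem_filter.2 ⟨Finset.mem_univ _, g * x, rfl, rfl⟩
    · rw [Finset.card_image_of_injective _ (MulAction.injective g), h5, h5]
  have hne : ∃ (g : G) (x : P), g • x ≠ x := by
    by_contra hno
    push Not at hno
    have hsub : Subsingleton P := ⟨fun p q => by
      obtain ⟨a, rfl⟩ := QuotientGroup.mk_surjective p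
      obtain ⟨b, rfl⟩ := QuotientGroup.mk_surjective q
      have := hno (b * a⁻¹) (a : P)
      rw [MulAction.Quotient.smul_coe, smul_eq_mul, inv_mul_cancel_right] at this
      exact this.symm⟩
    have := Fintype.card_le_one_iff_subsingleton.2 hsub
    omega
  exact ⟨CfsgLib.Linear.GF4, inferInstance, inferInstance, CfsgLib.Linear.card_gf4,
    psl_of_plane h hL hP hne hline⟩

end FourFrame

end CfsgLib.CITGroups
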