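import Cfsg.Agent.CITGroups.Local

/-!
# The case of a module of order four
-/

set_option autoImplicit false
set_option linter.style.haveILetI false
set_option linter.unusedSectionVars false

namespace CfsgLib.CITGroups

open Subgroup
open CfsgLib.EPPOSeven (MaxPair omegaCentral)

variable {G : Type*} [Group G] [Finite G]

/-- When the fixed points of `T` have order two the pair is a `TwoFrame`. -/
theorem twoFrame (h : IsCIT G) (M : MaxPair G) (hq : Nat.card (fixT M) = 2) :
    TwoFrame M (omegaCentral M.D) := by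
  classical
  haveI : Fact (Nat.Prime 2) := ⟨Nat.prime_two⟩
  have Q := quotData h M
  have L := localData h M
  have hU4 : Nat.card (omegaCentral M.D) = 4 := by rw [L.card_omega, hq]
  have hTN : M.T ≤ M.N := inf_le_right
  haveI : (M.D.subgroupOf M.N).Normal :=
    normal_subgroupOf_iff_le_normalizer le_normalizer |>.2 le_rfl
  set U := omegaCentral M.D with hU
  let X := {u : U // u ≠ 1}
  have hUn : ∀ g : M.N, ∀ u : U, (g : G) * u * (g : G)⁻¹ ∈ U := fun g u =>
    (mem_normalizer_iff.1 (L.ff.normal g.2) _).1 u.2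
  let σ : M.N → X → X := fun g x =>
    ⟨⟨(g : G) * x.1 * (g : G)⁻¹, hUn g x.1⟩, fun e =>
      x.2 (Subtype.ext (conj_eq_one_iff.1 (congrArg Subtype.val e)))⟩
  have hσ : ∀ g g' : M.N, ∀ x, σ g (σ g' x) = σ (g * g') x := fun g g' x =>
    Subtype.ext (Subtype.ext (by
      show (g : G) * ((g' : G) * x.1 * (g' : G)⁻¹) * (g : G)⁻¹ = (g * g' : G) * x.1 * (g * g' : G)⁻¹
      group))
  have hσ1 : ∀ x, σ 1 x = x := fun x => Subtype.ext (Subtype.ext (by
    show ((1 : M.N) : G) * x.1 * ((1 : M.N) : G)⁻¹ = x.1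
    simp))
  let φ : M.N →* Equiv.Perm X := MonoidHom.mk'
    (fun g => ⟨σ g, σ g⁻¹, fun x => by rw [hσ, inv_mul_cancel, hσ1],
      fun x => by rw [hσ, mul_inv_cancel, hσ1]⟩)
    fun g g' => Equiv.ext fun x => (hσ g g' x).symm
  have hker : φ.ker = M.D.subgroupOf M.N := by
    ext g
    rw [mem_subgroupOf, MonoidHom.mem_ker]
    constructor
    · intro hg
      rw [← L.centralizer_eq]
      refine ⟨g.2, mem_centralizer_iff.2 fun u hu => ?_⟩
      rcases eq_or_ne u 1 with rfl | hu1
      · simp
      · have h1 := congrArg (fun p : Equiv.Perm X => (((p ⟨⟨u, hu⟩,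
          fun e => hu1 (congrArg Subtype.val e)⟩ : X).1 : U) : G)) hg
        exact (mul_inv_eq_iff_eq_mul.1 h1).symm
    · intro hg
      refine Equiv.ext fun x => Subtype.ext (Subtype.ext ?_)
      show (g : G) * x.1 * (g : G)⁻¹ = x.1
      exact L.ff.conj_eq_of_mem (by rw [L.centralizer_eq]; exact hg) x.1.2
  have hperm : Nat.card (Equiv.Perm X) = 6 := by
    haveI := Fintype.ofFinite U
    haveI := Fintype.ofFinite X
    rw [Nat.card_perm, Nat.card_eq_fintype_card (α := X), Fintype.card_subtype_compl,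
      Fintype.card_subtype_eq, ← Nat.card_eq_fintype_card, hU4]
    rfl
  have hN : Nat.card M.N = Nat.card M.D * Nat.card φ.range := by
    rw [← φ.ker.card_mul_index, Subgroup.index_ker, hker,
      Nat.card_congr (subgroupOfEquivOfLe le_normalizer).toEquiv]
  set k := Nat.card φ.range with hk
  have hk6 : k ∣ 6 := hperm ▸ card_subgroup_dvd_card φ.range
  have hT2 : Nat.card M.T = Nat.card M.D * 2 := by rw [L.card_T, hq]
  have hk2 : 2 ∣ k := by
    have h1 := card_dvd_of_le hTN
    rw [hN, hT2] at h1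
    exact Nat.dvd_of_mul_dvd_mul_left Nat.card_pos h1
  have hk6' : k = 6 := by
    have hle : k ≤ 6 := Nat.le_of_dvd (by norm_num) hk6
    have hne : k ≠ 2 := by
      intro e
      refine M.not_isPGroup_N ?_
      have : M.T = M.N := eq_of_le_of_card_ge hTN (by rw [hN, hT2, e])
      rw [← this]
      exact M.T_isPGroup
    interval_cases k <;> omega
  refine ⟨h, fun v hv => hv.1, fun v hv => ⟨hv.2.2, hv.2.1⟩, fun v hv hv2 hvc => ⟨hv, hvc, hv2⟩,
    hU4, L.ff.normal, by rw [hN, hk6', mul_comm], fun X hX hXD hNX => normalizer_eq h M hX hXD hNX,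
    exists_maxEA_notLe h M⟩

end CfsgLib.CITGroups
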