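import Cfsg.Agent.CITGroups.Defs
import Cfsg.Agent.EPPOSeven.Four

/-!
# A self-centralising four group from the second configuration

The normaliser of `D` is a two-group by `S₃`; as for the groups without elements of order five
this forces `D` to be a four group.
-/

set_option autoImplicit false
set_option linter.style.haveILetI false
set_option linter.unusedSectionVars false

namespace CfsgLib.CITGroups

open Subgroup
open CfsgLib.EPPOSeven (MaxPair OuterInvolution card_le_two_mul commute_of_norm sq_one_of_orderOf_two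
  orderOf_two_of_sq_one exists_conj_maximal exists_normalizing_notMem)

/-- In a group of order six two distinct involutions have product of order three. -/
theorem cube_of_involutions {Q : Type*} [Group Q] (hQ : Nat.card Q = 6) {a b : Q} (ha : a * a = 1)
    (hb : b * b = 1) (ha1 : a ≠ 1) (hb1 : b ≠ 1) (hab : a ≠ b) : (a * b) ^ 3 = 1 := by
  haveI : Finite Q := Nat.finite_of_card_ne_zero (by omega)
  haveI : Fact (Nat.Prime 2) := ⟨Nat.prime_two⟩
  have hcomm : ¬ Commute a b := by
    intro hc
    have hp : ∀ z : Q, z * z = 1 → IsPGroup 2 (zpowers z) := fun z hz => by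
      obtain ⟨i, -, hi⟩ := (Nat.dvd_prime_pow Nat.prime_two).1
        (show orderOf z ∣ 2 ^ 1 by rw [pow_one]; exact orderOf_dvd_of_pow_eq_one (by rw [pow_two, hz]))
      exact IsPGroup.of_card (n := i) (by rw [Nat.card_zpowers, hi])
    have hle : zpowers b ≤ normalizer ((zpowers a : Subgroup Q) : Set Q) := by
      rw [zpowers_le, mem_normalizer_iff_map_conj_eq, MonoidHom.map_zpowers]
      congr 1
      show b * a * b⁻¹ = a
      rw [← hc.eq, mul_inv_cancel_right]
    have h2 := (hp a ha).to_sup_of_normal_left' (hp b hb) hle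
    obtain ⟨j, hj⟩ := IsPGroup.iff_card.1 h2
    have hd := Subgroup.card_subgroup_dvd_card (zpowers a ⊔ zpowers b)
    have h3 : ({1, a, b} : Set Q).ncard ≤ Nat.card ↥(zpowers a ⊔ zpowers b) := by
      rw [← SetLike.coe_sort_coe, Nat.card_coe_set_eq]
      refine Set.ncard_le_ncard ?_ (Set.toFinite _)
      rintro z (rfl | rfl | rfl)
      · exact one_mem _
      · exact mem_sup_left (mem_zpowers _)
      · exact mem_sup_right (mem_zpowers _)
    rw [Set.ncard_eq_three.2 ⟨1, a, b, ha1.symm, hb1.symm, hab, rfl⟩, hj] at h3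
    rw [hQ, hj] at hd
    have := Nat.le_of_dvd (by norm_num) hd
    match j with
    | 0 => norm_num at h3
    | 1 => norm_num at h3
    | 2 => norm_num at hd
    | j + 3 => have : 2 ^ 3 ≤ 2 ^ (j + 3) := Nat.pow_le_pow_right two_pos (by omega); omega
  have hdvd : orderOf (a * b) ∣ 6 := hQ ▸ orderOf_dvd_natCard _
  have hai := inv_eq_of_mul_eq_one_right ha
  have hbi := inv_eq_of_mul_eq_one_right hb
  have hne2 : (a * b) * (a * b) ≠ 1 := fun h => hcomm (by
    have h' := inv_eq_of_mul_eq_one_right h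
    rw [mul_inv_rev, hai, hbi] at h'
    exact h'.symm)
  have hne6 : orderOf (a * b) ≠ 6 := by
    intro h6
    have htop : zpowers (a * b) = ⊤ := eq_top_of_card_eq _ (by rw [Nat.card_zpowers, h6, hQ])
    obtain ⟨i, hi⟩ : a ∈ zpowers (a * b) := htop ▸ mem_top a
    obtain ⟨k, hk⟩ : b ∈ zpowers (a * b) := htop ▸ mem_top b
    simp only at hi hk
    apply hcomm
    have := Commute.zpow_zpow (Commute.refl (a * b)) i k
    rwa [hi, hk] at this
  refine orderOf_dvd_iff_pow_eq_one.1 ?_
  have hle := Nat.le_of_dvd (by norm_num) hdvd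
  have h2' : ¬ orderOf (a * b) ∣ 2 := fun h => hne2 (by
    rw [← pow_two, ← orderOf_dvd_iff_pow_eq_one]; exact h)
  generalize orderOf (a * b) = o at *
  interval_cases o <;> omega

namespace TwoFrame

variable {G : Type*} [Group G] [Finite G] {M : MaxPair G} {V : Subgroup G} (F : TwoFrame M V)
include F

/-- A normal two-subgroup of the normaliser of `D` lies in `D`. -/
theorem le_D_of_normal {P : Subgroup G} (hPN : P ≤ M.N) (hNP : M.N ≤ normalizer (P : Set G))
    (hP : IsPGroup 2 P) : P ≤ M.D := by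
  haveI : Fact (Nat.Prime 2) := ⟨Nat.prime_two⟩
  have key : ∀ R : Sylow 2 G,
      (∀ Q : Subgroup G, IsPGroup 2 Q → Q ≤ M.N → (R : Subgroup G) ⊓ M.N ≤ Q →
        Q = (R : Subgroup G) ⊓ M.N) → P ≤ R := by
    intro R hR
    have h2 : IsPGroup 2 ↥(P ⊔ (R : Subgroup G) ⊓ M.N) :=
      hP.to_sup_of_normal_left' (R.2.to_le inf_le_left) (inf_le_right.trans hNP)
    exact (le_sup_left.trans (hR _ h2 (sup_le hPN inf_le_right) le_sup_right).le).trans inf_le_left
  conv_rhs => rw [M.hD]
  exact le_inf (key _ M.max₁) (key _ M.max₂)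

theorem card_T : Nat.card M.T = 2 * Nat.card M.D := by
  haveI : Fact (Nat.Prime 2) := ⟨Nat.prime_two⟩
  obtain ⟨i, hi⟩ := IsPGroup.iff_card.1 M.D_isPGroup
  obtain ⟨j, hj⟩ := IsPGroup.iff_card.1 M.T_isPGroup
  have hlt : Nat.card M.D < Nat.card M.T :=
    lt_of_le_of_ne (card_le_of_le M.D_le_T) fun e =>
      M.lt₁.ne (eq_of_le_of_card_ge M.D_le_T e.ge)
  have hdvd : Nat.card M.T ∣ Nat.card M.N := card_dvd_of_le inf_le_right
  rw [F.card_N, hi, hj, show 6 * 2 ^ i = 2 ^ (i + 1) * 3 by ring] at hdvd
  rw [hi, hj] at hlt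
  have h1 := (Nat.pow_dvd_pow_iff_le_right (by norm_num : 1 < 2)).1
    ((Nat.Coprime.pow_left j (by norm_num : Nat.Coprime 2 3)).dvd_of_dvd_mul_right hdvd)
  have h2 := (Nat.pow_lt_pow_iff_right (by norm_num : 1 < 2)).1 hlt
  rw [hi, hj, show j = i + 1 by omega]
  ring

theorem mul_mem_D {t t' : G} (ht : t ∈ M.T) (htD : t ∉ M.D) (ht' : t' ∈ M.T) (ht'D : t' ∉ M.D) :
    t * t' ∈ M.D := by
  have hidx : (M.D.subgroupOf M.T).index = 2 := by
    have h := (M.D.subgroupOf M.T).card_mul_index
    rw [Nat.card_congr (subgroupOfEquivOfLe M.D_le_T).toEquiv, F.card_T, mul_comm 2] at h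
    exact Nat.eq_of_mul_eq_mul_left Nat.card_pos h
  have := Subgroup.mul_mem_iff_of_index_two hidx (a := (⟨t, ht⟩ : M.T)) (b := ⟨t', ht'⟩)
  simp only [mem_subgroupOf, Subgroup.coe_mul] at this
  exact this.2 (iff_of_false htD ht'D)

/-- An element of `N` outside `D` with cube in `D` has order three. -/
theorem cube_eq_one {g : G} (h3 : g ^ 3 ∈ M.D) (hgD : g ∉ M.D) :
    g ^ 3 = 1 := by
  by_contra h1
  obtain ⟨j, hj⟩ := exists_orderOf_eq_two_pow M.D_isPGroup h3
  have hg : (g ^ 2 ^ j) ^ 3 = 1 := by rw [← pow_mul, mul_comm, pow_mul, ← hj, pow_orderOf_eq_one]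
  have hodd : Odd (orderOf (g ^ 2 ^ j)) := by
    rcases (Nat.dvd_prime Nat.prime_three).1 (orderOf_dvd_of_pow_eq_one hg) with h | h <;>
      rw [h] <;> decide
  have hone : g ^ 2 ^ j = 1 := by_contra fun hne =>
    h1 (F.cit.eq_one_of_mem M.D_isPGroup h3 hodd hne (Commute.pow_pow (Commute.refl g) _ _))
  have hco : Nat.Coprime 3 (orderOf g) := Nat.Coprime.coprime_dvd_right
    (orderOf_dvd_of_pow_eq_one hone) (Nat.Coprime.pow_right j (by norm_num))
  obtain ⟨m, hm⟩ := exists_pow_eq_self_of_coprime hco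
  exact hgD (hm ▸ pow_mem h3 m)

theorem fixedPointFree {y : G} (hy : orderOf y = 3) {d : G} (hd : d ∈ M.D) (hc : Commute y d) :
    d = 1 :=
  F.cit.eq_one_of_mem M.D_isPGroup hd (by rw [hy]; decide)
    (fun e => by rw [e, orderOf_one] at hy; omega) hc

theorem exists_three : ∃ x ∈ M.N, orderOf x = 3 := by
  haveI : Fact (Nat.Prime 3) := ⟨Nat.prime_three⟩
  obtain ⟨x, hx⟩ := exists_prime_orderOf_dvd_card' (G := M.N) 3
    ⟨2 * Nat.card M.D, by rw [F.card_N]; ring⟩
  exact ⟨x, x.2, by rw [Subgroup.orderOf_coe, hx]⟩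

/-- Every involution of `T` outside `D` inverts an element of order three. -/
theorem exists_inverted_three {a : G} (ha : a ∈ M.T) (haD : a ∉ M.D) (hao : orderOf a = 2) :
    ∃ y ∈ M.N, orderOf y = 3 ∧ a * y * a⁻¹ = y⁻¹ := by
  haveI : Fact (Nat.Prime 2) := ⟨Nat.prime_two⟩
  obtain ⟨x, hxN, hx⟩ := F.exists_three
  have haN : a ∈ M.N := ha.2
  set b := x * a * x⁻¹ with hb
  have hbN : b ∈ M.N := mul_mem (mul_mem hxN haN) (inv_mem hxN)
  have haa : a * a = 1 := sq_one_of_orderOf_two hao
  have hbb : b * b = 1 := by rw [hb, show x * a * x⁻¹ * (x * a * x⁻¹) = x * (a * a) * x⁻¹ by group, haa]; group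
  have hsplit : ∀ t ∈ M.T, t ∈ M.D ∨ a * t ∈ M.D := fun t ht => by
    by_cases h : t ∈ M.D
    · exact Or.inl h
    · exact Or.inr (F.mul_mem_D ha haD ht h)
  have habD : a * b ∉ M.D := by
    intro h
    -- then `x` and `T` normalise `T`
    have hbT : b ∈ M.T := by
      rw [show b = a⁻¹ * (a * b) by group]
      exact mul_mem (inv_mem ha) (M.D_le_T h)
    have hxT : x ∈ normalizer (M.T : Set G) := by
      refine mem_normalizer_iff_map_conj_eq.2 (eq_of_le_of_card_ge ?_
        (card_map_of_injective (MulAut.conj x).injective).ge)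
      rintro _ ⟨t, ht, rfl⟩
      show x * t * x⁻¹ ∈ M.T
      rcases hsplit t ht with h' | h'
      · exact M.D_le_T ((mem_normalizer_iff.1 hxN t).1 h')
      · rw [show x * t * x⁻¹ = b⁻¹ * (x * (a * t) * x⁻¹) by rw [hb]; group]
        exact mul_mem (inv_mem hbT) (M.D_le_T ((mem_normalizer_iff.1 hxN _).1 h'))
    have hle : M.N ≤ normalizer (M.T : Set G) := by
      have h1 : Nat.card M.T ∣ Nat.card ↥(M.N ⊓ normalizer (M.T : Set G)) :=
        card_dvd_of_le (le_inf inf_le_right le_normalizer)
      have h2 : 3 ∣ Nat.card ↥(M.N ⊓ normalizer (M.T : Set G)) :=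
        hx ▸ Subgroup.orderOf_dvd_natCard _ (mem_inf.2 ⟨hxN, hxT⟩)
      have hco : Nat.Coprime (Nat.card M.T) 3 := by
        obtain ⟨j, hj⟩ := IsPGroup.iff_card.1 M.T_isPGroup
        rw [hj]
        exact Nat.Coprime.pow_left j (by norm_num)
      have h3 := hco.mul_dvd_of_dvd_of_dvd h1 h2
      have h4 : Nat.card M.N ≤ Nat.card ↥(M.N ⊓ normalizer (M.T : Set G)) := by
        refine le_trans (le_of_eq ?_) (Nat.le_of_dvd Nat.card_pos h3)
        rw [F.card_N, F.card_T]; ring
      exact (eq_of_le_of_card_ge inf_le_left h4).ge.trans inf_le_right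
    exact haD (F.le_D_of_normal inf_le_right hle M.T_isPGroup ha)
  refine ⟨a * b, mul_mem haN hbN, ?_, ?_⟩
  · haveI : Fact (Nat.Prime 3) := ⟨Nat.prime_three⟩
    refine orderOf_eq_prime (F.cube_eq_one ?_ habD) fun e => habD (e ▸ one_mem _)
    haveI : (M.D.subgroupOf M.N).Normal := Subgroup.normal_in_normalizer
    have hQ : Nat.card (M.N ⧸ M.D.subgroupOf M.N) = 6 := by
      have h := Subgroup.card_eq_card_quotient_mul_card_subgroup (M.D.subgroupOf M.N)
      rw [Nat.card_congr (subgroupOfEquivOfLe le_normalizer).toEquiv, F.card_N] at h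
      exact Nat.eq_of_mul_eq_mul_right Nat.card_pos h.symm
    have hbD : b ∉ M.D := fun h => haD (by
      have h' := (mem_normalizer_iff''.1 hxN b).1 h
      rwa [hb, show x⁻¹ * (x * a * x⁻¹) * x = a by group] at h')
    set π := QuotientGroup.mk' (M.D.subgroupOf M.N) with hπ
    have hmem : ∀ z : M.N, π z = 1 ↔ (z : G) ∈ M.D := fun z => by
      rw [hπ, QuotientGroup.mk'_apply, QuotientGroup.eq_one_iff, mem_subgroupOf]
    have h := cube_of_involutions hQ (a := π ⟨a, haN⟩) (b := π ⟨b, hbN⟩)
      (by rw [← map_mul, hmem]; show a * a ∈ M.D; rw [haa]; exact one_mem _)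
      (by rw [← map_mul, hmem]; show b * b ∈ M.D; rw [hbb]; exact one_mem _)
      (fun e => haD ((hmem _).1 e)) (fun e => hbD ((hmem _).1 e))
      (fun e => habD (by
        have : π (⟨a, haN⟩ * ⟨b, hbN⟩) = 1 := by
          rw [map_mul, e, ← map_mul, hmem]
          show b * b ∈ M.D
          rw [hbb]; exact one_mem _
        exact (hmem _).1 this))
    rw [← map_mul, ← map_pow, hmem] at h
    exact h
  · rw [mul_inv_rev, inv_eq_of_mul_eq_one_right haa, inv_eq_of_mul_eq_one_right hbb, ← mul_assoc,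
      haa, one_mul]

/-- The facts about the involutions of `T` outside `D`. -/
theorem outer_and_omega {a : G} (ha : a ∈ M.T) (haD : a ∉ M.D) (hao : orderOf a = 2) :
    OuterInvolution M.D M.N V a := by
  haveI : Fact (Nat.Prime 2) := ⟨Nat.prime_two⟩
  obtain ⟨y₀, hy₀N, hy₀, hy₀i⟩ := F.exists_inverted_three ha haD hao
  refine ⟨F.card_V, ?_, fun g hg d hd => (mem_normalizer_iff.1 hg d).1 hd,
    y₀, hy₀N, hy₀, hy₀i, fun d hd hc => F.fixedPointFree hy₀ hd hc⟩
  clear! a y₀
  obtain ⟨A, ⟨hAT, hAea, hAmax⟩, hAD⟩ := F.exists_maxEA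
  obtain ⟨a, haA, haD⟩ := SetLike.not_le_iff_exists.1 hAD
  have hsqA : ∀ z ∈ A, z * z = 1 := fun z hz => by rw [← pow_two]; exact hAea.2 z hz
  have hcA : ∀ z ∈ A, ∀ w ∈ A, z * w = w * z := fun z hz w hw =>
    congrArg Subtype.val (hAea.1.is_comm.comm ⟨z, hz⟩ ⟨w, hw⟩)
  have hao : orderOf a = 2 :=
    orderOf_two_of_sq_one (hsqA a haA) fun e => haD (e ▸ one_mem _)
  set E := A ⊓ M.D with hE
  have hAE : Nat.card A ≤ 2 * Nat.card E := by
    refine card_le_two_mul a fun z hz => ?_
    by_cases hzD : z ∈ M.D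
    · exact Or.inl ⟨hz, hzD⟩
    · exact Or.inr ⟨mul_mem haA hz, F.mul_mem_D (hAT haA) haD (hAT hz) hzD⟩
  obtain ⟨y, hyN, hy3, hay⟩ := F.exists_inverted_three (hAT haA) haD hao
  have hfpf3 : ∀ z ∈ M.N, orderOf z = 3 → ∀ d ∈ M.D, Commute z d → d = 1 := fun z _ hz d hd hc =>
    F.fixedPointFree hz hd hc
  have hnorm : ∀ z ∈ M.N, orderOf z = 3 → ∀ d ∈ M.D,
      d * (z * d * z⁻¹) * (z * z * d * (z * z)⁻¹) = 1 := by
    intro z hz h3 d hd
    have h2 : z * z * z = 1 := by
      rw [show z * z * z = z ^ 3 from (pow_three' z).symm, ← h3, pow_orderOf_eq_one]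
    have e : d * (z * d * z⁻¹) * (z * z * d * (z * z)⁻¹) = (d * z) ^ 3 := by
      calc d * (z * d * z⁻¹) * (z * z * d * (z * z)⁻¹) = d * z * (d * z) * (d * z) * (z * z * z)⁻¹ := by group
        _ = (d * z) ^ 3 := by rw [h2, inv_one, mul_one, pow_three']
    rw [e]
    refine F.cube_eq_one (e ▸ mul_mem (mul_mem hd ((mem_normalizer_iff.1 hz d).1 hd))
      ((mem_normalizer_iff.1 (mul_mem hz hz) d).1 hd)) fun hdz => ?_
    have hzD : z ∈ M.D := by rw [show z = d⁻¹ * (d * z) by group]; exact mul_mem (inv_mem hd) hdz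
    obtain ⟨j, hj⟩ := exists_orderOf_eq_two_pow M.D_isPGroup hzD
    rw [h3] at hj
    rcases j with _ | j
    · norm_num at hj
    · rw [pow_succ] at hj; omega
  have hE2 : Nat.card E ≤ 2 := by
    have hy' : orderOf y⁻¹ = 3 := by rw [orderOf_inv, hy3]
    have hyy : y⁻¹ = y * y := by
      refine inv_eq_of_mul_eq_one_right ?_
      rw [show y * (y * y) = y ^ 3 from (pow_three _).symm, ← hy3, pow_orderOf_eq_one]
    have hcE : ∀ c ∈ E, ∀ e ∈ E, Commute e (y * c * y⁻¹) := by
      intro c hc e he
      refine commute_of_norm (hsqA c hc.1) (hsqA e he.1) (hcA c hc.1 e he.1) (fun d hd => ?_)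
      · have := hnorm y⁻¹ (inv_mem hyN) hy' d (by
          rcases hd with rfl | rfl | rfl
          · exact hc.2
          · exact he.2
          · exact mul_mem hc.2 he.2)
        rw [hyy, show y * y * (y * y) = y * (y * y * y) by group,
          show y * y * y = 1 by rw [show y * y * y = y ^ 3 from (pow_three' y).symm, ← hy3, pow_orderOf_eq_one],
          mul_one] at this
        exact this
    set E' := E.map (MulAut.conj y).toMonoidHom with hE'
    have hEE : ∀ u ∈ E ⊔ E', ∀ w ∈ E ⊔ E', u * w = w * u := by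
      intro u hu w hw
      rw [sup_eq_closure] at hu hw
      haveI := isMulCommutative_closure (k := (E : Set G) ∪ (E' : Set G)) (by
        rintro p (hp | ⟨p, hp, rfl⟩) q (hq | ⟨q, hq, rfl⟩)
        · exact hcA p hp.1 q hq.1
        · exact (hcE q hq p hp).eq
        · exact (hcE p hp q hq).eq.symm
        · simp only [MulEquiv.coe_toMonoidHom, MulAut.conj_apply]
          calc y * p * y⁻¹ * (y * q * y⁻¹) = y * (p * q) * y⁻¹ := by group
            _ = y * (q * p) * y⁻¹ := by rw [hcA p hp.1 q hq.1]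
            _ = y * q * y⁻¹ * (y * p * y⁻¹) := by group)
      exact congrArg Subtype.val (IsMulCommutative.is_comm.comm
        (⟨u, hu⟩ : closure ((E : Set G) ∪ (E' : Set G))) ⟨w, hw⟩)
    have hE'D : E' ≤ M.D := by
      rintro _ ⟨e, he, rfl⟩
      exact (mem_normalizer_iff.1 hyN e).1 he.2
    have hle : Nat.card ↥(E ⊔ E') ≤ Nat.card A := by
      refine hAmax _ ((sup_le inf_le_right hE'D).trans M.D_le_T)
        ⟨⟨⟨fun u w => Subtype.ext (hEE u u.2 w w.2)⟩⟩, fun u hu => ?_⟩
      rw [sup_eq_closure] at hu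
      induction hu using closure_induction with
      | mem u hu =>
        rcases hu with hu | ⟨e, he, rfl⟩
        · exact hAea.2 u hu.1
        · rw [← map_pow, hAea.2 e he.1, map_one]
      | one => exact one_pow _
      | mul p q hp hq hp2 hq2 =>
        rw [(show Commute p q from hEE p (by rwa [sup_eq_closure]) q
          (by rwa [sup_eq_closure])).mul_pow, hp2, hq2, one_mul]
      | inv p _ hp2 => rw [inv_pow, hp2, inv_one]
    have hinj : Nat.card (E × E) ≤ Nat.card ↥(E ⊔ E') := by
      let f : E × E → ↥(E ⊔ E') := fun p => ⟨p.1 * (y * p.2 * y⁻¹),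
        mul_mem (mem_sup_left p.1.2) (mem_sup_right ⟨p.2, p.2.2, rfl⟩)⟩
      refine Nat.card_le_card_of_injective f ?_
      rintro ⟨c, e⟩ ⟨c', e'⟩ h
      have h1 : (c : G) * (y * e * y⁻¹) = c' * (y * e' * y⁻¹) := congrArg Subtype.val h
      have hd : (c' : G)⁻¹ * c = y * (e' * (e : G)⁻¹) * y⁻¹ := by
        calc (c' : G)⁻¹ * c = (c' : G)⁻¹ * ((c : G) * (y * e * y⁻¹)) * (y * (e : G)⁻¹ * y⁻¹) := by group
          _ = (c' : G)⁻¹ * ((c' : G) * (y * e' * y⁻¹)) * (y * (e : G)⁻¹ * y⁻¹) := by rw [h1]
          _ = y * (e' * (e : G)⁻¹) * y⁻¹ := by group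
      have h0 : (c' : G)⁻¹ * c = 1 := by
        refine hfpf3 y hyN hy3 _ (mul_mem (inv_mem c'.2.2) c.2.2) ?_
        set d := (c' : G)⁻¹ * c
        have hda : Commute a d := hcA a haA d (mul_mem (inv_mem c'.2.1) c.2.1)
        set e0 := (e' : G) * (e : G)⁻¹
        have hea : Commute a e0 := hcA a haA e0 (mul_mem e'.2.1 (inv_mem e.2.1))
        have hb' : Commute (y * a * y⁻¹) d := by
          show y * a * y⁻¹ * d = d * (y * a * y⁻¹)
          rw [hd]
          calc y * a * y⁻¹ * (y * e0 * y⁻¹) = y * (a * e0) * y⁻¹ := by group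
            _ = y * (e0 * a) * y⁻¹ := by rw [hea.eq]
            _ = y * e0 * y⁻¹ * (y * a * y⁻¹) := by group
        have hya : a * (y * a⁻¹ * y⁻¹) = y := by
          calc a * (y * a⁻¹ * y⁻¹) = (a * y * a⁻¹) * y⁻¹ := by group
            _ = y⁻¹ * y⁻¹ * y ^ 3 := by rw [hay, ← hy3, pow_orderOf_eq_one, mul_one]
            _ = y := by group
        rw [← hya]
        refine hda.mul_left ?_
        rw [show y * a⁻¹ * y⁻¹ = (y * a * y⁻¹)⁻¹ by group]
        exact hb'.inv_left
      have e1 : c = c' := Subtype.ext (inv_mul_eq_one.1 h0).symm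
      subst e1
      have e2 : (e : G) = e' := mul_left_cancel (mul_right_cancel (mul_left_cancel h1))
      rw [Subtype.ext e2]
    rw [Nat.card_prod] at hinj
    have hle2 : Nat.card E * Nat.card E ≤ 2 * Nat.card E := hinj.trans (hle.trans hAE)
    exact Nat.le_of_mul_le_mul_right hle2 Nat.card_pos
  have hA4 : Nat.card A ≤ 4 := hAE.trans (by omega)
  have hVD := F.le_D
  have hV4' := F.card_V
  intro d hd hd2
  by_contra hdV
  have hc : ∀ u ∈ V ⊔ zpowers d, ∀ w ∈ V ⊔ zpowers d, u * w = w * u := by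
    intro u hu w hw
    rw [sup_eq_closure] at hu hw
    haveI := isMulCommutative_closure (k := (V : Set G) ∪ (zpowers d : Set G)) (by
      rintro p (hp | hp) q (hq | hq)
      · exact (F.central q hq).2 p (hVD hp)
      · exact ((F.central p hp).2 q (zpowers_le.2 hd hq)).symm
      · exact (F.central q hq).2 p (zpowers_le.2 hd hp)
      · exact setLike_mul_comm hp hq)
    exact congrArg Subtype.val (IsMulCommutative.is_comm.comm
      (⟨u, hu⟩ : closure ((V : Set G) ∪ (zpowers d : Set G))) ⟨w, hw⟩)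
  have hle : Nat.card ↥(V ⊔ zpowers d) ≤ Nat.card A := by
    refine hAmax _ ((sup_le hVD (zpowers_le.2 hd)).trans M.D_le_T)
      ⟨⟨⟨fun u w => Subtype.ext (hc u u.2 w w.2)⟩⟩, fun u hu => ?_⟩
    rw [sup_eq_closure] at hu
    induction hu using closure_induction with
    | mem u hu =>
      rcases hu with hu | ⟨i, rfl⟩
      · rw [pow_two]; exact (F.central u hu).1
      · show (d ^ i) ^ 2 = 1
        rw [← zpow_natCast, ← zpow_mul, mul_comm, zpow_mul, zpow_natCast, pow_two, hd2, one_zpow]
    | one => exact one_pow _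
    | mul p q hp hq hp2 hq2 =>
      rw [(show Commute p q from hc p (by rwa [sup_eq_closure]) q
        (by rwa [sup_eq_closure])).mul_pow, hp2, hq2, one_mul]
    | inv p _ hp2 => rw [inv_pow, hp2, inv_one]
  have hlt : V < V ⊔ zpowers d :=
    left_lt_sup.2 fun h => hdV (h (mem_zpowers d))
  have h1 : Nat.card V < Nat.card ↥(V ⊔ zpowers d) :=
    lt_of_le_of_ne (card_le_of_le hlt.le) fun e => hlt.ne (eq_of_le_of_card_ge hlt.le e.ge)
  omega

/-- The configuration gives a self-centralising four group in a Sylow subgroup of order at least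
eight. -/
theorem exists_four [IsSimpleGroup G] (hna : ∃ a b : G, a * b ≠ b * a) :
    ∃ (S : Sylow 2 G) (V : Subgroup G), V ≤ S ∧ Nat.card V = 4 ∧ (∀ v ∈ V, v * v = 1) ∧
      centralizer (V : Set G) = V ∧ 8 ≤ Nat.card (S : Subgroup G) := by
  classical
  haveI : Fact (Nat.Prime 2) := ⟨Nat.prime_two⟩
  have hna : ¬ IsMulCommutative G := fun hc => by
    obtain ⟨a, b, hab⟩ := hna
    exact hab (hc.is_comm.comm a b)
  have hVD := F.le_D
  have hVprop := F.central
  have hVN := F.normal_V
  have hV4 := F.card_V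
  have htwo : ∀ t ∈ M.T, t ∉ M.D → ∀ t' ∈ M.T, t' ∉ M.D → t * t' ∈ M.D :=
    fun t ht htD t' ht' ht'D => F.mul_mem_D ht htD ht' ht'D
  have hout : ∀ b ∈ M.T, b ∉ M.D → orderOf b = 2 → OuterInvolution M.D M.N V b :=
    fun b hb hbD hbo => F.outer_and_omega hb hbD hbo
  obtain ⟨a, haT, haD, hao⟩ : ∃ a ∈ M.T, a ∉ M.D ∧ orderOf a = 2 := by
    obtain ⟨A, ⟨hAT, hAea, -⟩, hAD⟩ := F.exists_maxEA
    obtain ⟨a, haA, haD⟩ := SetLike.not_le_iff_exists.1 hAD
    exact ⟨a, hAT haA, haD, orderOf_two_of_sq_one (by rw [← pow_two]; exact hAea.2 a haA)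
      fun e => haD (e ▸ one_mem _)⟩
  have hVle : V ≤ M.T := hVD.trans M.D_le_T
  have hVcomm : ∀ v ∈ V, ∀ w ∈ V, v * w = w * v := fun v hv w hw => (hVprop w hw).2 v (hVD hv)
  have hTN : M.T ≤ M.N := inf_le_right
  have hTVn : ∀ t ∈ M.T, t ∈ normalizer (V : Set G) := fun t ht => hVN (hTN ht)
  -- fixed points of an outer involution on `V`, and the unique involution of its fixed points
  have hfix : ∀ b ∈ M.T, b ∉ M.D → orderOf b = 2 → ∃ v ∈ V, v ≠ 1 ∧ Commute b v ∧
      (∀ d ∈ M.D, Commute b d → d * d = 1 → d = 1 ∨ d = v) := by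
    intro b hb hbD hbo
    obtain ⟨y, hyN, hy3, hby, hyf⟩ := (hout b hb hbD hbo).exists_y
    have hyV : ∀ v ∈ V, y⁻¹ * v * y ∈ V := fun v hv =>
      (mem_normalizer_iff''.1 (hVN hyN) v).1 hv
    obtain ⟨v, hv, hv1, hbv⟩ : ∃ v ∈ V, v ≠ 1 ∧ Commute b v := by
      obtain ⟨⟨w, hw⟩, hw1⟩ := (Finite.one_lt_card_iff_nontrivial.1 (by omega : 1 < Nat.card V)).exists_pair_ne
        |> fun ⟨p, q, hpq⟩ => (show ∃ u : V, u ≠ 1 from if hp : p = 1 then ⟨q, fun hq => hpq (hp.trans hq.symm)⟩ else ⟨p, hp⟩)
      have hw1' : w ≠ 1 := fun e => hw1 (Subtype.ext e)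
      by_cases hc : Commute b w
      · exact ⟨w, hw, hw1', hc⟩
      set w' := b * w * b⁻¹ with hw'
      have hw'V : w' ∈ V := (mem_normalizer_iff.1 (hTVn b hb) w).1 hw
      refine ⟨w' * w, mul_mem hw'V hw, fun e => hc ?_, ?_⟩
      · have : w' = w := by
          rw [eq_inv_of_mul_eq_one_left e, inv_eq_of_mul_eq_one_right (hVprop w hw).1]
        exact mul_inv_eq_iff_eq_mul.1 this
      · have hbb : b * w' * b⁻¹ = w := by
          rw [hw', show b * (b * w * b⁻¹) * b⁻¹ = b * b * w * (b * b)⁻¹ by group,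
            sq_one_of_orderOf_two hbo, one_mul, inv_one, mul_one]
        refine mul_inv_eq_iff_eq_mul.1 ?_
        rw [show b * (w' * w) * b⁻¹ = b * w' * b⁻¹ * (b * w * b⁻¹) by group, hbb, ← hw',
          hVcomm w hw w' hw'V]
    refine ⟨v, hv, hv1, hbv, fun d hd hbd hd2 => ?_⟩
    by_contra hne
    push Not at hne
    have hdV : d ∈ V := (hout b hb hbD hbo).omega d hd hd2
    -- then `b` centralises `V`
    have hall : ∀ w ∈ V, Commute b w := by
      intro w hw
      by_contra hbw
      let f : Fin 5 → V := ![1, ⟨v, hv⟩, ⟨d, hdV⟩, ⟨v * d, mul_mem hv hdV⟩, ⟨w, hw⟩]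
      have hvd : v * d ≠ 1 := fun e => hne.2 (by
        rw [eq_inv_of_mul_eq_one_right e, inv_eq_of_mul_eq_one_right (hVprop v hv).1])
      have hb1 : Commute b (1 : G) := Commute.one_right b
      have hinj : Function.Injective f := by
        have e1 : (1 : G) ≠ v := Ne.symm hv1
        have e2 : (1 : G) ≠ d := Ne.symm hne.1
        have e3 : (1 : G) ≠ v * d := Ne.symm hvd
        have e4 : v ≠ d := Ne.symm hne.2
        have e5 : v ≠ v * d := fun e => hne.1 (mul_eq_left.1 e.symm)
        have e6 : d ≠ v * d := fun e => hv1 (mul_eq_right.1 e.symm)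
        have e7 : (1 : G) ≠ w := fun e => hbw (e ▸ hb1)
        have e8 : v ≠ w := fun e => hbw (e ▸ hbv)
        have e9 : d ≠ w := fun e => hbw (e ▸ hbd)
        have e10 : v * d ≠ w := fun e => hbw (e ▸ hbv.mul_right hbd)
        intro i j hij
        have := congrArg (fun u : V => (u : G)) hij
        fin_cases i <;> fin_cases j <;> first
          | rfl
          | exact absurd this e1 | exact absurd this.symm e1
          | exact absurd this e2 | exact absurd this.symm e2
          | exact absurd this e3 | exact absurd this.symm e3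
          | exact absurd this e4 | exact absurd this.symm e4
          | exact absurd this e5 | exact absurd this.symm e5
          | exact absurd this e6 | exact absurd this.symm e6
          | exact absurd this e7 | exact absurd this.symm e7
          | exact absurd this e8 | exact absurd this.symm e8
          | exact absurd this e9 | exact absurd this.symm e9
          | exact absurd this e10 | exact absurd this.symm e10
      have := Nat.card_le_card_of_injective f hinj
      rw [Nat.card_fin] at this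
      omega
    exact hv1 ((hout b hb hbD hbo).eq_one_of_commute_conj hy3 hby hyf (hVD hv) (hall v hv)
      (hall _ (hyV v hv)) (e := y⁻¹ * v * y) (by group))
  -- `D = V`
  have hDV : M.D = V := by
    by_cases hTR : M.T = (M.R₁ : Subgroup G)
    · obtain ⟨v, hv, hv1, hav, hvu⟩ := hfix a haT haD hao
      obtain ⟨y, hyN, hy3, hay, hyf⟩ := (hout a haT haD hao).exists_y
      have haN : a ∈ M.N := hTN haT
      have hcases : ∀ t ∈ M.T, t ∈ M.D ∨ a * t ∈ M.D := fun t ht => by
        by_cases htD : t ∈ M.D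
        · exact Or.inl htD
        · exact Or.inr (htwo a haT haD t ht htD)
      have hidx : M.D.relIndex (M.R₁ : Subgroup G) = 2 := by
        rw [← hTR]
        have h1 := card_le_two_mul (A := M.T) (E := M.D) a hcases
        have h2 := Subgroup.card_mul_index (M.D.subgroupOf M.T)
        rw [Nat.card_congr (subgroupOfEquivOfLe M.D_le_T).toEquiv] at h2
        change Nat.card M.D * M.D.relIndex M.T = Nat.card M.T at h2
        have h3 : M.D.relIndex M.T ≠ 1 := fun e => haD (relIndex_eq_one.1 e haT)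
        have h4 : M.D.relIndex M.T ≠ 0 := fun e => by
          rw [e, mul_zero] at h2; exact Nat.card_pos.ne h2
        have h5 : M.D.relIndex M.T ≤ 2 := by
          rw [← h2, mul_comm 2] at h1
          exact Nat.le_of_mul_le_mul_left h1 Nat.card_pos
        omega
      obtain ⟨g, hgD⟩ := CfsgLib.Small.thompson_transfer_sylow
        (CfsgLib.EPPOSeven.no_index_two hna) M.R₁ M.D (M.D_le_T.trans hTR.le) hidx hao
      -- `a` is conjugate to `v`
      set w := g⁻¹ * a * g with hw
      have hwo : orderOf w = 2 := by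
        rw [show w = MulAut.conj g⁻¹ a by simp [hw], MulEquiv.orderOf_eq, hao]
      have hwV : w ∈ V := (hout a haT haD hao).omega w hgD (sq_one_of_orderOf_two hwo)
      have hyV : ∀ u ∈ V, y * u * y⁻¹ ∈ V := fun u hu => (mem_normalizer_iff.1 (hVN hyN) u).1 hu
      obtain ⟨k, hk⟩ : ∃ k : G, k⁻¹ * w * k = v := by
        by_contra hno
        push Not at hno
        have hw1 : w ≠ 1 := fun e => by rw [e, orderOf_one] at hwo; omega
        let w1 := y * w * y⁻¹
        let w2 := y * w1 * y⁻¹
        have h3' : y * y * y = 1 := by rw [← pow_three', ← hy3, pow_orderOf_eq_one]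
        have d1 : w1 ≠ w := fun e => hw1 (hyf w (hVD hwV) (mul_inv_eq_iff_eq_mul.1 e))
        have d2 : w2 ≠ w1 := fun e => d1 (mul_left_cancel (mul_right_cancel e))
        have d3 : w2 ≠ w := fun e => d1 (by
          have e' : y * w1 * y⁻¹ = w := e
          calc w1 = y * w * y⁻¹ := rfl
            _ = y * (y * w1 * y⁻¹) * y⁻¹ := by rw [e']
            _ = y * y * y * w * (y * y * y)⁻¹ := by simp only [w1]; group
            _ = w := by rw [h3', one_mul, inv_one, mul_one])
        have n1 : w1 ≠ 1 := fun e => hw1 (conj_eq_one_iff.1 e)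
        have n2 : w2 ≠ 1 := fun e => n1 (conj_eq_one_iff.1 e)
        have v0 : v ≠ w := fun e => hno 1 (by simp [e])
        have v1 : v ≠ w1 := fun e => hno y⁻¹ (by rw [e, inv_inv])
        have v2 : v ≠ w2 := fun e => hno (y⁻¹ * y⁻¹) (by rw [e]; simp [w2, w1, mul_assoc])
        let f : Fin 5 → V := ![1, ⟨v, hv⟩, ⟨w, hwV⟩, ⟨w1, hyV w hwV⟩, ⟨w2, hyV _ (hyV w hwV)⟩]
        have hinj : Function.Injective f := by
          intro i j hij
          have := congrArg (fun u : V => (u : G)) hij
          fin_cases i <;> fin_cases j <;> first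
            | rfl
            | exact absurd this hv1 | exact absurd this.symm hv1
            | exact absurd this hw1 | exact absurd this.symm hw1
            | exact absurd this n1 | exact absurd this.symm n1
            | exact absurd this n2 | exact absurd this.symm n2
            | exact absurd this v0 | exact absurd this.symm v0
            | exact absurd this v1 | exact absurd this.symm v1
            | exact absurd this v2 | exact absurd this.symm v2
            | exact absurd this d1 | exact absurd this.symm d1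
            | exact absurd this d2 | exact absurd this.symm d2
            | exact absurd this d3 | exact absurd this.symm d3
        have := Nat.card_le_card_of_injective f hinj
        rw [Nat.card_fin] at this
        omega
      have hconj : (g * k)⁻¹ * a * (g * k) = v := by rw [← hk, hw]; group
      -- the centraliser of `v` is the Sylow subgroup
      have hvo : orderOf v = 2 := orderOf_two_of_sq_one (hVprop v hv).1 hv1
      have hRv : (M.R₁ : Subgroup G) ≤ centralizer ({v} : Set G) := by
        rw [← hTR]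
        intro t ht
        refine mem_centralizer_singleton_iff.2 ?_
        rcases hcases t ht with htD | htD
        · exact (hVprop v hv).2 t htD
        · have h1 : Commute (a * t) v := (hVprop v hv).2 _ htD
          have : t = a⁻¹ * (a * t) := by group
          rw [this]
          exact (hav.inv_left.mul_left h1).eq
      have hCv : centralizer ({v} : Set G) = (M.R₁ : Subgroup G) :=
        M.R₁.3 (F.cit v hvo) hRv
      have hcardCa : Nat.card (centralizer ({a} : Set G)) = Nat.card (M.R₁ : Subgroup G) := by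
        rw [← hCv]
        refine Nat.card_congr ((MulAut.conj (g * k)⁻¹).toEquiv.subtypeEquiv fun z => ?_)
        simp only [MulEquiv.toEquiv_eq_coe, MulEquiv.coe_toEquiv, MulAut.conj_apply, inv_inv,
          mem_centralizer_singleton_iff]
        rw [← hconj]
        constructor
        · intro h
          calc (g * k)⁻¹ * z * (g * k) * ((g * k)⁻¹ * a * (g * k)) = (g * k)⁻¹ * (z * a) * (g * k) := by group
            _ = (g * k)⁻¹ * (a * z) * (g * k) := by rw [h]
            _ = _ := by group
        · intro h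
          calc z * a = (g * k) * ((g * k)⁻¹ * z * (g * k) * ((g * k)⁻¹ * a * (g * k))) * (g * k)⁻¹ := by group
            _ = (g * k) * ((g * k)⁻¹ * a * (g * k) * ((g * k)⁻¹ * z * (g * k))) * (g * k)⁻¹ := by rw [h]
            _ = a * z := by group
      -- so the fixed points of `a` in `D` lie in `V`
      have hCV : ∀ c ∈ M.D, Commute a c → c ∈ V := by
        intro c hc hac
        by_contra hcV
        obtain ⟨j, hj⟩ := exists_orderOf_eq_two_pow M.D_isPGroup hc
        have hj2 : 2 ≤ j := by
          by_contra hj2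
          refine hcV ((hout a haT haD hao).omega c hc ?_)
          rw [← pow_two, ← orderOf_dvd_iff_pow_eq_one, hj]
          exact pow_dvd_pow 2 (by omega : j ≤ 1)
        set c' := c ^ 2 ^ (j - 2) with hc'
        have hc'D : c' ∈ M.D := pow_mem hc _
        have hac' : Commute a c' := hac.pow_right _
        have hc'o : orderOf c' = 4 := by
          rw [hc', orderOf_pow, hj, Nat.gcd_eq_right (pow_dvd_pow 2 (Nat.sub_le _ _)),
            Nat.pow_div (Nat.sub_le _ _) two_pos, show j - (j - 2) = 2 by omega]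
          norm_num
        have hsq : c' * c' = v := by
          refine (hvu _ (mul_mem hc'D hc'D) (hac'.mul_right hac') ?_).resolve_left fun e => ?_
          · rw [show c' * c' * (c' * c') = c' ^ 4 by simp [pow_succ, mul_assoc], ← hc'o, pow_orderOf_eq_one]
          · have : orderOf c' ∣ 2 := orderOf_dvd_of_pow_eq_one (by rw [pow_two, e])
            rw [hc'o] at this
            norm_num at this
        set U := (M.R₁ : Subgroup G) ⊓ centralizer ({a} : Set G) with hU
        have hUne : U ≠ centralizer ({a} : Set G) := by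
          intro e
          have hle : centralizer ({a} : Set G) ≤ M.R₁ := e ▸ inf_le_left
          have heq : centralizer ({a} : Set G) = (M.R₁ : Subgroup G) :=
            eq_of_le_of_card_ge hle hcardCa.ge
          refine hv1 ((hout a haT haD hao).eq_one_of_commute_conj hy3 hay hyf (hVD hv) hav
            (e := y⁻¹ * v * y) ?_ (by group))
          have : y⁻¹ * v * y ∈ centralizer ({a} : Set G) := by
            rw [heq, ← hTR]
            exact hVle ((mem_normalizer_iff''.1 (hVN hyN) v).1 hv)
          exact Commute.symm (mem_centralizer_singleton_iff.1 this)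
        obtain ⟨n, hnC, hnU, hnN⟩ := exists_normalizing_notMem
          (F.cit a hao) inf_le_right hUne
        suffices hnv : n * v = v * n by
          refine hnU (Subgroup.mem_inf.2 ⟨?_, hnC⟩)
          have := mem_centralizer_singleton_iff.2 hnv
          rwa [hCv] at this
        have hu : n * c' * n⁻¹ ∈ U := (mem_normalizer_iff.1 hnN c').1
          ⟨(M.D_le_T.trans hTR.le) hc'D, mem_centralizer_singleton_iff.2 hac'.symm.eq⟩
        set u := n * c' * n⁻¹ with huo
        have hua : Commute a u := Commute.symm (mem_centralizer_singleton_iff.1 hu.2)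
        have hu2 : u * u = n * v * n⁻¹ := by rw [huo, ← hsq]; group
        have huD : u * u ∈ M.D := by
          rcases hcases u (hTR ▸ hu.1) with h | h
          · exact mul_mem h h
          · have : u * u = (a * u) * (a * u) := by
              rw [show a * u * (a * u) = a * (u * a) * u by group, ← hua.eq,
                show a * (a * u) * u = a * a * (u * u) by group, sq_one_of_orderOf_two hao, one_mul]
            rw [this]
            exact mul_mem h h
        have hvv : n * v * n⁻¹ * (n * v * n⁻¹) = 1 := by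
          rw [show n * v * n⁻¹ * (n * v * n⁻¹) = n * (v * v) * n⁻¹ by group, (hVprop v hv).1,
            mul_one, mul_inv_cancel]
        rcases hvu _ huD (hua.mul_right hua) (by rw [hu2]; exact hvv) with h | h
        · rw [hu2, conj_eq_one_iff] at h
          exact absurd h hv1
        · rw [hu2, mul_inv_eq_iff_eq_mul] at h
          exact h
      -- hence `D = V`
      refine le_antisymm ?_ hVD
      by_contra hne
      have haVn : zpowers a ≤ normalizer (V : Set G) := zpowers_le.2 (hVN haN)
      have hPT : V ⊔ zpowers a ≤ M.T := sup_le hVle (zpowers_le.2 haT)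
      have hmemP : ∀ z ∈ V ⊔ zpowers a, ∃ u ∈ V, z = u ∨ z = u * a := by
        intro z hz
        rw [← SetLike.mem_coe, coe_mul_of_right_le_normalizer_left V (zpowers a) haVn] at hz
        obtain ⟨u, hu, r, ⟨i, rfl⟩, rfl⟩ := hz
        refine ⟨u, hu, ?_⟩
        show u * a ^ i = u ∨ u * a ^ i = u * a
        rw [← zpow_mod_orderOf, hao]
        rcases Int.emod_two_eq_zero_or_one i with h | h <;> simp [h]
      have hPne : V ⊔ zpowers a ≠ M.T := by
        intro e
        refine hne fun d hd => ?_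
        obtain ⟨u, hu, h | h⟩ := hmemP d (e ▸ M.D_le_T hd)
        · exact h ▸ hu
        · exfalso
          refine haD ?_
          rw [show a = u⁻¹ * d by rw [h]; group]
          exact mul_mem (inv_mem (hVD hu)) hd
      obtain ⟨t, htT, htP, htN⟩ := exists_normalizing_notMem M.T_isPGroup hPT hPne
      obtain ⟨d, hdD, hdP, hdN⟩ : ∃ d ∈ M.D, d ∉ V ⊔ zpowers a ∧
          d ∈ normalizer ((V ⊔ zpowers a : Subgroup G) : Set G) := by
        rcases hcases t htT with h | h
        · exact ⟨t, h, htP, htN⟩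
        · refine ⟨a * t, h, fun e => htP ?_, mul_mem (le_normalizer (mem_sup_right (mem_zpowers a))) htN⟩
          exact (mul_mem_cancel_left (mem_sup_right (mem_zpowers a))).1 e
      set z := d * a * d⁻¹ * a⁻¹ with hz
      have hzD : z ∈ M.D := by
        rw [hz, show d * a * d⁻¹ * a⁻¹ = d * (a * d⁻¹ * a⁻¹) by group]
        exact mul_mem hdD ((mem_normalizer_iff.1 haN _).1 (inv_mem hdD))
      have hzP : z ∈ V ⊔ zpowers a :=
        mul_mem ((mem_normalizer_iff.1 hdN a).1 (mem_sup_right (mem_zpowers a)))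
          (inv_mem (mem_sup_right (mem_zpowers a)))
      obtain ⟨u, hu, h | h⟩ := hmemP z hzP
      swap
      · refine haD ?_
        rw [show a = u⁻¹ * z by rw [h]; group]
        exact mul_mem (inv_mem (hVD hu)) hzD
      have hzV : z ∈ V := h ▸ hu
      -- `z` is fixed by `a`
      have hainv : a⁻¹ = a := inv_eq_of_mul_eq_one_right (sq_one_of_orderOf_two hao)
      have hzinv : z⁻¹ = z := inv_eq_of_mul_eq_one_right (hVprop z hzV).1
      have haz : Commute a z := by
        refine mul_inv_eq_iff_eq_mul.1 ?_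
        calc a * z * a⁻¹ = a * d * a * d⁻¹ * (a⁻¹ * a⁻¹) := by rw [hz]; group
          _ = a * d * a * d⁻¹ := by rw [← mul_inv_rev, sq_one_of_orderOf_two hao, inv_one, mul_one]
          _ = z⁻¹ := by rw [hz]; simp only [mul_inv_rev, inv_inv, hainv]; group
          _ = z := hzinv
      have hdc : ∀ e ∈ M.D, e * a * e⁻¹ * a⁻¹ = 1 → e ∈ V := fun e he h1 => by
        rw [mul_inv_eq_one, mul_inv_eq_iff_eq_mul] at h1
        exact hCV e he h1.symm
      rcases hvu z hzD haz (hVprop z hzV).1 with h1 | h1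
      · exact hdP (mem_sup_left (hdc d hdD h1))
      · -- multiply by an element of `V` moved by `a`
        obtain ⟨w, hwV, hwa⟩ : ∃ w ∈ V, ¬ Commute a w := by
          by_contra hcon
          push Not at hcon
          exact hv1 ((hout a haT haD hao).eq_one_of_commute_conj hy3 hay hyf (hVD hv) hav
            (hcon _ ((mem_normalizer_iff''.1 (hVN hyN) v).1 hv)) (e := y⁻¹ * v * y) (by group))
        set r := w * a * w⁻¹ * a⁻¹ with hr
        have hrV : r ∈ V := by
          rw [hr, show w * a * w⁻¹ * a⁻¹ = w * (a * w⁻¹ * a⁻¹) by group]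
          exact mul_mem hwV ((mem_normalizer_iff.1 (hVN haN) _).1 (inv_mem hwV))
        have hrinv : r⁻¹ = r := inv_eq_of_mul_eq_one_right (hVprop r hrV).1
        have har : Commute a r := by
          refine mul_inv_eq_iff_eq_mul.1 ?_
          calc a * r * a⁻¹ = a * w * a * w⁻¹ * (a⁻¹ * a⁻¹) := by rw [hr]; group
            _ = a * w * a * w⁻¹ := by rw [← mul_inv_rev, sq_one_of_orderOf_two hao, inv_one, mul_one]
            _ = r⁻¹ := by rw [hr]; simp only [mul_inv_rev, inv_inv, hainv]; group
            _ = r := hrinv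
        have hrv : r = v := by
          refine (hvu r (hVD hrV) har (hVprop r hrV).1).resolve_left fun e => hwa ?_
          rw [hr, mul_inv_eq_one, mul_inv_eq_iff_eq_mul] at e
          exact e.symm
        refine hdP (mem_sup_left ?_)
        have hmem : w * d ∈ V := by
          refine hdc _ (mul_mem (hVD hwV) hdD) ?_
          calc w * d * a * (w * d)⁻¹ * a⁻¹ = w * (z * a) * w⁻¹ * a⁻¹ := by rw [hz]; group
            _ = (w * z * w⁻¹) * r := by rw [hr]; group
            _ = z * r := by rw [hVcomm w hwV z hzV, mul_inv_cancel_right]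
            _ = 1 := by rw [h1, hrv, (hVprop v hv).1]
        exact (mul_mem_cancel_left hwV).1 hmem
    · obtain ⟨g, hgR, hgT, hgN⟩ := exists_normalizing_notMem M.R₁.2 inf_le_left hTR
      have hgV : g ∉ normalizer (V : Set G) := by
        intro h
        refine hgT ⟨hgR, ?_⟩
        rwa [F.normalizer_eq V (fun e => by rw [e, card_bot] at hV4; omega) hVD hVN] at h
      obtain ⟨v0, hv0, hv0g⟩ : ∃ v0 ∈ V, g * v0 * g⁻¹ ∉ V := by
        by_contra hcon
        push Not at hcon
        refine hgV (mem_normalizer_iff_map_conj_eq.2 (eq_of_le_of_card_ge ?_ ?_))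
        · rintro _ ⟨u, hu, rfl⟩; exact hcon u hu
        · rw [card_map_of_injective (MulAut.conj g).injective]
      set a1 := g * v0 * g⁻¹ with ha1
      have ha1T : a1 ∈ M.T := (mem_normalizer_iff.1 hgN v0).1 (hVle hv0)
      have ha1sq : a1 * a1 = 1 := by
        rw [ha1, show g * v0 * g⁻¹ * (g * v0 * g⁻¹) = g * (v0 * v0) * g⁻¹ by group,
          (hVprop v0 hv0).1, mul_one, mul_inv_cancel]
      have ha1D : a1 ∉ M.D := fun h => hv0g ((hout a haT haD hao).omega a1 h ha1sq)
      have ha1o : orderOf a1 = 2 := orderOf_two_of_sq_one ha1sq fun e => ha1D (e ▸ one_mem _)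
      have O := hout a1 ha1T ha1D ha1o
      obtain ⟨v, hv, hv1, hav, hvu⟩ := hfix a1 ha1T ha1D ha1o
      -- commutators of `D` with `a1`
      have hcomm : ∀ d ∈ M.D, d * a1 * d⁻¹ * a1⁻¹ = 1 ∨ d * a1 * d⁻¹ * a1⁻¹ = v := by
        intro d hd
        set z := d * a1 * d⁻¹ * a1⁻¹ with hz
        have hzD : z ∈ M.D := by
          rw [hz, show d * a1 * d⁻¹ * a1⁻¹ = d * (a1 * d⁻¹ * a1⁻¹) by group]
          exact mul_mem hd ((mem_normalizer_iff.1 (hTN ha1T) _).1 (inv_mem hd))
        have hdT : g⁻¹ * d * g ∈ M.T := (mem_normalizer_iff''.1 hgN d).1 (M.D_le_T hd)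
        set u := (g⁻¹ * d * g) * v0 * (g⁻¹ * d * g)⁻¹ with hu
        have huV : u ∈ V := (mem_normalizer_iff.1 (hTVn _ hdT) v0).1 hv0
        have hu' : d * a1 * d⁻¹ = g * u * g⁻¹ := by rw [hu, ha1]; group
        have hzu : z = g * (u * v0⁻¹) * g⁻¹ := by rw [hz, hu', ha1]; group
        have hz2 : z * z = 1 := by
          rw [hzu, show ∀ k : G, g * k * g⁻¹ * (g * k * g⁻¹) = g * (k * k) * g⁻¹ from fun k => by group,
            (hVprop _ (mul_mem huV (inv_mem hv0))).1, mul_one, mul_inv_cancel]
        have hza : Commute a1 z := by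
          rw [hzu, ha1]
          show g * v0 * g⁻¹ * (g * (u * v0⁻¹) * g⁻¹) = g * (u * v0⁻¹) * g⁻¹ * (g * v0 * g⁻¹)
          calc g * v0 * g⁻¹ * (g * (u * v0⁻¹) * g⁻¹) = g * (v0 * (u * v0⁻¹)) * g⁻¹ := by group
            _ = g * ((u * v0⁻¹) * v0) * g⁻¹ := by rw [hVcomm v0 hv0 _ (mul_mem huV (inv_mem hv0))]
            _ = _ := by group
        exact hvu z hzD hza hz2
      set C := M.D ⊓ centralizer ({a1} : Set G) with hC
      have hle : Nat.card M.D ≤ 2 * Nat.card C := by
        by_cases hall : ∀ d ∈ M.D, d * a1 * d⁻¹ * a1⁻¹ = 1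
        · refine card_le_two_mul 1 fun d hd => Or.inl ⟨hd, mem_centralizer_singleton_iff.2 ?_⟩
          exact mul_inv_eq_iff_eq_mul.1 (mul_inv_eq_one.1 (hall d hd))
        push Not at hall
        obtain ⟨d0, hd0, hd0a⟩ := hall
        refine card_le_two_mul d0⁻¹ fun d hd => ?_
        rcases hcomm d hd with h | h
        · exact Or.inl ⟨hd, mem_centralizer_singleton_iff.2
            (mul_inv_eq_iff_eq_mul.1 (mul_inv_eq_one.1 h))⟩
        · refine Or.inr (Subgroup.mem_inf.2 ⟨mul_mem (inv_mem hd0) hd, mem_centralizer_singleton_iff.2 ?_⟩)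
          have h0 : d0 * a1 * d0⁻¹ = d * a1 * d⁻¹ :=
            mul_right_cancel (((hcomm d0 hd0).resolve_left hd0a).trans h.symm)
          calc d0⁻¹ * d * a1 = d0⁻¹ * (d * a1 * d⁻¹) * d := by group
            _ = d0⁻¹ * (d0 * a1 * d0⁻¹) * d := by rw [h0]
            _ = a1 * (d0⁻¹ * d) := by group
      have hsq := O.sq_card_le
      rw [← hC] at hsq
      have hC2 : Nat.card C ≤ 2 := Nat.le_of_mul_le_mul_right (hsq.trans hle) Nat.card_pos
      exact (eq_of_le_of_card_ge hVD (by omega)).symm
  obtain ⟨y, hyN, hy3, hay, hyf⟩ := (hout a haT haD hao).exists_y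
  refine ⟨M.R₁, V, hVle.trans inf_le_left, hV4, fun v hv => (hVprop v hv).1, ?_, ?_⟩
  · refine le_antisymm ?_ fun v hv => mem_centralizer_iff.2 fun w hw => hVcomm w hw v hv
    obtain ⟨v, hv, hv1, -⟩ := hfix a haT haD hao
    have h2 : IsPGroup 2 (centralizer (V : Set G)) :=
      (F.cit v (orderOf_two_of_sq_one (hVprop v hv).1 hv1)).to_le
        (centralizer_le (Set.singleton_subset_iff.2 hv))
    have hle : centralizer (V : Set G) ≤ M.N := by
      intro c hc
      show c ∈ normalizer (M.D : Set G)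
      refine mem_normalizer_iff.2 fun u => ?_
      rw [hDV]
      constructor
      · intro hu
        rw [← mem_centralizer_iff.1 hc u hu, mul_inv_cancel_right]; exact hu
      · intro hu
        have := mem_centralizer_iff.1 hc _ hu
        rw [show u = c⁻¹ * (c * u * c⁻¹ * c) by group, this, inv_mul_cancel_left]
        exact hu
    refine (F.le_D_of_normal hle ?_ h2).trans hDV.le
    intro g hg
    refine mem_normalizer_iff.2 fun c => ?_
    simp only [mem_centralizer_iff]
    constructor
    · intro hc u hu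
      have := hc _ ((mem_normalizer_iff''.1 (hVN hg) u).1 hu)
      calc u * (g * c * g⁻¹) = g * ((g⁻¹ * u * g) * c) * g⁻¹ := by group
        _ = g * (c * (g⁻¹ * u * g)) * g⁻¹ := by rw [this]
        _ = g * c * g⁻¹ * u := by group
    · intro hc u hu
      have := hc _ ((mem_normalizer_iff.1 (hVN hg) u).1 hu)
      calc u * c = g⁻¹ * ((g * u * g⁻¹) * (g * c * g⁻¹)) * g := by group
        _ = g⁻¹ * ((g * c * g⁻¹) * (g * u * g⁻¹)) * g := by rw [this]
        _ = c * u := by group
  · have hlt : V < M.T := lt_of_le_not_ge hVle fun h => haD (hVD (h haT))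
    have h1 : Nat.card V < Nat.card M.T :=
      lt_of_le_of_ne (card_le_of_le hlt.le) fun e => hlt.ne (eq_of_le_of_card_ge hlt.le e.ge)
    have h2 : Nat.card M.T ≤ Nat.card (M.R₁ : Subgroup G) := card_le_of_le inf_le_left
    obtain ⟨k, hk⟩ := IsPGroup.iff_card.1 M.R₁.2
    have hk3 : 3 ≤ k := by
      by_contra hk3
      have : 2 ^ k ≤ 2 ^ 2 := Nat.pow_le_pow_right two_pos (by omega)
      omega
    calc 8 = 2 ^ 3 := rfl
      _ ≤ 2 ^ k := Nat.pow_le_pow_right two_pos hk3
      _ = _ := hk.symm

end TwoFrame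

end CfsgLib.CITGroups
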