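import Cfsg.Agent.CITGroups.StronglyEmbedded
import Cfsg.Agent.CITGroups.Numerics
import Cfsg.Agent.CITGroups.TwoCase
import Cfsg.Agent.CITGroups.TwoFrame
import Cfsg.Agent.CITGroups.DihedralPSL
import Cfsg.Agent.CITGroups.Count
import Cfsg.Agent.CITGroups.Plane
import Cfsg.Agent.CITGroups.Natural
import Cfsg.Agent.EPPOSeven.Main
import Cfsg.Agent.S0205

/-!
# The simple groups with two-group involution centralisers: the case division

Either no two Sylow two-subgroups with a common involution have different Thompson subgroups, and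
the group has a strongly embedded subgroup, or a largest such pair gives one of the two frames.
-/

set_option autoImplicit false
set_option linter.style.haveILetI false
set_option linter.unusedSectionVars false

namespace CfsgLib.CITGroups

open Subgroup
open CfsgLib.EPPOSeven (MaxPair JT JT_le JT_conj JT_ne_bot exists_maximal_two_subgroup
  exists_conj_maximal)

variable {G : Type*} [Group G] [Finite G]

/-- The condition passes to isomorphic groups. -/
theorem IsCIT.of_equiv {H : Type*} [Group H] (h : IsCIT G) (e : G ≃* H) : IsCIT H := by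
  intro t ht
  have hs : orderOf (e.symm t) = 2 := by rw [MulEquiv.orderOf_eq, ht]
  refine ((h _ hs).map e.toMonoidHom).to_le fun x hx => ⟨e.symm x, ?_, e.apply_symm_apply x⟩
  exact mem_centralizer_singleton_iff.2
    (by rw [← map_mul, ← map_mul, mem_centralizer_singleton_iff.1 hx])

/-- A simple group `PSL₂` has at least four field elements. -/
theorem four_le_card [IsSimpleGroup G] (hna : ¬ IsMulCommutative G) {F : Type*} [Field F]
    [Fintype F] (e : G ≃* Matrix.ProjectiveSpecialLinearGroup (Fin 2) F) :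
    4 ≤ Fintype.card F := by
  classical
  set q := Fintype.card F with hq
  have hq1 : 1 < q := Fintype.one_lt_card
  have hG : Nat.card G = Nat.card (Matrix.ProjectiveSpecialLinearGroup (Fin 2) F) :=
    Nat.card_congr e.toEquiv
  by_contra h4
  rcases (show q = 2 ∨ q = 3 by omega) with h2 | h3
  · have h := CfsgLib.Linear.card_PSL_two_even (F := F) (by rw [← hq, h2]; decide)
    rw [← hq, h2, ← hG] at h
    norm_num at h
    haveI : Fact (Nat.Prime 3) := ⟨Nat.prime_three⟩
    obtain ⟨x, hx⟩ := exists_prime_orderOf_dvd_card' (G := G) 3 (h ▸ by norm_num)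
    refine CfsgLib.EPPOSeven.no_index_two hna (zpowers x) ?_
    have := card_mul_index (zpowers x)
    rw [Nat.card_zpowers, hx, h] at this
    omega
  · have h := CfsgLib.Linear.card_PSL_two_odd (F := F) (by rw [← hq, h3]; decide)
    rw [← hq, h3, ← hG] at h
    norm_num at h
    haveI : Fact (Nat.Prime 2) := ⟨Nat.prime_two⟩
    exact CfsgLib.Classification.DihedralBSW.card_ne_twelve (Classical.arbitrary (Sylow 2 G)) hna
      (by omega)

/-- Without a bad pair the normaliser of a Thompson subgroup is strongly embedded. -/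
theorem stronglyEmbedded_of_noPair [IsSimpleGroup G] (hna : ¬ IsMulCommutative G)
    (hev : 2 ∣ Nat.card G)
    (hno : ∀ S₁ S₂ : Sylow 2 G, (S₁ : Subgroup G) ⊓ S₂ ≠ ⊥ →
      JT (S₁ : Subgroup G) = JT (S₂ : Subgroup G)) :
    ∃ L : Subgroup G, IsPGroup 2 L ∧ L ≠ ⊥ ∧
      Cfsg.IsStronglyEmbedded (normalizer (L : Set G)) := by
  classical
  haveI : Fact (Nat.Prime 2) := ⟨Nat.prime_two⟩
  obtain ⟨S⟩ : Nonempty (Sylow 2 G) := inferInstance
  have hS1 : (S : Subgroup G) ≠ ⊥ := fun e => by
    have := S.dvd_card_of_dvd_card hev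
    rw [e, card_bot] at this
    omega
  have hJ1 : JT (S : Subgroup G) ≠ ⊥ := JT_ne_bot S.2 hS1
  have hJ2 : IsPGroup 2 (JT (S : Subgroup G)) := S.2.to_le (JT_le _)
  set M := normalizer ((JT (S : Subgroup G) : Subgroup G) : Set G) with hM
  have hSM : (S : Subgroup G) ≤ M := le_normalizer.trans
    (CfsgLib.PLocal.normalizer_le_normalizer_thompsonSubgroupOf 2 _)
  have hMtop : M ≠ ⊤ := by
    intro e
    haveI := normalizer_eq_top_iff.1 e
    rcases (inferInstance : (JT (S : Subgroup G)).Normal).eq_bot_or_eq_top with h | h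
    · exact hJ1 h
    · have hp : IsPGroup 2 G := (h ▸ hJ2).of_equiv Subgroup.topEquiv
      haveI : Nontrivial G := IsSimpleGroup.toNontrivial
      haveI := hp.center_nontrivial
      rcases (inferInstance : (center G).Normal).eq_bot_or_eq_top with h' | h'
      · exact absurd h' ((center G).nontrivial_iff_ne_bot.1 inferInstance)
      · exact hna ⟨⟨fun a b => (Subgroup.mem_center_iff.1 (h' ▸ mem_top a) b).symm⟩⟩
  have hin : ∀ t ∈ M, orderOf t = 2 → ∀ R : Sylow 2 G, t ∈ R →
      JT (R : Subgroup G) = JT (S : Subgroup G) := by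
    intro t htM ht R htR
    obtain ⟨Z, htZ, hZM, hZ, hZmax⟩ := exists_maximal_two_subgroup (T := zpowers t) (N := M)
      (IsPGroup.of_card (p := 2) (n := 1) (by rw [Nat.card_zpowers, ht, pow_one]))
      (zpowers_le.2 htM)
    obtain ⟨m, hm, hmZ⟩ := exists_conj_maximal S.2 hSM (fun P hP _ hle => S.3 hP hle) hZ hZM hZmax
    let S' : Sylow 2 G := m • S
    have hS' : (S' : Subgroup G) = Z := by
      rw [← hmZ, Sylow.coe_subgroup_smul]
      rfl
    refine (hno R S' ?_).trans ?_
    · intro e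
      have : t ∈ (R : Subgroup G) ⊓ S' := ⟨htR, hS' ▸ htZ (mem_zpowers t)⟩
      rw [e, mem_bot] at this
      rw [this, orderOf_one] at ht
      omega
    · rw [hS', ← hmZ, ← JT_conj]
      exact mem_normalizer_iff_map_conj_eq.1 hm
  have hSE : ∀ g : G, ∀ t ∈ M, orderOf t = 2 → g * t * g⁻¹ ∈ M → g ∈ M := by
    intro g t htM ht hgt
    obtain ⟨R, hR⟩ := (IsPGroup.of_card (p := 2) (n := 1) (G := zpowers t)
      (by rw [Nat.card_zpowers, ht, pow_one])).exists_le_sylow
    let R' : Sylow 2 G := g • R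
    have hR' : (R' : Subgroup G) = (R : Subgroup G).map (MulAut.conj g).toMonoidHom := by
      rw [Sylow.coe_subgroup_smul]
      rfl
    have h1 := hin t htM ht R (hR (mem_zpowers t))
    have h2 := hin (g * t * g⁻¹) hgt (by rw [CfsgLib.Small.orderOf_conj_eq, ht]) R'
      (by show g * t * g⁻¹ ∈ (R' : Subgroup G); rw [hR']; exact ⟨t, hR (mem_zpowers t), rfl⟩)
    rw [hR', ← JT_conj, h1] at h2
    exact mem_normalizer_iff_map_conj_eq.2 h2
  have hMev : Even (Nat.card M) := even_iff_two_dvd.2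
    ((S.dvd_card_of_dvd_card hev).trans (card_dvd_of_le hSM))
  refine ⟨_, hJ2, hJ1, (CfsgLib.Small.isStronglyEmbedded_iff hMtop hMev).2 fun t ht hto g hg => ?_⟩
  exact inv_mem_iff.1 (hSE g⁻¹ t ht hto (by rwa [inv_inv]))

/-- A simple group with two-group involution centralisers, given the frame in the case of a module
of order at least sixteen. -/
theorem classification_of_fourCase [IsSimpleGroup G] (hna : ∃ a b : G, a * b ≠ b * a) (h : IsCIT G)
    (hfour : ∀ M : MaxPair G, 4 ≤ Nat.card (fixT M) → ∃ T V A : Subgroup G, FourFrame T V A) :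
    (∃ (F : Type) (_ : Field F) (_ : Fintype F),
        (Fintype.card F = 9 ∨ (∃ n : ℕ, Fintype.card F = 2 ^ n) ∨
          ((Fintype.card F).Prime ∧ ∃ k : ℕ, Fintype.card F = 2 ^ k + 1 ∨ Fintype.card F + 1 = 2 ^ k)) ∧
        Nonempty (G ≃* Matrix.ProjectiveSpecialLinearGroup (Fin 2) F)) ∨
    (∃ (F : Type) (_ : Field F) (_ : Fintype F), Fintype.card F = 4 ∧
        Nonempty (G ≃* Matrix.ProjectiveSpecialLinearGroup (Fin 3) F)) ∨
    ∃ H : Subgroup G, SEKernel H ∧ Cfsg.IsSuzuki G := by
  classical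
  haveI : Fact (Nat.Prime 2) := ⟨Nat.prime_two⟩
  have hna' : ¬ IsMulCommutative G := fun hc => by
    obtain ⟨a, b, hab⟩ := hna
    exact hab (hc.is_comm.comm a b)
  have hev : 2 ∣ Nat.card G := by
    by_contra hodd
    haveI : Group.IsSolvable G := Cfsg.Agent.S0205.result (Nat.odd_iff.2 (by omega))
    obtain ⟨a, b, hab⟩ := hna
    exact hab (IsSimpleGroup.comm_iff_isSolvable.2 inferInstance a b)
  have hpsl : ∀ {F : Type} [Field F] [Fintype F],
      (G ≃* Matrix.ProjectiveSpecialLinearGroup (Fin 2) F) →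
        Fintype.card F = 9 ∨ (∃ n : ℕ, Fintype.card F = 2 ^ n) ∨
          ((Fintype.card F).Prime ∧
            ∃ k : ℕ, Fintype.card F = 2 ^ k + 1 ∨ Fintype.card F + 1 = 2 ^ k) :=
    fun {F} _ _ e => card_of_isCIT (four_le_card hna' e) (h.of_equiv e)
  by_cases hno : ∀ S₁ S₂ : Sylow 2 G, (S₁ : Subgroup G) ⊓ S₂ ≠ ⊥ →
      JT (S₁ : Subgroup G) = JT (S₂ : Subgroup G)
  · obtain ⟨L, hL2, hL1, hSE⟩ := stronglyEmbedded_of_noPair hna' hev hno
    obtain ⟨H, K⟩ := exists_seKernel h hSE le_normalizer le_rfl hL2 hL1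
    rcases K.classification with ⟨F, fF, tF, ⟨e⟩⟩ | hS
    · exact Or.inl ⟨F, fF, tF, hpsl e, ⟨e⟩⟩
    · exact Or.inr (Or.inr ⟨H, K, hS⟩)
  · push Not at hno
    obtain ⟨S₁, S₂, h1, h2⟩ := hno
    obtain ⟨M⟩ := CfsgLib.EPPOSeven.exists_maxPair h1 h2
    have L := localData h M
    rcases four_le_or_two (fixT M) ((M.D_isPGroup.to_le (omegaCentral_le M.D)).to_le inf_le_left)
      L.one_lt with hq | hq
    · obtain ⟨S, V, hVS, hV4, hV2, hVc, hS8⟩ := (twoFrame h M hq).exists_four hna
      obtain ⟨F, fF, tF, -, ⟨e⟩⟩ := psl_of_four h hna S V hVS hV4 hV2 hVc hS8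
      exact Or.inl ⟨F, fF, tF, hpsl e, ⟨e⟩⟩
    · obtain ⟨T, V, A, F⟩ := hfour M hq
      exact Or.inr (Or.inl (F.psl_three F.card_eq))

end CfsgLib.CITGroups
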