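import Mathlib.GroupTheory.PGroup
import Mathlib.GroupTheory.Sylow
import Cfsg.Agent.Small.Dihedral

/-!
# Groups in which centralisers of involutions are two-groups

The hypothesis and its immediate consequences.
-/

set_option autoImplicit false
set_option linter.style.haveILetI false
set_option linter.unusedSectionVars false

namespace CfsgLib.CITGroups

open Subgroup

/-- The centraliser of every involution is a two-group. -/
def IsCIT (G : Type*) [Group G] : Prop :=
  ∀ t : G, orderOf t = 2 → IsPGroup 2 (centralizer ({t} : Set G))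

variable {G : Type*} [Group G]

theorem orderOf_two_of_mul_self {a : G} (h : a * a = 1) (h1 : a ≠ 1) : orderOf a = 2 :=
  CfsgLib.Small.orderOf_eq_two_iff_sq.2 ⟨h1, h⟩

/-- In a two-group every element has order a power of two. -/
theorem exists_orderOf_eq_two_pow {P : Subgroup G} (hP : IsPGroup 2 P) {d : G} (hd : d ∈ P) :
    ∃ k : ℕ, orderOf d = 2 ^ k := by
  haveI : Fact (Nat.Prime 2) := ⟨Nat.prime_two⟩
  obtain ⟨k, hk⟩ := IsPGroup.iff_orderOf.1 hP ⟨d, hd⟩
  exact ⟨k, by rwa [Subgroup.orderOf_mk] at hk⟩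

/-- An element whose order is odd and a power of two is trivial. -/
theorem eq_one_of_odd_two_pow {g : G} {k : ℕ} (hk : orderOf g = 2 ^ k) (ho : Odd (orderOf g)) :
    g = 1 := by
  rcases Nat.eq_zero_or_pos k with rfl | h
  · exact orderOf_eq_one_iff.1 (by rw [hk, pow_zero])
  · rw [hk] at ho
    exact absurd ho (Nat.not_odd_iff_even.2 ((Nat.even_pow' h.ne').2 even_two))

/-- An element of odd order in a two-group is trivial. -/
theorem eq_one_of_odd_mem {P : Subgroup G} (hP : IsPGroup 2 P) {g : G} (hg : g ∈ P)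
    (ho : Odd (orderOf g)) : g = 1 := by
  obtain ⟨k, hk⟩ := exists_orderOf_eq_two_pow hP hg
  exact eq_one_of_odd_two_pow hk ho

/-- A group without nontrivial elements of odd order is a two-group. -/
theorem isPGroup_two_of_forall [Finite G] {H : Subgroup G}
    (h : ∀ g ∈ H, Odd (orderOf g) → g = 1) : IsPGroup 2 H := by
  intro g
  obtain ⟨a, m, hm, hn⟩ := Nat.exists_eq_two_pow_mul_odd (orderOf_pos (g : G)).ne'
  refine ⟨a, Subtype.ext ?_⟩
  show ((g : G)) ^ 2 ^ a = 1
  refine h _ (pow_mem g.2 _) ?_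
  rw [orderOf_pow, hn, Nat.gcd_eq_right (dvd_mul_right _ _), Nat.mul_div_cancel_left _ (by positivity)]
  exact hm

/-- An element of odd order other than the identity has a power of odd prime order. -/
theorem exists_prime_pow [Finite G] {g : G} (ho : Odd (orderOf g)) (h1 : g ≠ 1) :
    ∃ (p i : ℕ), p.Prime ∧ p ≠ 2 ∧ orderOf (g ^ i) = p := by
  obtain ⟨p, hp, hd⟩ := Nat.exists_prime_and_dvd (fun e => h1 (orderOf_eq_one_iff.1 e))
  exact ⟨p, _, hp, fun e => Nat.not_even_iff_odd.2 ho (even_iff_two_dvd.2 (e ▸ hd)),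
    orderOf_pow_orderOf_div (orderOf_pos g).ne' hd⟩

theorem odd_orderOf_of_prime {g : G} {p : ℕ} (hp : p.Prime) (h2 : p ≠ 2) (hg : orderOf g = p) :
    Odd (orderOf g) :=
  hg ▸ hp.odd_of_ne_two h2

/-- An element of prime odd order fixing a coset of a two-group centralises one of its elements. -/
theorem exists_fixed_in_coset [Finite G] {D : Subgroup G} (hD : IsPGroup 2 D) {z t : G} {p : ℕ}
    (hp : p.Prime) (h2 : p ≠ 2) (hz : orderOf z = p) (hzD : z ∈ normalizer (D : Set G))
    (ht : t⁻¹ * (z * t * z⁻¹) ∈ D) : ∃ d ∈ D, Commute z (t * d) := by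
  haveI := Fact.mk hp
  haveI : Fact (Nat.Prime 2) := ⟨Nat.prime_two⟩
  let X := {x : G // t⁻¹ * x ∈ D}
  have hkey : ∀ x : G, t⁻¹ * x ∈ D → t⁻¹ * (z * x * z⁻¹) ∈ D := fun x hx => by
    rw [show t⁻¹ * (z * x * z⁻¹) = (t⁻¹ * (z * t * z⁻¹)) * (z * (t⁻¹ * x) * z⁻¹) by group]
    exact mul_mem ht ((mem_normalizer_iff.1 hzD _).1 hx)
  let c : Equiv.Perm X :=
    Equiv.ofBijective (fun x => ⟨z * x * z⁻¹, hkey x x.2⟩)
      (Finite.injective_iff_bijective.1 fun x y h => by
        refine Subtype.ext ?_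
        have : z * (x : G) * z⁻¹ = z * y * z⁻¹ := congrArg Subtype.val h
        exact mul_left_cancel (mul_right_cancel this))
  have hc : ∀ (n : ℕ) (x : X), (((c ^ n) x : X) : G) = z ^ n * x * (z ^ n)⁻¹ := by
    intro n
    induction n with
    | zero => intro x; simp
    | succ n ih =>
      intro x
      rw [pow_succ', Equiv.Perm.mul_apply]
      show z * (((c ^ n) x : X) : G) * z⁻¹ = _
      rw [ih, pow_succ']
      group
  have hcp : c ^ p = 1 := Equiv.ext fun x => Subtype.ext (by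
    rw [hc, ← hz, pow_orderOf_eq_one]; simp)
  have hP : IsPGroup p (zpowers c) := fun g => ⟨1, Subtype.ext (by
    obtain ⟨i, hi⟩ := g.2
    show ((g : Equiv.Perm X)) ^ p ^ 1 = 1
    rw [pow_one, ← show c ^ i = (g : Equiv.Perm X) from hi, ← zpow_natCast, ← zpow_mul, mul_comm,
      zpow_mul, zpow_natCast, hcp, one_zpow])⟩
  obtain ⟨k, hk⟩ := IsPGroup.iff_card.1 hD
  have hX : Nat.card X = 2 ^ k := by
    rw [← hk]
    exact Nat.card_congr ((Equiv.mulLeft t⁻¹).subtypeEquiv fun x => Iff.rfl)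
  obtain ⟨x, hx⟩ := hP.nonempty_fixed_point_of_prime_not_dvd_card (α := X) (fun h =>
    h2 ((Nat.prime_dvd_prime_iff_eq hp Nat.prime_two).1 (hp.dvd_of_dvd_pow (hX ▸ h))))
  have hfix : z * (x : G) * z⁻¹ = x := congrArg Subtype.val (hx ⟨c, mem_zpowers c⟩)
  refine ⟨t⁻¹ * x, x.2, ?_⟩
  rw [mul_inv_cancel_left]
  exact mul_inv_eq_iff_eq_mul.1 hfix

namespace IsCIT

theorem subgroup (h : IsCIT G) (H : Subgroup G) : IsCIT H := by
  intro t ht g
  obtain ⟨k, hk⟩ := h (t : G) (by rw [Subgroup.orderOf_coe]; exact ht) ⟨((g : H) : G),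
    mem_centralizer_singleton_iff.2 (congrArg Subtype.val (mem_centralizer_singleton_iff.1 g.2))⟩
  exact ⟨k, Subtype.ext (Subtype.ext (congrArg Subtype.val hk :))⟩

variable [Finite G]

/-- No nontrivial element of odd order commutes with a nontrivial element of two-power order. -/
theorem eq_one_of_commute (h : IsCIT G) {x y : G} {k : ℕ} (hx : orderOf x = 2 ^ k) (hx1 : x ≠ 1)
    (hy : Odd (orderOf y)) (hc : Commute y x) : y = 1 := by
  have hk : k ≠ 0 := fun e => hx1 (orderOf_eq_one_iff.1 (by rw [hx, e, pow_zero]))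
  have ht : orderOf (x ^ (orderOf x / 2)) = 2 :=
    orderOf_pow_orderOf_div (orderOf_pos x).ne' (hx ▸ dvd_pow_self 2 hk)
  exact eq_one_of_odd_mem (h _ ht)
    (mem_centralizer_singleton_iff.2 (hc.pow_right _).eq) hy

/-- An element of odd order centralises only the identity of a two-group. -/
theorem eq_one_of_mem (h : IsCIT G) {P : Subgroup G} (hP : IsPGroup 2 P) {y d : G} (hd : d ∈ P)
    (hy : Odd (orderOf y)) (hy1 : y ≠ 1) (hc : Commute y d) : d = 1 := by
  by_contra hd1
  obtain ⟨k, hk⟩ := exists_orderOf_eq_two_pow hP hd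
  exact hy1 (h.eq_one_of_commute hk hd1 hy hc)

/-- The centraliser of a nontrivial subgroup of a two-group is a two-group. -/
theorem isPGroup_centralizer (h : IsCIT G) {P : Subgroup G} (hP : IsPGroup 2 P) (hP1 : P ≠ ⊥) :
    IsPGroup 2 (centralizer (P : Set G)) := by
  obtain ⟨d, hd, hd1⟩ := P.bot_or_exists_ne_one.resolve_left hP1
  exact isPGroup_two_of_forall fun g hg ho => by_contra fun hg1 =>
    hd1 (h.eq_one_of_mem hP hd ho hg1 (mem_centralizer_iff.1 hg d hd).symm)

/-- An element commuting with a nontrivial element of odd order has odd order. -/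
theorem odd_of_commute (h : IsCIT G) {x g : G} (hx : Odd (orderOf x)) (hx1 : x ≠ 1)
    (hc : Commute x g) : Odd (orderOf g) := by
  by_contra hg
  rw [Nat.not_odd_iff_even, even_iff_two_dvd] at hg
  have ht : orderOf (g ^ (orderOf g / 2)) = 2 :=
    orderOf_pow_orderOf_div (orderOf_pos g).ne' hg
  exact hx1 (eq_one_of_odd_mem (h _ ht) (mem_centralizer_singleton_iff.2 (hc.pow_right _).eq) hx)

/-- The quotient by a normal two-subgroup is again such a group. -/
theorem quotient (h : IsCIT G) (D : Subgroup G) [hn : D.Normal] (hD : IsPGroup 2 D) :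
    IsCIT (G ⧸ D) := by
  intro t ht
  obtain ⟨t₀, rfl⟩ := QuotientGroup.mk_surjective t
  refine isPGroup_two_of_forall fun y hy ho => by_contra fun hy1 => ?_
  obtain ⟨p, i, hp, hp2, hpi⟩ := exists_prime_pow ho hy1
  have hyc : Commute (y ^ i) (t₀ : G ⧸ D) :=
    (show Commute y (t₀ : G ⧸ D) from mem_centralizer_singleton_iff.1 hy).pow_left i
  obtain ⟨z₀, hz₀⟩ := QuotientGroup.mk_surjective (y ^ i)
  have hdvd : p ∣ orderOf z₀ := hpi ▸ hz₀ ▸ orderOf_map_dvd (QuotientGroup.mk' D) z₀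
  set z := z₀ ^ (orderOf z₀ / p) with hz
  have hzo : orderOf z = p := orderOf_pow_orderOf_div (orderOf_pos z₀).ne' hdvd
  have hzodd := odd_orderOf_of_prime hp hp2 hzo
  have hz1 : z ≠ 1 := fun e => hp.one_lt.ne' (by rw [← hzo, e, orderOf_one])
  have hzc : Commute (z : G ⧸ D) (t₀ : G ⧸ D) := by
    rw [hz, QuotientGroup.mk_pow, hz₀]
    exact hyc.pow_left _
  have hmem : t₀⁻¹ * (z * t₀ * z⁻¹) ∈ D := (QuotientGroup.eq_one_iff _).1 (by
    simp only [QuotientGroup.mk_mul, QuotientGroup.mk_inv, hzc.eq]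
    group)
  obtain ⟨d, hd, hzd⟩ := exists_fixed_in_coset hD hp hp2 hzo
    (normalizer_eq_top_iff.2 hn ▸ mem_top z) hmem
  have h2 : IsPGroup 2 ((zpowers (t₀ : G ⧸ D)).comap (QuotientGroup.mk' D)) :=
    IsPGroup.comap_of_ker_isPGroup (IsPGroup.of_card (p := 2) (n := 1)
      (by rw [Nat.card_zpowers, ht, pow_one])) _ (by rw [QuotientGroup.ker_mk']; exact hD)
  have hd' : ((d : G) : G ⧸ D) = 1 := (QuotientGroup.eq_one_iff d).2 hd
  have htd : t₀ * d ∈ (zpowers (t₀ : G ⧸ D)).comap (QuotientGroup.mk' D) := by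
    rw [Subgroup.mem_comap, map_mul]
    show (t₀ : G ⧸ D) * (d : G ⧸ D) ∈ zpowers (t₀ : G ⧸ D)
    rw [hd', mul_one]
    exact mem_zpowers _
  have htd1 := h.eq_one_of_mem h2 htd hzodd hz1 hzd
  have : (t₀ : G ⧸ D) = 1 := by
    have := congrArg (fun g : G => (g : G ⧸ D)) htd1
    simpa [hd'] using this
  rw [this, orderOf_one] at ht
  omega

end IsCIT

/-- An involution with no nontrivial fixed point on a subgroup it normalises inverts it. -/
theorem inverts_of_fixedPointFree [Finite G] {H : Subgroup G} {u : G} (hu : u * u = 1)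
    (hn : ∀ x ∈ H, u * x * u ∈ H) (hf : ∀ x ∈ H, u * x = x * u → x = 1) :
    ∀ x ∈ H, u * x * u = x⁻¹ := by
  intro x hx
  let f : H → H := fun y => ⟨(y : G)⁻¹ * (u * y * u), mul_mem (inv_mem y.2) (hn y y.2)⟩
  have hfi : Function.Injective f := by
    intro a b hab
    have h' : (a : G)⁻¹ * (u * a * u) = (b : G)⁻¹ * (u * b * u) := congrArg Subtype.val hab
    have h1 : u * ((b : G) * (a : G)⁻¹) = (b : G) * (a : G)⁻¹ * u := by
      have h2 : (b : G) * (a : G)⁻¹ = (u * b * u) * (u * a * u)⁻¹ := by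
        calc (b : G) * (a : G)⁻¹ = b * ((a : G)⁻¹ * (u * a * u)) * (u * a * u)⁻¹ := by group
          _ = b * ((b : G)⁻¹ * (u * b * u)) * (u * a * u)⁻¹ := by rw [h']
          _ = _ := by group
      have hui : u⁻¹ = u := inv_eq_of_mul_eq_one_right hu
      have h3 : (u * b * u) * (u * a * u)⁻¹ = u * ((b : G) * (a : G)⁻¹) * u := by
        simp only [mul_inv_rev, hui]
        simp only [mul_assoc]
        rw [← mul_assoc u u, hu, one_mul]
      rw [h3] at h2
      calc u * ((b : G) * (a : G)⁻¹) = u * ((b : G) * (a : G)⁻¹) * (u * u) := by rw [hu, mul_one]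
        _ = u * ((b : G) * (a : G)⁻¹) * u * u := (mul_assoc _ _ _).symm
        _ = (b : G) * (a : G)⁻¹ * u := by rw [← h2]
    have := hf _ (mul_mem b.2 (inv_mem a.2)) h1
    exact Subtype.ext (mul_inv_eq_one.1 this).symm
  obtain ⟨y, hy⟩ := (Finite.injective_iff_surjective.1 hfi) ⟨x, hx⟩
  have hy' : (y : G)⁻¹ * (u * y * u) = x := congrArg Subtype.val hy
  have hui : u⁻¹ = u := inv_eq_of_mul_eq_one_right hu
  rw [← hy']
  simp only [mul_inv_rev, inv_inv, hui, mul_assoc, hu, mul_one]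

/-- A subgroup inverted by an element is commutative. -/
theorem commute_of_inverted {H : Subgroup G} {u : G} (hu : u * u = 1)
    (h : ∀ x ∈ H, u * x * u = x⁻¹) : ∀ x ∈ H, ∀ y ∈ H, x * y = y * x := by
  intro x hx y hy
  have h1 : (u * x * u) * (u * y * u) = u * (x * y) * u := by
    simp only [mul_assoc]
    rw [← mul_assoc u u, hu, one_mul]
  rw [h x hx, h y hy, h _ (mul_mem hx hy), mul_inv_rev] at h1
  have := congrArg (·⁻¹) h1
  simpa using this.symm

/-- The largest normal two-subgroup of a subgroup. -/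
theorem exists_core [Finite G] (W : Subgroup G) :
    ∃ E : Subgroup G, E ≤ W ∧ W ≤ normalizer (E : Set G) ∧ IsPGroup 2 E ∧
      ∀ P : Subgroup G, P ≤ W → W ≤ normalizer (P : Set G) → IsPGroup 2 P → P ≤ E := by
  let s : Set (Subgroup G) := {P | P ≤ W ∧ W ≤ normalizer (P : Set G) ∧ IsPGroup 2 P}
  obtain ⟨E, ⟨hEW, hWE, hE⟩, hmax⟩ := s.toFinite.exists_maximal
    ⟨⊥, bot_le, le_normalizer_of_normal, IsPGroup.of_bot⟩
  refine ⟨E, hEW, hWE, hE, fun P hPW hWP hP => ?_⟩
  exact le_sup_right.trans (hmax (show E ⊔ P ∈ s from ⟨sup_le hEW hPW,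
    sup_normalizer_le W E P hWE hWP, hE.to_sup_of_normal_left' hP (hPW.trans hWE)⟩) le_sup_left)
where
  sup_normalizer_le (W E P : Subgroup G) (hWE : W ≤ normalizer (E : Set G))
      (hWP : W ≤ normalizer (P : Set G)) : W ≤ normalizer ((E ⊔ P : Subgroup G) : Set G) := by
    intro g hg
    rw [mem_normalizer_iff_map_conj_eq, Subgroup.map_sup, mem_normalizer_iff_map_conj_eq.1 (hWE hg),
      mem_normalizer_iff_map_conj_eq.1 (hWP hg)]

end CfsgLib.CITGroups
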