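import Cfsg.Agent.CITGroups.Involutions
import Cfsg.Agent.CITGroups.Kernel
import Cfsg.Agent.EPPOSeven.Pairs

/-!
# Strongly embedded subgroups with a nontrivial normal two-subgroup
-/

set_option autoImplicit false
set_option linter.style.haveILetI false
set_option linter.unusedSectionVars false

namespace CfsgLib.CITGroups

open Subgroup

variable {G : Type*} [Group G] [Finite G]

/-- The structure of a strongly embedded subgroup with a nontrivial normal two-subgroup in a group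
with two-group involution centralisers. -/
structure SylowSE (S M : Subgroup G) : Prop where
  two : IsPGroup 2 S
  maximal : ∀ P : Subgroup G, IsPGroup 2 P → S ≤ P → P = S
  normalizer_eq : normalizer (S : Set G) = M
  invol_mem : ∀ t ∈ M, orderOf t = 2 → t ∈ S
  invol_central : ∀ t ∈ S, orderOf t = 2 → ∀ w ∈ S, Commute w t
  two_mem : ∀ g ∈ M, ∀ k : ℕ, orderOf g = 2 ^ k → g ∈ S
  conj : ∀ s ∈ M, ∀ t ∈ M, orderOf s = 2 → orderOf t = 2 → ∃ m ∈ M, m * s * m⁻¹ = t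

theorem exists_orderOf_two {P : Subgroup G} (hP : IsPGroup 2 P) (h1 : P ≠ ⊥) :
    ∃ t ∈ P, orderOf t = 2 := by
  haveI : Fact (Nat.Prime 2) := ⟨Nat.prime_two⟩
  obtain ⟨d, hd, hd1⟩ := P.bot_or_exists_ne_one.resolve_left h1
  obtain ⟨k, hk⟩ := exists_orderOf_eq_two_pow hP hd
  refine ⟨d ^ (orderOf d / 2), pow_mem hd _,
    orderOf_pow_orderOf_div (orderOf_pos d).ne' (hk ▸ dvd_pow_self 2 fun e => hd1 ?_)⟩
  exact orderOf_eq_one_iff.1 (by rw [hk, e, pow_zero])

theorem exists_central_invol {P : Subgroup G} (hP : IsPGroup 2 P) (h1 : P ≠ ⊥) :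
    ∃ z ∈ P, orderOf z = 2 ∧ ∀ w ∈ P, Commute w z := by
  haveI : Fact (Nat.Prime 2) := ⟨Nat.prime_two⟩
  haveI : Nontrivial P := (nontrivial_iff_ne_bot _).2 h1
  haveI := hP.center_nontrivial
  obtain ⟨c, hc, hco⟩ := exists_orderOf_two ((hP.to_subgroup (center P)).map P.subtype) (fun e =>
    (center P).nontrivial_iff_ne_bot.1 inferInstance
      ((map_eq_bot_iff_of_injective _ P.subtype_injective).1 e))
  obtain ⟨c', hc', rfl⟩ := hc
  exact ⟨_, c'.2, hco, fun w hw => congrArg Subtype.val (mem_center_iff.1 hc' ⟨w, hw⟩)⟩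

/-- Involutions of a strongly embedded subgroup are conjugate in it. -/
theorem conj_in_stronglyEmbedded {M : Subgroup G} (hM : Cfsg.IsStronglyEmbedded M) {s t : G}
    (hsM : s ∈ M) (htM : t ∈ M) (hs : orderOf s = 2) (ht : orderOf t = 2) :
    ∃ m ∈ M, m * s * m⁻¹ = t := by
  haveI := CfsgLib.SEmbed.nontrivial_cosets hM
  obtain ⟨g, hg⟩ := isConj_iff.1
    (CfsgLib.SEmbed.isConj_invol (CfsgLib.SEmbed.uniqueFix hM) hs ht)
  refine ⟨g, (CfsgLib.Small.isStronglyEmbedded_iff hM.1 hM.2.1).1 hM t htM ht g ?_, hg⟩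
  rw [← hg, show g⁻¹ * (g * s * g⁻¹) * g = s by group]
  exact hsM

theorem exists_sylowSE (h : IsCIT G) {M L : Subgroup G} (hM : Cfsg.IsStronglyEmbedded M)
    (hLM : L ≤ M) (hLn : M ≤ normalizer (L : Set G)) (hL : IsPGroup 2 L) (hL1 : L ≠ ⊥) :
    ∃ S : Subgroup G, SylowSE S M := by
  haveI : Fact (Nat.Prime 2) := ⟨Nat.prime_two⟩
  have hSE := (CfsgLib.Small.isStronglyEmbedded_iff hM.1 hM.2.1).1 hM
  obtain ⟨S, hSM, hMS, hS, hcore⟩ := exists_core M
  obtain ⟨t₀, ht₀, ht₀o⟩ := exists_orderOf_two hL hL1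
  have ht₀S : t₀ ∈ S := hcore L hLM hLn hL ht₀
  have hinvol : ∀ t ∈ M, orderOf t = 2 → t ∈ S := by
    intro t ht hto
    obtain ⟨m, hm, rfl⟩ := conj_in_stronglyEmbedded hM (hSM ht₀S) ht ht₀o hto
    exact (mem_normalizer_iff.1 (hMS hm) t₀).1 ht₀S
  have hsq : ∀ a ∈ M, a * a ∈ S → a ∈ S := by
    intro a ha ha2
    by_contra haS
    obtain ⟨p, y, hp, hp2, hy, hyM, hay⟩ := exists_inverted hSM hMS hS hcore ha haS ha2
    obtain ⟨e, he, hx2, -⟩ := h.exists_inverting hS hp hp2 hy (hMS hyM) (hMS ha) ha2 hay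
    have hae : a * e ∈ S := by
      rcases eq_or_ne (a * e) 1 with h1 | h1
      · rw [h1]; exact one_mem _
      · exact hinvol _ (mul_mem ha (hSM he)) (orderOf_two_of_mul_self hx2 h1)
    exact haS (by simpa using mul_mem hae (inv_mem he))
  have htwo : ∀ k : ℕ, ∀ g ∈ M, g ^ 2 ^ k ∈ S → g ∈ S := by
    intro k
    induction k with
    | zero => intro g _ hg; simpa using hg
    | succ k ih =>
      intro g hg hgk
      refine hsq g hg (ih _ (mul_mem hg hg) ?_)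
      rwa [← pow_two, ← pow_mul, ← pow_succ']
  have hmem : ∀ g ∈ M, ∀ k : ℕ, orderOf g = 2 ^ k → g ∈ S := fun g hg k hk =>
    htwo k g hg (by rw [← hk, pow_orderOf_eq_one]; exact one_mem _)
  have hN : normalizer (S : Set G) = M := by
    refine le_antisymm (fun g hg => ?_) hMS
    exact hSE t₀ (hSM ht₀S) ht₀o g (hSM ((mem_normalizer_iff''.1 hg t₀).1 ht₀S))
  have hmax : ∀ P : Subgroup G, IsPGroup 2 P → S ≤ P → P = S := by
    intro P hP hSP
    by_contra hne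
    obtain ⟨g, hgP, hgS, hgN⟩ :=
      CfsgLib.EPPOSeven.exists_normalizing_notMem hP hSP (Ne.symm hne)
    obtain ⟨k, hk⟩ := exists_orderOf_eq_two_pow hP hgP
    exact hgS (hmem g (hN ▸ hgN) k hk)
  refine ⟨S, ⟨hS, hmax, hN, hinvol, fun t ht hto w hw => ?_, hmem, fun s hs t ht hso hto =>
    conj_in_stronglyEmbedded hM hs ht hso hto⟩⟩
  obtain ⟨z, hz, hzo, hzc⟩ := exists_central_invol hS fun e => by
    rw [e, mem_bot] at ht₀S
    rw [ht₀S, orderOf_one] at ht₀o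
    omega
  obtain ⟨m, hm, rfl⟩ := conj_in_stronglyEmbedded hM (hSM hz) (hSM ht) hzo hto
  have := hzc (m⁻¹ * w * m) ((mem_normalizer_iff''.1 (hMS hm) w).1 hw)
  show w * (m * z * m⁻¹) = m * z * m⁻¹ * w
  calc w * (m * z * m⁻¹) = m * ((m⁻¹ * w * m) * z) * m⁻¹ := by group
    _ = m * (z * (m⁻¹ * w * m)) * m⁻¹ := by rw [this.eq]
    _ = m * z * m⁻¹ * w := by group

/-- In a simple group such a subgroup gives a Frobenius kernel. -/
theorem exists_seKernel (h : IsCIT G) {M L : Subgroup G} (hM : Cfsg.IsStronglyEmbedded M)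
    (hLM : L ≤ M) (hLn : M ≤ normalizer (L : Set G)) (hL : IsPGroup 2 L) (hL1 : L ≠ ⊥) :
    ∃ H : Subgroup G, SEKernel H := by
  obtain ⟨S, D⟩ := exists_sylowSE h hM hLM hLn hL hL1
  have hSM : S ≤ M := D.normalizer_eq ▸ le_normalizer
  refine ⟨S, ⟨D.normalizer_eq ▸ hM.1, ?_, fun t ht => D.invol_mem t (D.normalizer_eq ▸ ht),
    D.invol_central, fun g k hk hk1 hgk => ?_, fun m hm k hk hk1 hc => ?_⟩⟩
  · obtain ⟨t, ht, hto⟩ := exists_orderOf_two hL hL1
    exact ⟨t, D.invol_mem t (hLM ht) hto, hto⟩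
  · rw [D.normalizer_eq]
    obtain ⟨j, hj⟩ := exists_orderOf_eq_two_pow D.two hk
    have ht : orderOf (k ^ (orderOf k / 2)) = 2 :=
      orderOf_pow_orderOf_div (orderOf_pos k).ne' (hj ▸ dvd_pow_self 2 fun e => hk1
        (orderOf_eq_one_iff.1 (by rw [hj, e, pow_zero])))
    have hgt : g * k ^ (orderOf k / 2) * g⁻¹ ∈ S := by
      rw [← conj_pow]; exact pow_mem hgk _
    refine inv_mem_iff.1 ((CfsgLib.Small.isStronglyEmbedded_iff hM.1 hM.2.1).1 hM _
      (hSM (pow_mem hk _)) ht g⁻¹ ?_)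
    rw [inv_inv]
    exact hSM hgt
  · rw [D.normalizer_eq] at hm
    obtain ⟨a, o, ho, hn⟩ := Nat.exists_eq_two_pow_mul_odd (orderOf_pos m).ne'
    have h1 : orderOf (m ^ 2 ^ a) = o := by
      rw [orderOf_pow, hn, Nat.gcd_eq_right (dvd_mul_right _ _), Nat.mul_div_cancel_left _ (by positivity)]
    obtain ⟨j, hj⟩ := exists_orderOf_eq_two_pow D.two hk
    have h2 : m ^ 2 ^ a = 1 := h.eq_one_of_commute hj hk1 (h1 ▸ ho) (hc.pow_left _)
    obtain ⟨b, -, hb⟩ := (Nat.dvd_prime_pow Nat.prime_two).1 (orderOf_dvd_of_pow_eq_one h2)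
    exact D.two_mem m hm b hb

end CfsgLib.CITGroups
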