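import Cfsg.Agent.CITGroups.Kernel
import Cfsg.Agent.CITGroups.StronglyEmbedded
import Cfsg.Agent.OddOrder.CN.MaxNilpotent

/-!
# Simple CN-groups have two-group involution centralisers

Otherwise a maximal nilpotent subgroup containing the centraliser is a strongly embedded
Frobenius kernel of non-prime-power order.
-/

set_option autoImplicit false
set_option linter.style.haveILetI false
set_option linter.unusedSectionVars false

namespace CfsgLib.CITGroups

open Subgroup CfsgLib.OddOrder.CN

variable {G : Type*} [Group G] [Finite G]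

/-- An involution and another one with product of odd order are conjugate. -/
theorem isConj_of_odd_mul {s u : G} (hs : s * s = 1) (hu : u * u = 1) (ho : Odd (orderOf (s * u))) :
    IsConj s u := by
  have hsi : s⁻¹ = s := inv_eq_of_mul_eq_one_right hs
  have hui : u⁻¹ = u := inv_eq_of_mul_eq_one_right hu
  obtain ⟨r, hr⟩ := ho
  set x := s * u with hx
  have hflip : ∀ n : ℕ, s * (x ^ n)⁻¹ = x ^ n * s := by
    intro n
    have h : s * x * s⁻¹ = x⁻¹ := by
      rw [hx, mul_inv_rev, hui, hsi, ← mul_assoc s s u, hs, one_mul]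
    have h' := conj_pow (a := s) (b := x) (i := n)
    rw [h, inv_pow] at h'
    rw [h', hsi, show s * (s * x ^ n * s) = (s * s) * (x ^ n * s) by simp only [mul_assoc], hs, one_mul]
  have h1 : x ^ (r + r) * x = 1 := by
    rw [← pow_succ, show r + r + 1 = orderOf x by omega, pow_orderOf_eq_one]
  refine isConj_iff.2 ⟨x ^ r, ?_⟩
  rw [mul_assoc, hflip, ← mul_assoc, ← pow_add, eq_inv_of_mul_eq_one_left h1, hx, mul_inv_rev, hui,
    hsi, mul_assoc, hs, mul_one]

/-- A simple CN-group has two-group involution centralisers. -/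
theorem isCIT_of_cn [IsSimpleGroup G] (hna : ∃ a b : G, a * b ≠ b * a) (hCN : Cfsg.IsCNGroup G) :
    IsCIT G := by
  haveI : Fact (Nat.Prime 2) := ⟨Nat.prime_two⟩
  intro t ht
  by_contra hnot
  have ht1 : t ≠ 1 := fun e => by rw [e, orderOf_one] at ht; omega
  obtain ⟨H, hCH, hH⟩ := exists_maximal_nilpotent (hCN t ht1)
  have htH : t ∈ H := hCH (mem_centralizer_singleton_iff.2 rfl)
  have h2H : 2 ∣ Nat.card H := ht ▸ H.orderOf_dvd_natCard htH
  have hnp : ¬ IsPrimePow (Nat.card H) := by
    intro h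
    obtain ⟨p, k, hp, -, hk⟩ := (isPrimePow_nat_iff _).1 h
    obtain rfl : p = 2 := ((Nat.prime_dvd_prime_iff_eq Nat.prime_two hp).1
      (Nat.prime_two.dvd_of_dvd_pow (hk ▸ h2H))).symm
    exact hnot ((IsPGroup.of_card hk.symm).to_le hCH)
  have hti := inf_conj_eq_bot_of_not_primePow hCN hH hnp
  have hcent : ∀ x ∈ H, x ≠ 1 → centralizer ({x} : Set G) ≤ H := fun x hx hx1 =>
    centralizer_le_of_ti hCN hH hti hx hx1
  have hproper : H ≠ ⊤ := by
    intro e
    haveI : Group.IsNilpotent H := hH.1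
    haveI : Group.IsNilpotent G := Group.nilpotent_of_surjective H.subtype
      (fun g => ⟨⟨g, e ▸ mem_top g⟩, rfl⟩)
    haveI : Nontrivial G := ⟨t, 1, ht1⟩
    obtain ⟨a, b, hab⟩ := hna
    rcases (inferInstance : (center G).Normal).eq_bot_or_eq_top with h | h
    · exact Group.IsNilpotent.center_ne_bot (G := G) h
    · exact hab ((mem_center_iff.1 (h ▸ mem_top b)) a)
  have hNtop : normalizer (H : Set G) ≠ ⊤ := fun e => by
    rcases (normalizer_eq_top_iff.1 e).eq_bot_or_eq_top with h | h
    · rw [h, mem_bot] at htH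
      exact ht1 htH
    · exact hproper h
  have hinv : ∀ s ∈ normalizer (H : Set G), orderOf s = 2 → s ∈ H := fun s hs hso =>
    mem_of_mem_normalizer hCN hH (k := 1) Nat.prime_two h2H hs (by rw [hso, pow_one])
  -- an involution outside `H`
  obtain ⟨u, huo, huH⟩ : ∃ u : G, orderOf u = 2 ∧ u ∉ H := by
    by_contra hall
    push Not at hall
    rcases (inferInstance : (normalClosure ({t} : Set G)).Normal).eq_bot_or_eq_top with h | h
    · exact ht1 (mem_bot.1 (h ▸ subset_normalClosure (Set.mem_singleton t)))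
    · refine hproper (top_le_iff.1 (h ▸ (closure_le H).2 fun w hw => ?_))
      obtain ⟨a, ha, hc⟩ := Group.mem_conjugatesOfSet_iff.1 hw
      rw [Set.mem_singleton_iff] at ha
      obtain ⟨g, hg⟩ := isConj_iff.1 (ha ▸ hc : IsConj t w)
      refine hall w ?_
      rw [← hg, show g * t * g⁻¹ = MulAut.conj g t from rfl, MulEquiv.orderOf_eq, ht]
  have huu := CfsgLib.Small.mul_self_of_orderOf_two huo
  have hone : ∀ s ∈ H, orderOf s = 2 → IsConj s u := by
    intro s hs hso
    have hss := CfsgLib.Small.mul_self_of_orderOf_two hso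
    refine isConj_of_odd_mul hss huu (by_contra fun hev => huH ?_)
    set m := orderOf (s * u) / 2
    have hz : orderOf ((s * u) ^ m) = 2 :=
      orderOf_pow_orderOf_div (orderOf_pos _).ne' (even_iff_two_dvd.1 (Nat.not_odd_iff_even.1 hev))
    have hzi := inv_eq_of_mul_eq_one_right (CfsgLib.Small.mul_self_of_orderOf_two hz)
    have hsi : s⁻¹ = s := inv_eq_of_mul_eq_one_right hss
    have hui : u⁻¹ = u := inv_eq_of_mul_eq_one_right huu
    have hflip : ∀ y : G, y * (s * u) * y⁻¹ = (s * u)⁻¹ → Commute y ((s * u) ^ m) := fun y hy =>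
      mul_inv_eq_iff_eq_mul.1 (by rw [← conj_pow, hy, inv_pow, hzi])
    have hs1 : s ≠ 1 := fun e => by rw [e, orderOf_one] at hso; omega
    have hzs := hflip s (by rw [mul_inv_rev, hui, hsi, ← mul_assoc s s u, hss, one_mul])
    have hzu := hflip u (by rw [mul_inv_rev, hui, hsi]; simp only [mul_assoc, huu, mul_one])
    have hzH : (s * u) ^ m ∈ H := hcent s hs hs1 (mem_centralizer_singleton_iff.2 hzs.eq.symm)
    exact hcent _ hzH (fun e => by rw [e, orderOf_one] at hz; omega)
      (mem_centralizer_singleton_iff.2 hzu.eq)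
  -- a central involution of `H`
  obtain ⟨P, hPH, hP, hPall, -⟩ := NilpotentCover.exists_pGroup_of_mem (p := 2) hH.1
  obtain ⟨z, hzP, hzo, hzc⟩ := exists_central_invol hP (fun e => ht1 (mem_bot.1
    (e ▸ hPall t htH ⟨1, by rw [ht, pow_one]⟩)))
  have hzcent : ∀ w ∈ H, Commute w z := by
    intro w hw
    refine mem_centralizer_singleton_iff.1 (mem_of_prime_pow_mem fun q k hq y hy hyo =>
      mem_centralizer_singleton_iff.2 ?_)
    have hyH : y ∈ H := zpowers_le.2 hw hy
    by_cases hq2 : q = 2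
    · subst hq2
      exact (hzc y (hPall y hyH ⟨k, hyo⟩)).eq
    · exact (NilpotentCover.commute_of_coprime_mem hH.1 hyH (hPH hzP) (by
        rw [hyo, hzo]; exact ((Nat.coprime_primes hq Nat.prime_two).2 hq2).pow_left k)).eq
  have hTI : ∀ g : G, ∀ h ∈ H, h ≠ 1 → g * h * g⁻¹ ∈ H → g ∈ normalizer (H : Set G) := by
    intro g h hh hh1 hgh
    rw [mem_normalizer_iff_map_conj_eq]
    by_contra hne
    have hmem : g * h * g⁻¹ ∈ H ⊓ H.map (MulAut.conj g).toMonoidHom := ⟨hgh, h, hh, rfl⟩
    exact hh1 (conj_eq_one_iff.1 (mem_bot.1 ((hti g hne).le hmem)))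
  have hcentral : ∀ s ∈ H, orderOf s = 2 → ∀ w ∈ H, Commute w s := by
    intro s hs hso w hw
    obtain ⟨g, hg⟩ := isConj_iff.1 ((hone z (hPH hzP) hzo).trans (hone s hs hso).symm)
    have hz1 : z ≠ 1 := fun e => by rw [e, orderOf_one] at hzo; omega
    have hgN := hTI g z (hPH hzP) hz1 (hg.symm ▸ hs)
    have hc := hzcent _ ((mem_normalizer_iff''.1 hgN w).1 hw)
    rw [← hg]
    show w * (g * z * g⁻¹) = g * z * g⁻¹ * w
    calc w * (g * z * g⁻¹) = g * ((g⁻¹ * w * g) * z) * g⁻¹ := by group
      _ = g * (z * (g⁻¹ * w * g)) * g⁻¹ := by rw [hc.eq]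
      _ = g * z * g⁻¹ * w := by group
  have K : SEKernel H :=
    { proper := hNtop
      exists_invol := ⟨t, htH, ht⟩
      invol_mem := hinv
      invol_central := hcentral
      ti := hTI
      frob := fun m _ h hh hh1 hc => hcent h hh hh1 (mem_centralizer_singleton_iff.2 hc.eq) }
  exact hnp K.isPrimePow_card

end CfsgLib.CITGroups
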