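import Cfsg.Agent.CITGroups.SecondEA

/-!
# Elementary consequences of the coordinates
-/

set_option autoImplicit false
set_option linter.style.haveILetI false
set_option linter.unusedSectionVars false

namespace CfsgLib.CITGroups

open Subgroup
open scoped commutatorElement MatrixGroups
open CfsgLib.EPPOSeven (JT MaxPair omegaCentral)
open CfsgLib.PLocal.SL2 (up)

/-- A field of characteristic two in which inversion, read through an additive map, is additive has
at most four elements. -/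
theorem card_le_four {K L : Type*} [Field K] [Finite K] [Field L] (h2 : (2 : K) = 0) (Φ : K → L)
    (hadd : ∀ x y, Φ (x + y) = Φ x + Φ y) (hinj : Function.Injective Φ) (h1 : Φ 1 = 1)
    (hinv : ∀ x y, (Φ (x + y))⁻¹ = (Φ x)⁻¹ + (Φ y)⁻¹) : Nat.card K ≤ 4 := by
  classical
  haveI := Fintype.ofFinite K
  have h0 : Φ 0 = 0 := by simpa using hadd 0 0
  have hL2 : (2 : L) = 0 := by
    have := hadd 1 1
    rw [one_add_one_eq_two, h2, h0, h1, one_add_one_eq_two] at this
    exact this.symm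
  have key : ∀ x : K, x ≠ 0 → x ≠ 1 → Φ x * Φ x + Φ x + 1 = 0 := by
    intro x hx hx1
    have hy : Φ x ≠ 0 := fun e => hx (hinj (e.trans h0.symm))
    have hy1 : Φ x + 1 ≠ 0 := by
      intro e
      have h3 : Φ x = 1 := by linear_combination e - hL2
      exact hx1 (hinj (h3.trans h1.symm))
    have h := hinv x 1
    rw [hadd, h1, inv_one] at h
    field_simp at h
    linear_combination (-1 : L) * h + (Φ x ^ 2 + Φ x + 1) * 0 + 0 * hL2
  have hpair : ∀ x y : K, x ≠ 0 → x ≠ 1 → y ≠ 0 → y ≠ 1 → y = x ∨ y = x + 1 := by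
    intro x y hx hx1 hy hy1
    have h3 : (Φ y - Φ x) * (Φ y + Φ x + 1) = 0 := by
      linear_combination key y hy hy1 - key x hx hx1
    rcases mul_eq_zero.1 h3 with h | h
    · exact Or.inl (hinj (sub_eq_zero.1 h))
    · refine Or.inr (hinj ?_)
      rw [hadd, h1]
      linear_combination h - (Φ x + 1) * hL2
  by_contra hlt
  obtain ⟨x, hx⟩ : ∃ x : K, x ∉ ({0, 1} : Finset K) := by
    by_contra hall
    push Not at hall
    have h3 := Finset.card_le_card (s := (Finset.univ : Finset K)) fun x _ => hall x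
    have h4 : ({0, 1} : Finset K).card ≤ 2 := Finset.card_le_two
    rw [Finset.card_univ, ← Nat.card_eq_fintype_card] at h3
    omega
  simp only [Finset.mem_insert, Finset.mem_singleton, not_or] at hx
  have h3 := Finset.card_le_card (s := (Finset.univ : Finset K)) (t := {0, 1, x, x + 1}) fun y _ => by
    simp only [Finset.mem_insert, Finset.mem_singleton]
    by_cases hy : y = 0
    · exact Or.inl hy
    by_cases hy1 : y = 1
    · exact Or.inr (Or.inl hy1)
    exact Or.inr (Or.inr (hpair x y hx.1 hx.2 hy hy1))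
  have h4 : ({0, 1, x, x + 1} : Finset K).card ≤ 4 := Finset.card_le_four
  rw [Finset.card_univ, ← Nat.card_eq_fintype_card] at h3
  omega

variable {G : Type*} [Group G] [Finite G] {M : MaxPair G} {K : Type*} [Field K] (N : Natural M K)

namespace Natural

include N

theorem vec_one : N.vec 1 = 0 := by
  have := N.vec_mul 1 (one_mem _) 1 (one_mem _)
  rw [one_mul] at this
  exact add_eq_left.1 this.symm

theorem eq_one_of_vec {u : G} (hu : u ∈ M.D) (h : N.vec u = 0) : u = 1 :=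
  N.vec_inj u hu 1 (one_mem _) (h.trans N.vec_one.symm)

/-- `N` is transitive on the nontrivial elements of `D`. -/
theorem exists_conj {u v : G} (hu : u ∈ M.D) (hu1 : u ≠ 1) (hv : v ∈ M.D) (hv1 : v ≠ 1) :
    ∃ g ∈ M.N, g * u * g⁻¹ = v := by
  have key : ∀ w ∈ M.D, w ≠ 1 → ∃ g : M.N,
      (N.π g : Matrix (Fin 2) (Fin 2) K).mulVec ![1, 0] = N.vec w := by
    intro w hw hw1
    set x := N.vec w with hx
    have hx0 : x ≠ 0 := fun e => hw1 (N.eq_one_of_vec hw e)
    obtain ⟨A, hA⟩ : ∃ A : SL(2, K), (A : Matrix (Fin 2) (Fin 2) K).mulVec ![1, 0] = x := by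
      by_cases h0 : x 0 = 0
      · have h1 : x 1 ≠ 0 := fun e => hx0 (funext fun i => by fin_cases i <;> assumption)
        refine ⟨⟨!![0, -(x 1)⁻¹; x 1, 0], by simp [Matrix.det_fin_two, h1]⟩, ?_⟩
        ext i; fin_cases i <;> simp [Matrix.mulVec, dotProduct, Fin.sum_univ_two, h0]
      · refine ⟨⟨!![x 0, 0; x 1, (x 0)⁻¹], by simp [Matrix.det_fin_two, h0]⟩, ?_⟩
        ext i; fin_cases i <;> simp [Matrix.mulVec, dotProduct, Fin.sum_univ_two]
    obtain ⟨g, rfl⟩ := N.surj A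
    exact ⟨g, hA⟩
  obtain ⟨g, hg⟩ := key u hu hu1
  obtain ⟨g', hg'⟩ := key v hv hv1
  refine ⟨(g' * g⁻¹ : M.N), (g' * g⁻¹).2, N.vec_inj _ ((mem_normalizer_iff.1 (g' * g⁻¹).2 u).1 hu) _
    hv ?_⟩
  rw [N.vec_conj _ u hu, ← hg, Matrix.mulVec_mulVec, ← Matrix.SpecialLinearGroup.coe_mul, ← map_mul,
    inv_mul_cancel_right, hg']

/-- The first eigenvalue. -/
def eig (g : M.N) : K := (N.π g) 0 0

theorem eig_mul {g g' : M.N} (hg' : (g' : G) ∈ stab M) :
    N.eig (g * g') = N.eig g * N.eig g' := by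
  have h10 := (N.mem_stab g').1 hg'
  unfold eig
  rw [map_mul, CfsgLib.PLocal.SL2.mul_apply2, h10, mul_zero, add_zero]

theorem eig_ne_zero {g : M.N} (hg : (g : G) ∈ stab M) : N.eig g ≠ 0 := by
  intro e
  have hd := CfsgLib.PLocal.SL2.det2 (N.π g)
  unfold eig at e
  rw [e, (N.mem_stab g).1 hg] at hd
  simp at hd

theorem eig_one_iff {g : M.N} (hg : (g : G) ∈ stab M) : N.eig g = 1 ↔ (g : G) ∈ M.T := by
  rw [N.mem_T, (N.mem_stab g).1 hg]
  simp [eig]

theorem eig_inv {g : M.N} (hg : (g : G) ∈ stab M) : N.eig g⁻¹ = (N.eig g)⁻¹ := by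
  refine eq_inv_of_mul_eq_one_left ?_
  rw [← N.eig_mul hg, inv_mul_cancel]
  unfold eig
  rw [map_one]
  rfl

theorem exists_eig {c : K} (hc : c ≠ 0) : ∃ g : M.N, (g : G) ∈ stab M ∧ N.eig g = c := by
  obtain ⟨g, hg⟩ := N.surj ⟨!![c, 0; 0, c⁻¹], by simp [Matrix.det_fin_two, hc]⟩
  refine ⟨g, (N.mem_stab g).2 (by rw [hg]; rfl), ?_⟩
  unfold eig
  rw [hg]; rfl

/-- On the fixed points of `T` an element of `stab` multiplies by its eigenvalue. -/
theorem vec_conj_fix {g : M.N} {c : G} (hc : c ∈ M.D) (hcF : c ∈ fixT M) :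
    N.vec ((g : G) * c * (g : G)⁻¹) 0 = N.eig g * N.vec c 0 := by
  rw [N.vec_conj g c hc]
  simp [Matrix.mulVec, dotProduct, Fin.sum_univ_two, (N.mem_fix c hc).1 hcF, eig]

theorem eq_of_vec_fix {c c' : G} (hc : c ∈ fixT M) (hcD : c ∈ M.D) (hc' : c' ∈ fixT M)
    (hc'D : c' ∈ M.D) (h : N.vec c 0 = N.vec c' 0) : c = c' := by
  refine N.vec_inj c hcD c' hc'D (funext fun i => ?_)
  fin_cases i
  · exact h
  · exact ((N.mem_fix c hcD).1 hc).trans ((N.mem_fix c' hc'D).1 hc').symm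

theorem exists_fix (x : K) : ∃ c ∈ fixT M, c ∈ M.D ∧ N.vec c 0 = x ∧ N.vec c 1 = 0 := by
  obtain ⟨u, hu, hvec⟩ := N.vec_surj ![x, 0]
  refine ⟨u, (N.mem_fix u hu).2 (by rw [hvec]; rfl), hu, by rw [hvec]; rfl, by rw [hvec]; rfl⟩

theorem normalizer_T_inf {g : G} (hg : g ∈ M.N) (hgT : g ∈ normalizer (M.T : Set G)) :
    g ∈ stab M := by
  obtain ⟨t, ht⟩ := N.surj (up 1)
  have htT : (t : G) ∈ M.T := (N.mem_T t).2 (by rw [ht]; exact ⟨rfl, rfl⟩)
  have h1 := (N.mem_T (⟨g, hg⟩ * t * ⟨g, hg⟩⁻¹)).1 ((mem_normalizer_iff.1 hgT _).1 htT)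
  rw [map_mul, map_mul, map_inv, ht, CfsgLib.PLocal.SL2.conj_up_apply] at h1
  exact (N.mem_stab ⟨g, hg⟩).2 (by simpa using h1.1)

end Natural

end CfsgLib.CITGroups
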