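import Cfsg.Agent.CITGroups.Basic
import Cfsg.Agent.EPPOSeven.Pairs

/-!
# The two configurations left by the local analysis of groups with two-group involution centralisers

`FourFrame` is the configuration of `PSL₃` over four elements, `TwoFrame` the one leading to a
self-centralising four group.
-/

set_option autoImplicit false
set_option linter.style.haveILetI false

namespace CfsgLib.CITGroups

open Subgroup

variable {G : Type*} [Group G]

/-- A Sylow two-subgroup `T` of order `64`, product of two elementary subgroups of order `16`. -/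
structure FourFrame (T V A : Subgroup G) : Prop where
  cit : IsCIT G
  card_T : Nat.card T = 64
  odd_index : Odd T.index
  card_V : Nat.card V = 16
  card_A : Nat.card A = 16
  sq_V : ∀ v ∈ V, v * v = 1
  sq_A : ∀ a ∈ A, a * a = 1
  sup_eq : V ⊔ A = T
  card_inf : Nat.card ↥(V ⊓ A) = 4
  normal_V : T ≤ normalizer (V : Set G)
  normal_A : T ≤ normalizer (A : Set G)
  invol : ∀ t ∈ T, t * t = 1 → t ∈ V ∨ t ∈ A
  not_commute : ∀ v ∈ V, v ∉ A → ∀ a ∈ A, a ∉ V → ¬ Commute v a
  centralizer_eq : ∀ c ∈ V ⊓ A, c ≠ 1 → centralizer ({c} : Set G) = T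
  isConj : ∀ s t : G, orderOf s = 2 → orderOf t = 2 → IsConj s t
  card_normalizer_V : Nat.card (normalizer (V : Set G)) = 960
  card_normalizer_A : Nat.card (normalizer (A : Set G)) = 960
  card_normalizer_T : Nat.card (normalizer (T : Set G)) = 192
  normalizer_T_le_V : normalizer (T : Set G) ≤ normalizer (V : Set G)
  normalizer_T_le_A : normalizer (T : Set G) ≤ normalizer (A : Set G)

/-- A bad pair of Sylow subgroups whose local subgroup is a two-group by `S₃`. -/
structure TwoFrame [Finite G] (M : CfsgLib.EPPOSeven.MaxPair G) (V : Subgroup G) : Prop where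
  cit : IsCIT G
  le_D : V ≤ M.D
  central : ∀ v ∈ V, v * v = 1 ∧ ∀ d ∈ M.D, d * v = v * d
  omega_central : ∀ v ∈ M.D, v * v = 1 → (∀ d ∈ M.D, d * v = v * d) → v ∈ V
  card_V : Nat.card V = 4
  normal_V : M.N ≤ normalizer (V : Set G)
  card_N : Nat.card M.N = 6 * Nat.card M.D
  normalizer_eq : ∀ X : Subgroup G, X ≠ ⊥ → X ≤ M.D → M.N ≤ normalizer (X : Set G) →
    normalizer (X : Set G) = M.N
  exists_maxEA : ∃ A ∈ CfsgLib.PLocal.maxEAIn 2 M.T, ¬ A ≤ M.D

end CfsgLib.CITGroups
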