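import Cfsg.Agent.CITGroups.Involutions
import Cfsg.Agent.PLocal.Replacement
import Cfsg.Agent.PLocal.Thompson

/-!
# Elementary offenders in groups with two-group involution centralisers

`U` is an elementary abelian two-subgroup normalised by `W` whose centraliser `E` in `W` is the
largest normal two-subgroup of `W`.
-/

set_option autoImplicit false
set_option linter.style.haveILetI false
set_option linter.unusedSectionVars false

namespace CfsgLib.CITGroups

open Subgroup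
open scoped commutatorElement Pointwise

variable {G : Type*} [Group G]

/-- A module for the offender lemma. -/
structure FFModule (W U : Subgroup G) : Prop where
  cit : IsCIT G
  sq : ∀ u ∈ U, u * u = 1
  ne_bot : U ≠ ⊥
  normal : W ≤ normalizer (U : Set G)
  two : IsPGroup 2 ↥(W ⊓ centralizer (U : Set G))
  core : ∀ P : Subgroup G, P ≤ W → W ≤ normalizer (P : Set G) → IsPGroup 2 P →
    P ≤ W ⊓ centralizer (U : Set G)

theorem comm_of_sq {U : Subgroup G} (h : ∀ u ∈ U, u * u = 1) {u v : G} (hu : u ∈ U) (hv : v ∈ U) :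
    u * v = v * u := by
  calc u * v = (u * v)⁻¹ := (inv_eq_of_mul_eq_one_right (h _ (mul_mem hu hv))).symm
    _ = v⁻¹ * u⁻¹ := mul_inv_rev u v
    _ = v * u := by
      rw [inv_eq_of_mul_eq_one_right (h _ hu), inv_eq_of_mul_eq_one_right (h _ hv)]

variable [Finite G]

theorem isPGroup_two_of_sq {U : Subgroup G} (h : ∀ u ∈ U, u * u = 1) : IsPGroup 2 U :=
  fun g => ⟨1, Subtype.ext (by
    show ((g : G)) ^ 2 ^ 1 = 1
    rw [pow_one, pow_two]
    exact h g g.2)⟩

namespace FFModule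

variable {W U : Subgroup G} (F : FFModule W U)
include F

local notation "E" => W ⊓ centralizer (U : Set G)
local notation "Fix" a:max => U ⊓ centralizer ({a} : Set G)

theorem comm {u v : G} (hu : u ∈ U) (hv : v ∈ U) : u * v = v * u := comm_of_sq F.sq hu hv

theorem inv_eq {u : G} (hu : u ∈ U) : u⁻¹ = u := inv_eq_of_mul_eq_one_right (F.sq u hu)

theorem le_normalizer_E : W ≤ normalizer ((E : Subgroup G) : Set G) := by
  have key : ∀ w ∈ W, ∀ e ∈ E, w * e * w⁻¹ ∈ E := fun w hw e he => by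
    refine Subgroup.mem_inf.2 ⟨W.mul_mem (W.mul_mem hw he.1) (W.inv_mem hw),
      mem_centralizer_iff.2 fun u hu => ?_⟩
    have hu' := mem_centralizer_iff.1 he.2 _ ((mem_normalizer_iff''.1 (F.normal hw) u).1 hu)
    calc u * (w * e * w⁻¹) = w * ((w⁻¹ * u * w) * e) * w⁻¹ := by group
      _ = w * (e * (w⁻¹ * u * w)) * w⁻¹ := by rw [hu']
      _ = w * e * w⁻¹ * u := by group
  exact fun w hw => mem_normalizer_iff.2 fun e => ⟨key w hw e, fun he => by
    simpa [mul_assoc] using key w⁻¹ (inv_mem hw) _ he⟩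

theorem conj_eq_of_mem {e : G} (he : e ∈ E) {u : G} (hu : u ∈ U) : e * u * e⁻¹ = u := by
  rw [← mem_centralizer_iff.1 he.2 u hu, mul_inv_cancel_right]

/-- The fixed points of an involution modulo `E` have the square root of the order of `U`. -/
theorem sq_card {a : G} (ha : a ∈ W) (haE : a ∉ E) (ha2 : a * a ∈ E) :
    Nat.card ↥(Fix a) * Nat.card ↥(Fix a) = Nat.card U ∧
      ∀ c ∈ Fix a, ∃ u ∈ U, u * (a * u * a⁻¹) = c := by
  classical
  haveI : Fact (Nat.Prime 2) := ⟨Nat.prime_two⟩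
  obtain ⟨p, y, hp, hp2, hy, hyW, hay⟩ :=
    exists_inverted inf_le_left F.le_normalizer_E F.two F.core ha haE ha2
  obtain ⟨e, he, hx2, hxy⟩ := F.cit.exists_inverting F.two hp hp2 hy (F.le_normalizer_E hyW)
    (F.le_normalizer_E ha) ha2 hay
  set x := a * e with hx
  have hxu : ∀ u ∈ U, x * u * x⁻¹ = a * u * a⁻¹ := fun u hu => by
    calc x * u * x⁻¹ = a * (e * u * e⁻¹) * a⁻¹ := by rw [hx]; group
      _ = _ := by rw [F.conj_eq_of_mem he hu]
  have hfix : ∀ u ∈ Fix a, a * u * a⁻¹ = u := fun u hu => by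
    rw [← mem_centralizer_singleton_iff.1 hu.2, mul_inv_cancel_right]
  have hyodd := odd_orderOf_of_prime hp hp2 hy
  have hy1 : y ≠ 1 := fun h => hp.one_lt.ne' (by rw [← hy, h, orderOf_one])
  let f : ↥(Fix a) × ↥(Fix a) → U := fun q =>
    ⟨(q.1 : G) * (y * q.2 * y⁻¹), mul_mem q.1.2.1 ((mem_normalizer_iff.1 (F.normal hyW) _).1 q.2.2.1)⟩
  have hf : Function.Injective f := by
    rintro ⟨c, d⟩ ⟨c', d'⟩ h
    have h1 : (c : G) * (y * d * y⁻¹) = c' * (y * d' * y⁻¹) := congrArg Subtype.val h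
    set c₀ := (c' : G)⁻¹ * c with hc₀
    set d₀ := (d' : G) * (d : G)⁻¹ with hd₀
    have hcd : c₀ = y * d₀ * y⁻¹ := by
      calc (c' : G)⁻¹ * c = (c' : G)⁻¹ * ((c : G) * (y * d * y⁻¹)) * (y * (d : G)⁻¹ * y⁻¹) := by group
        _ = (c' : G)⁻¹ * ((c' : G) * (y * d' * y⁻¹)) * (y * (d : G)⁻¹ * y⁻¹) := by rw [h1]
        _ = _ := by rw [hd₀]; group
    have hc₀m : c₀ ∈ Fix a := mul_mem (inv_mem c'.2) c.2
    have hd₀m : d₀ ∈ Fix a := mul_mem d'.2 (inv_mem d.2)
    have h2 : c₀ = y⁻¹ * d₀ * y := by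
      calc c₀ = x * c₀ * x⁻¹ := by rw [hxu _ hc₀m.1, hfix _ hc₀m]
        _ = (x * y * x⁻¹) * (x * d₀ * x⁻¹) * (x * y * x⁻¹)⁻¹ := by rw [hcd]; group
        _ = y⁻¹ * d₀ * y := by rw [hxy, hxu _ hd₀m.1, hfix _ hd₀m, inv_inv]
    have hcom : Commute (y * y) d₀ := by
      show y * y * d₀ = d₀ * (y * y)
      calc y * y * d₀ = y * (y * d₀ * y⁻¹) * y := by group
        _ = y * (y⁻¹ * d₀ * y) * y := by rw [← hcd, h2]
        _ = d₀ * (y * y) := by group
    have hd1 : d₀ = 1 := by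
      refine F.cit.eq_one_of_mem (isPGroup_two_of_sq F.sq) hd₀m.1 ?_ ?_ hcom
      · rw [← pow_two, Nat.Coprime.orderOf_pow]
        · exact hyodd
        · exact hyodd.coprime_two_right
      · intro h2'
        have : orderOf y ∣ 2 := orderOf_dvd_of_pow_eq_one (by rw [pow_two, h2'])
        rw [hy] at this
        exact hp2 ((Nat.prime_dvd_prime_iff_eq hp Nat.prime_two).1 this)
    have hc1 : c₀ = 1 := by rw [hcd, hd1]; group
    exact Prod.ext (Subtype.ext (inv_mul_eq_one.1 hc1).symm)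
      (Subtype.ext (mul_inv_eq_one.1 hd1).symm)
  have hle : Nat.card ↥(Fix a) * Nat.card ↥(Fix a) ≤ Nat.card U := by
    rw [← Nat.card_prod]; exact Nat.card_le_card_of_injective f hf
  have haU : ∀ u : U, a * (u : G) * a⁻¹ ∈ U := fun u =>
    (mem_normalizer_iff.1 (F.normal ha) _).1 u.2
  let φ : U →* U := MonoidHom.mk' (fun u => ⟨(u : G) * (a * u * a⁻¹), mul_mem u.2 (haU u)⟩)
    fun u v => Subtype.ext (by
      show (u : G) * v * (a * ((u : G) * v) * a⁻¹) = u * (a * u * a⁻¹) * (v * (a * v * a⁻¹))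
      rw [show a * ((u : G) * v) * a⁻¹ = (a * u * a⁻¹) * (a * v * a⁻¹) by group, mul_assoc,
        ← mul_assoc (v : G), F.comm v.2 (haU u)]
      simp only [mul_assoc])
  have hker : Nat.card φ.ker = Nat.card ↥(Fix a) := by
    refine Nat.card_congr ⟨fun u => ⟨((u : U) : G), (u : U).2, mem_centralizer_singleton_iff.2 ?_⟩,
      fun u => ⟨⟨u, u.2.1⟩, Subtype.ext ?_⟩, fun _ => rfl, fun _ => rfl⟩
    · have h1 : ((u : U) : G) * (a * (u : U) * a⁻¹) = 1 := congrArg Subtype.val u.2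
      have := eq_inv_of_mul_eq_one_right h1
      rw [F.inv_eq (u : U).2, mul_inv_eq_iff_eq_mul] at this
      exact this.symm
    · show (u : G) * (a * u * a⁻¹) = 1
      rw [hfix _ u.2, F.sq _ u.2.1]
  have hrange : φ.range.map U.subtype ≤ Fix a := by
    rintro _ ⟨_, ⟨u, rfl⟩, rfl⟩
    refine ⟨(φ u).2, mem_centralizer_singleton_iff.2 ?_⟩
    show (u : G) * (a * u * a⁻¹) * a = a * ((u : G) * (a * u * a⁻¹))
    have e2 : a * (a * (u : G) * a⁻¹) * a⁻¹ = u := by
      rw [show a * (a * (u : G) * a⁻¹) * a⁻¹ = (a * a) * u * (a * a)⁻¹ by group,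
        F.conj_eq_of_mem ha2 u.2]
    calc (u : G) * (a * u * a⁻¹) * a = a * (u : G) * a⁻¹ * u * a := by rw [F.comm u.2 (haU u)]
      _ = a * (u : G) * a⁻¹ * (a * (a * (u : G) * a⁻¹) * a⁻¹) * a := by rw [e2]
      _ = a * ((u : G) * (a * u * a⁻¹)) := by group
  have hrc : Nat.card ↥(φ.range.map U.subtype) = Nat.card φ.range :=
    card_map_of_injective U.subtype_injective
  have hmul : Nat.card U = Nat.card φ.ker * Nat.card φ.range := by
    rw [← φ.ker.card_mul_index, index_ker]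
  have hrle : Nat.card φ.range ≤ Nat.card ↥(Fix a) := hrc ▸ card_le_of_le hrange
  have heq : Nat.card φ.range = Nat.card ↥(Fix a) :=
    le_antisymm hrle (Nat.le_of_mul_le_mul_left (hle.trans (by rw [hmul, hker])) Nat.card_pos)
  refine ⟨by rw [hmul, hker, heq], fun c hc => ?_⟩
  have := eq_of_le_of_card_ge hrange (by rw [hrc, heq])
  rw [← this] at hc
  obtain ⟨_, ⟨u, rfl⟩, rfl⟩ := hc
  exact ⟨u, u.2, rfl⟩

theorem card_fix_eq {a b : G} (ha : a ∈ W) (haE : a ∉ E) (ha2 : a * a ∈ E) (hb : b ∈ W)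
    (hbE : b ∉ E) (hb2 : b * b ∈ E) : Nat.card ↥(Fix a) = Nat.card ↥(Fix b) :=
  Nat.mul_self_inj.1 ((F.sq_card ha haE ha2).1.trans (F.sq_card hb hbE hb2).1.symm)

/-- `|B : B ∩ E|` is at most the order of `K` when `B` acts with values in `K` on a vector only
fixed by `E`. -/
theorem card_le_of_hom {B K : Subgroup G} (hBW : B ≤ W) {u : G} (hu : u ∈ U)
    (hKB : ∀ k ∈ K, ∀ β ∈ B, β * k * β⁻¹ = k) (hval : ∀ β ∈ B, u * (β * u * β⁻¹) ∈ K)
    (hfree : ∀ β ∈ B, β * u * β⁻¹ = u → β ∈ E) :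
    Nat.card B ≤ Nat.card ↥(B ⊓ (E)) * Nat.card K := by
  let φ : B →* K := MonoidHom.mk' (fun β => ⟨u * (β * u * (β : G)⁻¹), hval β β.2⟩)
    fun β γ => Subtype.ext (by
      show u * ((β : G) * γ * u * ((β : G) * γ)⁻¹) =
        u * (β * u * (β : G)⁻¹) * (u * (γ * u * (γ : G)⁻¹))
      set k := u * ((γ : G) * u * (γ : G)⁻¹) with hk
      have hk' : (γ : G) * u * (γ : G)⁻¹ = u * k := by rw [hk, ← mul_assoc u u, F.sq u hu, one_mul]
      calc u * ((β : G) * γ * u * ((β : G) * γ)⁻¹)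
          = u * ((β : G) * ((γ : G) * u * (γ : G)⁻¹) * (β : G)⁻¹) := by group
        _ = u * (((β : G) * u * (β : G)⁻¹) * ((β : G) * k * (β : G)⁻¹)) := by rw [hk']; group
        _ = u * (β * u * (β : G)⁻¹) * k := by rw [hKB k (hval γ γ.2) β β.2]; group)
  calc Nat.card B = Nat.card φ.ker * Nat.card φ.range := by rw [← φ.ker.card_mul_index, index_ker]
    _ ≤ Nat.card ↥(B ⊓ (E)) * Nat.card K := by
      refine Nat.mul_le_mul ?_ (Nat.card_le_card_of_injective _ Subtype.val_injective)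
      refine Nat.card_le_card_of_injective (fun β : φ.ker =>
        (⟨((β : B) : G), (β : B).2, hfree _ (β : B).2 ?_⟩ : ↥(B ⊓ (E)))) ?_
      · have h1 : u * (((β : B) : G) * u * ((β : B) : G)⁻¹) = 1 := congrArg Subtype.val β.2
        exact (eq_inv_of_mul_eq_one_right h1).trans (F.inv_eq hu)
      · intro β γ h
        exact Subtype.ext (Subtype.ext (congrArg (fun z : ↥(B ⊓ (E)) => (z : G)) h))

/-- An elementary offender: all its elements outside `E` have the same fixed points `C`, of the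
square root order, and `|A : A ∩ E| = |C|`. -/
theorem offender {A : Subgroup G} (hAW : A ≤ W) (hA : ∀ a ∈ A, a * a = 1) (hAE : ¬ A ≤ E)
    (hoff : Nat.card ↥(A ⊓ (E)) * Nat.card U ≤
      Nat.card A * Nat.card ↥(U ⊓ centralizer (A : Set G))) :
    Nat.card ↥(U ⊓ centralizer (A : Set G)) * Nat.card ↥(U ⊓ centralizer (A : Set G)) =
        Nat.card U ∧
      Nat.card A = Nat.card ↥(A ⊓ (E)) * Nat.card ↥(U ⊓ centralizer (A : Set G)) ∧
      (∀ a ∈ A, a ∉ E → Fix a = U ⊓ centralizer (A : Set G)) ∧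
      ∀ b ∈ W, b ∉ E → b * b ∈ E → (∀ a ∈ A, ⁅b, a⁆ ∈ E) →
        Fix b = U ⊓ centralizer (A : Set G) := by
  classical
  haveI : Fact (Nat.Prime 2) := ⟨Nat.prime_two⟩
  have hUc : IsMulCommutative U := ⟨⟨fun u v => Subtype.ext (F.comm u.2 v.2)⟩⟩
  have hUE : ∀ B : Subgroup G, B ≤ E → U ⊓ centralizer (B : Set G) = U := fun B hB =>
    inf_eq_left.2 fun u hu => mem_centralizer_iff.2 fun β hβ =>
      (mem_centralizer_iff.1 (hB hβ).2 u hu).symm
  let w : Subgroup G → ℕ := fun B => CfsgLib.PLocal.offenderWeight U B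
  have hw0 : ∀ B : Subgroup G, B ≤ A → B ≤ E → w B ≤ Nat.card ↥(A ⊓ (E)) * Nat.card U := by
    intro B hBA hBE
    show Nat.card B * Nat.card ↥(U ⊓ centralizer (B : Set G)) ≤ _
    rw [hUE B hBE]
    exact Nat.mul_le_mul_right _ (card_le_of_le (le_inf hBA hBE))
  -- a smallest subgroup of `A` of largest weight outside `E`
  obtain ⟨B₁, hB₁A, hB₁⟩ : ∃ B, B ≤ A ∧ ∀ X ≤ A, w X ≤ w B := by
    obtain ⟨B, hB, hmax⟩ := Set.exists_max_image {X : Subgroup G | X ≤ A} w (Set.toFinite _)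
      ⟨A, show A ≤ A from le_rfl⟩
    exact ⟨B, hB, hmax⟩
  let S : Set (Subgroup G) := {B | B ≤ A ∧ ¬ B ≤ E ∧ ∀ X ≤ A, w X ≤ w B}
  have hS : S.Nonempty := by
    by_cases h : B₁ ≤ E
    · exact ⟨A, le_rfl, hAE, fun X hX => (hB₁ X hX).trans ((hw0 B₁ hB₁A h).trans hoff)⟩
    · exact ⟨B₁, hB₁A, h, hB₁⟩
  obtain ⟨B, ⟨hBA, hBE, hBmax⟩, hBmin⟩ :=
    Set.exists_min_image S (fun X : Subgroup G => Nat.card X) (Set.toFinite _) hS
  have hBW := hBA.trans hAW
  have hBU : B ≤ normalizer (U : Set G) := hBW.trans F.normal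
  have hBc : ∀ β ∈ B, ∀ γ ∈ B, β * γ = γ * β := fun β hβ γ hγ =>
    comm_of_sq hA (hBA hβ) (hBA hγ)
  have hBab : ⁅B, B⁆ ≤ centralizer (U : Set G) := by
    rw [(CfsgLib.PLocal.commutator_eq_bot_iff_forall).2 hBc]
    exact bot_le
  obtain ⟨hrw, hrC⟩ := CfsgLib.PLocal.replacement hUc hBU hBab
    (fun X hX => hBmax X (hX.trans hBA)) (le_refl U)
  set C := U ⊓ centralizer (B : Set G) with hC
  set X := ⁅U, B⁆ with hX
  set B₀ := B ⊓ centralizer (X : Set G) with hB₀
  have hXU : X ≤ U := commutator_le.2 fun u hu β hβ =>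
    CfsgLib.PLocal.commutatorElement_mem hu (hBU hβ)
  have hCfix : ∀ c ∈ C, ∀ β ∈ B, β * c * β⁻¹ = c := fun c hc β hβ => by
    rw [mem_centralizer_iff.1 hc.2 β hβ, mul_inv_cancel_right]
  have hquad : X ≤ C := by
    refine le_inf hXU fun x hx => mem_centralizer_iff.2 fun β hβ => ?_
    have hB₀B : B₀ = B := by
      by_contra hne
      have hB₀E : B₀ ≤ E := by
        by_contra hB₀E
        refine hne (eq_of_le_of_card_ge inf_le_left (hBmin B₀ ⟨inf_le_left.trans hBA, hB₀E,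
          fun Y hY => ?_⟩))
        show w Y ≤ CfsgLib.PLocal.offenderWeight U B₀
        rw [hrw]
        exact hBmax Y hY
      rw [hUE B₀ hB₀E] at hrC
      -- then `U = [U,B] C`, so `[U,B]` is trivial
      have hXn : B ≤ normalizer (X : Set G) := by
        intro b hb
        refine mem_normalizer_iff_map_conj_eq.2 ?_
        rw [hX, map_commutator, mem_normalizer_iff_map_conj_eq.1 (hBU hb),
          mem_normalizer_iff_map_conj_eq.1 (le_normalizer hb)]
      have hpow : ∀ b ∈ B, b ^ 2 ∈ centralizer (X : Set G) := fun b hb => by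
        rw [pow_two, hA b (hBA hb)]; exact one_mem _
      have hXX : X ≤ ⁅X, B⁆ := by
        refine commutator_le.2 fun u hu β hβ => ?_
        have hCn : X ≤ normalizer (C : Set G) := fun x hx => mem_normalizer_iff.2 fun c => by
          constructor
          · intro hc
            rwa [F.comm (hXU hx) hc.1, mul_inv_cancel_right]
          · intro hc
            have h1 : x⁻¹ * (x * c * x⁻¹) * x = c := by group
            rw [F.comm (inv_mem (hXU hx)) hc.1, inv_mul_cancel_right] at h1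
            rwa [h1] at hc
        rw [hrC] at hu
        obtain ⟨x, hx, c, hc, rfl⟩ : u ∈ ((X : Set G) * (C : Set G)) := by
          rw [← Subgroup.coe_mul_of_left_le_normalizer_right X C hCn]
          exact hu
        rw [show ⁅x * c, β⁆ = ⁅x, β⁆ by
          rw [commutatorElement_def, commutatorElement_def,
            show x * c * β * (x * c)⁻¹ * β⁻¹ = x * (c * β) * c⁻¹ * x⁻¹ * β⁻¹ by group,
            ← mem_centralizer_iff.1 hc.2 β hβ, ← mul_assoc, mul_inv_cancel_right]]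
        exact commutator_mem_commutator hx hβ
      have hX1 := CfsgLib.PLocal.eq_bot_of_le_commutator ((isPGroup_two_of_sq F.sq).to_le hXU)
        hXn hpow hXX
      apply hne
      rw [hB₀, hX1, inf_eq_left]
      intro b _
      exact mem_centralizer_iff.2 fun y hy => by rw [mem_bot.1 hy, one_mul, mul_one]
    have := (hB₀B ▸ hβ : β ∈ B₀).2
    exact (mem_centralizer_iff.1 this x hx).symm
  -- all elements of `B` outside `E` have fixed points `C`
  have hBfix : ∀ β ∈ B, β ∉ E → Fix β = C := by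
    intro β hβ hβE
    refine le_antisymm (fun c hc => ?_) (le_inf inf_le_left fun c hc =>
      mem_centralizer_singleton_iff.2 (mem_centralizer_iff.1 hc.2 β hβ).symm)
    obtain ⟨u, hu, rfl⟩ := (F.sq_card (hBW hβ) hβE (by rw [hA β (hBA hβ)]; exact one_mem _)).2 c hc
    refine hquad ?_
    rw [show u * (β * u * β⁻¹) = ⁅u, β⁆ by
      rw [commutatorElement_def, F.inv_eq hu]; group]
    exact commutator_mem_commutator hu hβ
  obtain ⟨b₀, hb₀, hb₀E⟩ := SetLike.not_le_iff_exists.1 hBE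
  have hb₀2 : b₀ * b₀ ∈ E := by rw [hA b₀ (hBA hb₀)]; exact one_mem _
  have hCsq : Nat.card C * Nat.card C = Nat.card U := by
    rw [← hBfix b₀ hb₀ hb₀E]
    exact (F.sq_card (hBW hb₀) hb₀E hb₀2).1
  have hBlow : Nat.card ↥(B ⊓ (E)) * Nat.card C ≤ Nat.card B := by
    have h1 : w (B ⊓ (E)) ≤ w B := hBmax _ (inf_le_left.trans hBA)
    have h2 : Nat.card ↥(B ⊓ (E)) * Nat.card U ≤ Nat.card B * Nat.card C := by
      have h3 := hUE (B ⊓ (E)) inf_le_right
      simp only [w, CfsgLib.PLocal.offenderWeight, h3] at h1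
      exact h1
    rw [← hCsq, ← mul_assoc] at h2
    exact Nat.le_of_mul_le_mul_right h2 Nat.card_pos
  have hgen : ∀ b ∈ W, b ∉ E → b * b ∈ E → (∀ β ∈ B, ⁅b, β⁆ ∈ E) → Fix b = C := by
    intro b hb hbE hb2 hcomm
    have hcard : Nat.card ↥(Fix b) = Nat.card C := by
      rw [← hBfix b₀ hb₀ hb₀E]
      exact F.card_fix_eq hb hbE hb2 (hBW hb₀) hb₀E hb₀2
    by_cases hle : Fix b ≤ C
    · exact eq_of_le_of_card_ge hle hcard.ge
    obtain ⟨u, hu, huC⟩ := SetLike.not_le_iff_exists.1 hle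
    set K := C ⊓ Fix b with hK
    have hbu : b * u * b⁻¹ = u := by
      rw [← mem_centralizer_singleton_iff.1 hu.2, mul_inv_cancel_right]
    have hmain : Nat.card B ≤ Nat.card ↥(B ⊓ (E)) * Nat.card K := by
      refine F.card_le_of_hom hBW hu.1 (fun k hk => hCfix k hk.1) (fun β hβ => ?_) (fun β hβ hβu => ?_)
      · have hu' : β * u * β⁻¹ ∈ U := (mem_normalizer_iff.1 (hBU hβ) u).1 hu.1
        refine ⟨?_, mul_mem hu.1 hu', mem_centralizer_singleton_iff.2 ?_⟩
        · refine hquad ?_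
          rw [show u * (β * u * β⁻¹) = ⁅u, β⁆ by
            rw [commutatorElement_def, F.inv_eq hu.1]; group]
          exact commutator_mem_commutator hu.1 hβ
        · have hbu' : b * (β * u * β⁻¹) * b⁻¹ = β * u * β⁻¹ := by
            calc b * (β * u * β⁻¹) * b⁻¹ = ⁅b, β⁆ * (β * (b * u * b⁻¹) * β⁻¹) * ⁅b, β⁆⁻¹ := by
                  rw [commutatorElement_def]; group
              _ = β * u * β⁻¹ := by rw [hbu, F.conj_eq_of_mem (hcomm β hβ) hu']
          have : b * (u * (β * u * β⁻¹)) * b⁻¹ = u * (β * u * β⁻¹) := by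
            rw [show b * (u * (β * u * β⁻¹)) * b⁻¹ = (b * u * b⁻¹) * (b * (β * u * β⁻¹) * b⁻¹) by
              group, hbu, hbu']
          exact (mul_inv_eq_iff_eq_mul.1 this).symm
      · by_contra hβE
        refine huC ?_
        rw [← hBfix β hβ hβE]
        exact ⟨hu.1, mem_centralizer_singleton_iff.2 (mul_inv_eq_iff_eq_mul.1 hβu).symm⟩
    have hCK : Nat.card C ≤ Nat.card K :=
      Nat.le_of_mul_le_mul_left (hBlow.trans hmain) Nat.card_pos
    have h1 := eq_of_le_of_card_ge (inf_le_left : K ≤ C) hCK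
    exact (eq_of_le_of_card_ge (inf_eq_left.1 h1) hcard.le).symm
  have hAfix : ∀ a ∈ A, a ∉ E → Fix a = C := fun a ha haE =>
    hgen a (hAW ha) haE (by rw [hA a ha]; exact one_mem _) fun β hβ => by
      rw [commutatorElement_eq_one_iff_mul_comm.2 (comm_of_sq hA ha (hBA hβ))]
      exact one_mem _
  have hCA : U ⊓ centralizer (A : Set G) = C := by
    refine le_antisymm (CfsgLib.PLocal.inf_centralizer_mono U hBA) (le_inf inf_le_left fun c hc => ?_)
    refine mem_centralizer_iff.2 fun a ha => ?_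
    by_cases haE : a ∈ E
    · exact (mem_centralizer_iff.1 haE.2 c hc.1).symm
    · exact (mem_centralizer_singleton_iff.1 (hAfix a ha haE ▸ hc).2).symm
  rw [hCA]
  refine ⟨hCsq, le_antisymm ?_ ?_, hAfix, fun b hb hbE hb2 h =>
    hgen b hb hbE hb2 fun β hβ => h β (hBA hβ)⟩
  · -- at most `|C|` cosets
    have hne : ¬ U ≤ C := fun h => by
      have hc : Nat.card C = Nat.card U := le_antisymm (card_le_of_le inf_le_left) (card_le_of_le h)
      rw [hc] at hCsq
      exact F.ne_bot (card_eq_one.1 (Nat.eq_of_mul_eq_mul_left Nat.card_pos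
        (hCsq.trans (mul_one _).symm)))
    obtain ⟨u, hu, huC⟩ := SetLike.not_le_iff_exists.1 hne
    refine F.card_le_of_hom hAW hu (fun k hk a ha => ?_) (fun a ha => ?_) (fun a ha hau => ?_)
    · rw [← hCA] at hk
      rw [mem_centralizer_iff.1 hk.2 a ha, mul_inv_cancel_right]
    · by_cases haE : a ∈ E
      · rw [F.conj_eq_of_mem haE hu, F.sq u hu]; exact one_mem _
      · have hu' : a * u * a⁻¹ ∈ U := (mem_normalizer_iff.1 (F.normal (hAW ha)) u).1 hu
        rw [← hAfix a ha haE]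
        refine ⟨mul_mem hu hu', mem_centralizer_singleton_iff.2 ?_⟩
        have hai : a⁻¹ = a := inv_eq_of_mul_eq_one_right (hA a ha)
        calc u * (a * u * a⁻¹) * a = a * u * a⁻¹ * u * a := by rw [F.comm hu hu']
          _ = a * (u * (a * u * a⁻¹)) := by
              simp only [hai, mul_assoc]
    · by_contra haE
      refine huC ?_
      rw [← hAfix a ha haE]
      exact ⟨hu, mem_centralizer_singleton_iff.2 (mul_inv_eq_iff_eq_mul.1 hau).symm⟩
  · -- at least `|C|` cosets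
    rw [← hCsq, hCA, ← mul_assoc] at hoff
    exact Nat.le_of_mul_le_mul_right hoff Nat.card_pos

/-- A maximal elementary subgroup of a two-group containing `U` is an offender. -/
theorem offender_of_maxEA {Z A : Subgroup G} (hUZ : U ≤ Z) (hZW : Z ≤ W)
    (hA : A ∈ CfsgLib.PLocal.maxEAIn 2 Z) :
    Nat.card ↥(A ⊓ (E)) * Nat.card U ≤ Nat.card A * Nat.card ↥(U ⊓ centralizer (A : Set G)) := by
  obtain ⟨hAZ, hAea, hAmax⟩ := hA
  have hcA : ∀ x ∈ A, ∀ y ∈ A, x * y = y * x := fun x hx y hy =>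
    congrArg Subtype.val (hAea.1.is_comm.comm ⟨x, hx⟩ ⟨y, hy⟩)
  have hUea : Cfsg.IsElementaryAbelian 2 U :=
    ⟨⟨⟨fun u v => Subtype.ext (F.comm u.2 v.2)⟩⟩, fun u hu => by rw [pow_two]; exact F.sq u hu⟩
  have hea : Cfsg.IsElementaryAbelian 2 (A ⊓ (E) ⊔ U) :=
    CfsgLib.PLocal.isElementaryAbelian_sup
      (CfsgLib.PLocal.isElementaryAbelian_of_le hAea (show A ⊓ (E) ≤ A from inf_le_left))
      hUea fun x hx u hu => mem_centralizer_iff.1 hx.2.2 u hu
  have h1 := hAmax _ (sup_le (inf_le_left.trans hAZ) hUZ) hea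
  have h2 := CfsgLib.PLocal.card_sup_mul_card_inf (A := A ⊓ (E)) (B := U)
    (inf_le_right.trans (inf_le_left.trans F.normal))
  rw [← h2]
  exact Nat.mul_le_mul h1 (card_le_of_le (le_inf inf_le_right fun x hx =>
    mem_centralizer_iff.2 fun a ha => hcA a ha x hx.1.1))

end FFModule

end CfsgLib.CITGroups
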