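import Cfsg.Agent.CITGroups.SylowT
import Cfsg.Agent.Linear.Basic

/-!
# The configuration of `PSL₃` over four elements
-/

set_option autoImplicit false
set_option linter.style.haveILetI false
set_option linter.unusedSectionVars false

namespace CfsgLib.CITGroups

open Subgroup
open scoped commutatorElement Pointwise MatrixGroups
open CfsgLib.EPPOSeven (JT MaxPair omegaCentral)
open CfsgLib.PLocal.SL2 (up)

variable {G : Type*} [Group G] [Finite G] {M : MaxPair G} {A : Subgroup G}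

theorem SecondEA.exists_mul (S : SecondEA M A) {t : G} (ht : t ∈ M.T) :
    ∃ a ∈ A, ∃ d ∈ M.D, a * d = t := by
  rw [← S.sup_eq] at ht
  obtain ⟨a, ha, d, hd, e⟩ : t ∈ ((A : Set G) * (M.D : Set G) : Set G) := by
    rw [← Subgroup.coe_mul_of_left_le_normalizer_right A M.D
      (S.le_T.trans (inf_le_right : M.T ≤ M.N))]
    exact ht
  exact ⟨a, ha, d, hd, e⟩

theorem SecondEA.fix_le_A (S : SecondEA M A) : fixT M ≤ A := S.inf_eq.ge.trans inf_le_left

/-- The Thompson subgroup of `T` is `T`. -/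
theorem SecondEA.JT_eq (S : SecondEA M A) : JT M.T = M.T := by
  refine le_antisymm (CfsgLib.EPPOSeven.JT_le _) ?_
  have hea : ∀ X : Subgroup G, (∀ x ∈ X, x * x = 1) → Cfsg.IsElementaryAbelian 2 X := fun X hX =>
    ⟨⟨⟨fun u v => Subtype.ext (comm_of_sq hX u.2 v.2)⟩⟩, fun d hd => by rw [pow_two]; exact hX d hd⟩
  have hmax : ∀ X : Subgroup G, X ≤ M.T → Cfsg.IsElementaryAbelian 2 X →
      Nat.card X ≤ Nat.card M.D := fun X hX hXe => by
    rcases S.eq_or X hX (fun x hx => by rw [← pow_two]; exact hXe.2 x hx) with h1 | h1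
    · exact card_le_of_le h1
    · exact S.card_eq ▸ card_le_of_le h1
  calc M.T = A ⊔ M.D := S.sup_eq.symm
    _ ≤ JT M.T := sup_le
        (CfsgLib.PLocal.le_thompsonSubgroupOf ⟨S.le_T, hea A S.sq,
          fun X hX hXe => S.card_eq ▸ hmax X hX hXe⟩)
        (CfsgLib.PLocal.le_thompsonSubgroupOf ⟨M.D_le_T, hea M.D S.sq_D, hmax⟩)

variable [IsSimpleGroup G] {K : Type*} [Field K] [Finite K]

/-- The facts around one conjugacy class of involutions once `T` is a Sylow subgroup. -/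
theorem one_class (hna : ∃ a b : G, a * b ≠ b * a) (h : IsCIT G) (N : Natural M K)
    (S : SecondEA M A) (hR : (M.R₁ : Subgroup G) = M.T) :
    (∀ c ∈ fixT M, c ≠ 1 → centralizer ({c} : Set G) = M.T) ∧
      normalizer (M.T : Set G) = stab M ∧
      (∀ s t : G, orderOf s = 2 → orderOf t = 2 → IsConj s t) := by
  classical
  haveI : Fact (Nat.Prime 2) := ⟨Nat.prime_two⟩
  have Q := quotData h M
  have L := localData h M
  have hTN : M.T ≤ M.N := inf_le_right
  have hmax : ∀ P : Subgroup G, IsPGroup 2 P → M.T ≤ P → P = M.T := fun P hP hle =>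
    (M.R₁.3 hP (hR.trans_le hle)).trans hR
  have hord : ∀ {x : G}, x ∈ M.D → x ≠ 1 → orderOf x = 2 := fun hx hx1 =>
    orderOf_two_of_mul_self (S.sq_D _ hx) hx1
  have hC : ∀ c ∈ fixT M, c ≠ 1 → centralizer ({c} : Set G) = M.T := fun c hc hc1 =>
    hmax _ (h c (hord (S.fix_le_D hc) hc1))
      fun t ht => mem_centralizer_singleton_iff.2 (mem_centralizer_iff.1 hc.2 t ht)
  have hNT : normalizer (M.T : Set G) = stab M := by
    refine le_antisymm (fun g hg => ?_) Q.T_normal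
    refine N.normalizer_T_inf ?_ hg
    by_contra hgN
    obtain ⟨h1, h2⟩ := swap_conj S hg hgN
    have hgg : g * g ∈ M.N := mem_normalizer_of_conj_mem fun d hd => by
      rw [show g * g * d * (g * g)⁻¹ = g * (g * d * g⁻¹) * g⁻¹ by group]
      exact h2 _ (h1 d hd)
    obtain ⟨a, o, ho, hn⟩ := Nat.exists_eq_two_pow_mul_odd (orderOf_pos g).ne'
    have hgo : g ^ o ∈ M.T := by
      have h3 : IsPGroup 2 ↥(zpowers (g ^ o) ⊔ M.T) := by
        refine (IsPGroup.of_card (p := 2) (n := a) ?_).to_sup_of_normal_right' M.T_isPGroup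
          (zpowers_le.2 (pow_mem hg o))
        rw [Nat.card_zpowers, orderOf_pow, hn, Nat.gcd_eq_right (dvd_mul_left _ _),
          Nat.mul_div_cancel _ ho.pos]
      exact (hmax _ h3 le_sup_right).le (mem_sup_left (mem_zpowers _))
    obtain ⟨j, rfl⟩ := ho
    rw [pow_succ, pow_mul, pow_two] at hgo
    exact hgN (by simpa using mul_mem (inv_mem (pow_mem hgg j)) (hTN hgo))
  refine ⟨hC, hNT, ?_⟩
  -- involutions of `D` and of `A`
  obtain ⟨c₀, hc₀, hc₀1⟩ := (fixT M).bot_or_exists_ne_one.resolve_left fun e => by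
    have := L.one_lt
    rw [e, card_bot] at this
    omega
  have hc₀D := S.fix_le_D hc₀
  have hclassD : ∀ x ∈ M.D, x ≠ 1 → ∃ g, g * c₀ * g⁻¹ = x := fun x hx hx1 => by
    obtain ⟨g, -, hg⟩ := N.exists_conj hc₀D hc₀1 hx hx1
    exact ⟨g, hg⟩
  have hclassA : ∀ a ∈ A, a ∉ M.D → ∀ b ∈ A, b ∉ M.D →
      ∃ m, m * a * m⁻¹ = b := by
    intro a ha haD b hb hbD
    obtain ⟨m, hm, hmab⟩ := Q.trans a (S.le_T ha) haD (L.sq_mem a (S.le_T ha)) b (S.le_T hb) hbD
      (L.sq_mem b (S.le_T hb))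
    have hmA : m * a * m⁻¹ ∈ A := (mem_normalizer_iff.1 (stab_le_normalizer_A Q S hm) a).1 ha
    have hcF : m * a * m⁻¹ * b⁻¹ ∈ fixT M := S.inf_eq.le (mem_inf.2 ⟨A.mul_mem hmA (A.inv_mem hb), hmab⟩)
    have hfixb : omegaCentral M.D ⊓ centralizer ({b} : Set G) = fixT M :=
      L.fix_eq b (S.le_T hb) hbD
    obtain ⟨u, hu, hue⟩ := (L.ff.sq_card (hTN (S.le_T hb))
      (fun e => hbD (L.centralizer_eq ▸ e)) (by rw [L.centralizer_eq]; exact L.sq_mem b (S.le_T hb))).2
      _ (hfixb.symm ▸ hcF)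
    refine ⟨u⁻¹ * m, ?_⟩
    have hui : u⁻¹ = u := L.ff.inv_eq hu
    have h1 : u * b * u⁻¹ = m * a * m⁻¹ := by
      calc u * b * u⁻¹ = u * (b * u * b⁻¹) * b := by
            conv_lhs => rw [hui]
            group
        _ = m * a * m⁻¹ * b⁻¹ * b := by rw [hue]
        _ = m * a * m⁻¹ := by group
    calc u⁻¹ * m * a * (u⁻¹ * m)⁻¹ = u⁻¹ * (m * a * m⁻¹) * u := by group
      _ = u⁻¹ * (u * b * u⁻¹) * u := by rw [h1]
      _ = b := by group
  -- every involution is conjugate into `T`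
  have hinT : ∀ t : G, orderOf t = 2 → ∃ g, g⁻¹ * t * g ∈ M.T := by
    intro t ht
    obtain ⟨S', hS'⟩ := (IsPGroup.of_card (p := 2) (n := 1) (G := zpowers t)
      (by rw [Nat.card_zpowers, ht, pow_one])).exists_le_sylow
    obtain ⟨g, hg⟩ := MulAction.exists_smul_eq G S' M.R₁
    refine ⟨g⁻¹, ?_⟩
    rw [inv_inv, ← hR, ← hg, Sylow.coe_subgroup_smul]
    exact ⟨t, hS' (mem_zpowers t), rfl⟩
  obtain ⟨a₀, ha₀, ha₀D⟩ := SetLike.not_le_iff_exists.1 S.not_le
  have key : ∃ g, g * c₀ * g⁻¹ = a₀ := by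
    by_contra hno
    have hA' : ∀ a ∈ A, a ∉ M.D → ¬ ∃ g, g * c₀ * g⁻¹ = a := by
      rintro a ha haD ⟨g, hg⟩
      obtain ⟨m, hm⟩ := hclassA a ha haD a₀ ha₀ ha₀D
      exact hno ⟨m * g, by
        rw [show m * g * c₀ * (m * g)⁻¹ = m * (g * c₀ * g⁻¹) * m⁻¹ by group, hg, hm]⟩
    -- the centraliser of `a` in `A \ D` is `A`
    have hCA : ∀ a ∈ A, a ∉ M.D → centralizer ({a} : Set G) ≤ A := by
      intro a ha haD x hx
      have hao : orderOf a = 2 := orderOf_two_of_mul_self (S.sq a ha) fun e => haD (e ▸ one_mem _)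
      obtain ⟨R, hRC⟩ := (h a hao).exists_le_sylow
      obtain ⟨g, hg⟩ := MulAction.exists_smul_eq G R M.R₁
      have hmem : ∀ y ∈ centralizer ({a} : Set G), g * y * g⁻¹ ∈ M.T := fun y hy => by
        rw [← hR, ← hg, Sylow.coe_subgroup_smul]; exact ⟨y, hRC hy, rfl⟩
      have haC : a ∈ centralizer ({a} : Set G) := mem_centralizer_singleton_iff.2 rfl
      have hga : g * a * g⁻¹ ∈ A ∧ g * a * g⁻¹ ∉ M.D := by
        have h1 : g * a * g⁻¹ ∉ M.D := by
          intro e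
          obtain ⟨w, hw⟩ := hclassD _ e (fun e1 => by
            rw [conj_eq_one_iff] at e1; exact haD (e1 ▸ one_mem _))
          exact hA' a ha haD ⟨g⁻¹ * w, by
            rw [show g⁻¹ * w * c₀ * (g⁻¹ * w)⁻¹ = g⁻¹ * (w * c₀ * w⁻¹) * g by group, hw]; group⟩
        exact ⟨(S.invol _ (hmem a haC) (by
          rw [show g * a * g⁻¹ * (g * a * g⁻¹) = g * (a * a) * g⁻¹ by group, S.sq a ha]
          group)).resolve_left h1, h1⟩
      have hAimg : A.map (MulAut.conj g).toMonoidHom ≤ M.T := by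
        rintro _ ⟨b, hb, rfl⟩
        exact hmem b (mem_centralizer_singleton_iff.2 (comm_of_sq S.sq hb ha))
      have hAeq : A.map (MulAut.conj g).toMonoidHom = A := by
        rcases S.eq_or _ hAimg (by rintro _ ⟨b, hb, rfl⟩; rw [← map_mul, S.sq b hb, map_one])
          with h1 | h1
        · exact absurd (h1 ⟨a, ha, rfl⟩) hga.2
        · exact eq_of_le_of_card_ge h1 (card_map_of_injective (MulAut.conj g).injective).ge
      have hgx : g * x * g⁻¹ ∈ A := by
        obtain ⟨b, hb, d, hd, hbd⟩ := S.exists_mul (hmem x hx)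
        have hxc : Commute (g * x * g⁻¹) (g * a * g⁻¹) := by
          show g * x * g⁻¹ * (g * a * g⁻¹) = g * a * g⁻¹ * (g * x * g⁻¹)
          calc g * x * g⁻¹ * (g * a * g⁻¹) = g * (x * a) * g⁻¹ := by group
            _ = g * (a * x) * g⁻¹ := by rw [mem_centralizer_singleton_iff.1 hx]
            _ = _ := by group
        have hdc : Commute d (g * a * g⁻¹) := by
          rw [← hbd] at hxc
          have h3 : Commute b⁻¹ (g * a * g⁻¹) := comm_of_sq S.sq (inv_mem hb) hga.1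
          simpa using h3.mul_left hxc
        rw [← hbd]
        exact mul_mem hb (S.fix_le_A (S.commute_mem d hd _ hga.1 hga.2 hdc))
      rw [← hAeq] at hgx
      obtain ⟨y, hy, hye⟩ := hgx
      have hye' : g * y * g⁻¹ = g * x * g⁻¹ := hye
      rwa [← mul_left_cancel (mul_right_cancel hye')]
    -- so the conjugates of `c₀` lie in `D`
    have hsub : Group.conjugatesOfSet ({c₀} : Set G) ⊆ M.D := by
      intro u hu
      obtain ⟨c, hc, hcu⟩ := Group.mem_conjugatesOfSet_iff.1 hu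
      rw [Set.mem_singleton_iff] at hc
      rw [hc] at hcu
      obtain ⟨g, hg⟩ := isConj_iff.1 hcu
      have hao : orderOf a₀ = 2 := orderOf_two_of_mul_self (S.sq a₀ ha₀) fun e => ha₀D (e ▸ one_mem _)
      have huo : orderOf u = 2 := by rw [← hg, CfsgLib.Small.orderOf_conj_eq, hord hc₀D hc₀1]
      rcases Nat.even_or_odd (orderOf (u * a₀)) with he | ho
      · obtain ⟨hzo, hzu, hza⟩ := CfsgLib.Small.half_pow_spec huo hao he
        set z := (u * a₀) ^ (orderOf (u * a₀) / 2)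
        have hzA : z ∈ A := hCA a₀ ha₀ ha₀D (mem_centralizer_singleton_iff.2 hza.eq)
        have huc : u ∈ centralizer ({z} : Set G) := mem_centralizer_singleton_iff.2 hzu.eq.symm
        by_cases hzD : z ∈ M.D
        · rw [hC z (S.inf_eq.le ⟨hzA, hzD⟩) (CfsgLib.Small.ne_one_of_orderOf_two hzo)] at huc
          rcases S.invol u huc (CfsgLib.Small.mul_self_of_orderOf_two huo) with h1 | h1
          · exact h1
          · by_contra huD
            exact hA' u h1 huD ⟨g, hg⟩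
        · by_contra huD
          exact hA' u (hCA z hzA hzD huc) huD ⟨g, hg⟩
      · exfalso
        obtain ⟨k, hk⟩ := CfsgLib.Small.conj_pow_eq_of_odd huo hao ho
        exact hno ⟨(u * a₀) ^ k * g, by
          rw [show (u * a₀) ^ k * g * c₀ * ((u * a₀) ^ k * g)⁻¹ =
            (u * a₀) ^ k * (g * c₀ * g⁻¹) * ((u * a₀) ^ k)⁻¹ by group, hg, hk]⟩
    have hle : normalClosure ({c₀} : Set G) ≤ M.D := (closure_le _).2 hsub
    rcases (normalClosure_normal (s := ({c₀} : Set G))).eq_bot_or_eq_top with h1 | h1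
    · exact hc₀1 (mem_bot.1 (h1 ▸ subset_normalClosure rfl))
    · obtain ⟨a, b, hab⟩ := hna
      rw [h1] at hle
      exact hab (comm_of_sq S.sq_D (hle (mem_top a)) (hle (mem_top b)))
  have hall : ∀ t : G, orderOf t = 2 → IsConj c₀ t := by
    intro t ht
    obtain ⟨g, hg⟩ := hinT t ht
    have hgo : orderOf (g⁻¹ * t * g) = 2 := by
      simpa using (CfsgLib.Small.orderOf_conj_eq g⁻¹ t).trans ht
    have hg1 : g⁻¹ * t * g ≠ 1 := CfsgLib.Small.ne_one_of_orderOf_two hgo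
    have hback : IsConj (g⁻¹ * t * g) t := isConj_iff.2 ⟨g, by group⟩
    refine IsConj.trans ?_ hback
    by_cases hgD : g⁻¹ * t * g ∈ M.D
    · obtain ⟨w, hw⟩ := hclassD _ hgD hg1
      exact isConj_iff.2 ⟨w, hw⟩
    · have hgA := (S.invol _ hg (CfsgLib.Small.mul_self_of_orderOf_two hgo)).resolve_left hgD
      obtain ⟨m, hm⟩ := hclassA a₀ ha₀ ha₀D _ hgA hgD
      exact (isConj_iff.2 key).trans (isConj_iff.2 ⟨m, hm⟩)
  exact fun s t hs ht => (hall s hs).symm.trans (hall t ht)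

/-- The pair with `A` as intersection. -/
theorem exists_transpose (N : Natural M K) (S : SecondEA M A)
    (hR : (M.R₁ : Subgroup G) = M.T)
    (hC : ∀ c ∈ fixT M, c ≠ 1 → centralizer ({c} : Set G) = M.T)
    (hconj : ∀ s t : G, orderOf s = 2 → orderOf t = 2 → IsConj s t) :
    ∃ M' : MaxPair G, M'.D = A ∧ M'.R₁ = M.R₁ := by
  classical
  haveI : Fact (Nat.Prime 2) := ⟨Nat.prime_two⟩
  obtain ⟨a, ha, haD⟩ := SetLike.not_le_iff_exists.1 S.not_le
  have hao : orderOf a = 2 := orderOf_two_of_mul_self (S.sq a ha) fun e => haD (e ▸ one_mem _)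
  obtain ⟨c₀, hc₀, hc₀1⟩ := (fixT M).bot_or_exists_ne_one.resolve_left fun e => by
    have h1 := N.card_K
    rw [e, card_bot] at h1
    have h2 := Finite.one_lt_card (α := K)
    omega
  obtain ⟨g, hg⟩ := isConj_iff.1
    (hconj c₀ a (orderOf_two_of_mul_self (S.sq_D _ (S.fix_le_D hc₀)) hc₀1) hao)
  let R₂ : Sylow 2 G := g • M.R₁
  have hR₂ : (R₂ : Subgroup G) = M.T.map (MulAut.conj g).toMonoidHom := by
    rw [Sylow.coe_subgroup_smul, ← hR]; rfl
  have hmemR₂ : ∀ x, x ∈ (R₂ : Subgroup G) ↔ x ∈ centralizer ({a} : Set G) := by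
    intro x
    rw [hR₂, ← hC c₀ hc₀ hc₀1, mem_centralizer_singleton_iff]
    constructor
    · rintro ⟨y, hy, rfl⟩
      have hy' := mem_centralizer_singleton_iff.1 hy
      show g * y * g⁻¹ * a = a * (g * y * g⁻¹)
      rw [← hg]
      calc g * y * g⁻¹ * (g * c₀ * g⁻¹) = g * (y * c₀) * g⁻¹ := by group
        _ = g * (c₀ * y) * g⁻¹ := by rw [hy']
        _ = _ := by group
    · intro hx
      refine ⟨g⁻¹ * x * g, mem_centralizer_singleton_iff.2 ?_, by simp [mul_assoc]⟩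
      rw [← hg] at hx
      calc g⁻¹ * x * g * c₀ = g⁻¹ * (x * (g * c₀ * g⁻¹)) * g := by group
        _ = g⁻¹ * (g * c₀ * g⁻¹ * x) * g := by rw [hx]
        _ = c₀ * (g⁻¹ * x * g) := by group
  have hAR₂ : A ≤ (R₂ : Subgroup G) := fun x hx =>
    (hmemR₂ x).2 (mem_centralizer_singleton_iff.2 (comm_of_sq S.sq hx ha))
  have hinter : A = (M.R₁ : Subgroup G) ⊓ R₂ := by
    refine le_antisymm (le_inf (hR.symm ▸ S.le_T) hAR₂) fun x hx => ?_
    have hxT : x ∈ M.T := hR ▸ hx.1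
    obtain ⟨b, hb, d, hd, rfl⟩ := S.exists_mul hxT
    have hc : Commute (b * d) a := mem_centralizer_singleton_iff.1 ((hmemR₂ _).1 hx.2)
    have h1 : Commute b⁻¹ a := comm_of_sq S.sq (inv_mem hb) ha
    have hdc : Commute d a := by simpa using h1.mul_left hc
    exact mul_mem hb (S.fix_le_A (S.commute_mem d hd a ha haD hdc))
  have hR₂n : (R₂ : Subgroup G) ≤ normalizer (A : Set G) := by
    set A₀ := A.map (MulAut.conj g⁻¹).toMonoidHom with hA₀
    have hA₀T : A₀ ≤ M.T := by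
      rintro _ ⟨x, hx, rfl⟩
      have := hAR₂ hx
      rw [hR₂] at this
      obtain ⟨y, hy, rfl⟩ := this
      show g⁻¹ * (g * y * g⁻¹) * g⁻¹⁻¹ ∈ M.T
      rwa [show g⁻¹ * (g * y * g⁻¹) * g⁻¹⁻¹ = y by group]
    have hA₀n : M.T ≤ normalizer (A₀ : Set G) := by
      have hcard : Nat.card A₀ = Nat.card A := card_map_of_injective (MulAut.conj g⁻¹).injective
      rcases S.eq_or A₀ hA₀T (by rintro _ ⟨b, hb, rfl⟩; rw [← map_mul, S.sq b hb, map_one]) with h1 | h1
      · rw [eq_of_le_of_card_ge h1 (by rw [hcard, S.card_eq])]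
        exact inf_le_right
      · rw [eq_of_le_of_card_ge h1 hcard.ge]
        exact S.normal
    intro x hx
    rw [hR₂] at hx
    obtain ⟨y, hy, rfl⟩ := hx
    refine mem_normalizer_of_conj_mem fun b hb => ?_
    obtain ⟨b', hb', he⟩ := (mem_normalizer_iff.1 (hA₀n hy) (g⁻¹ * b * g)).1
      ⟨b, hb, by simp⟩
    have he' : g⁻¹ * b' * g = y * (g⁻¹ * b * g) * y⁻¹ := by rw [← he]; simp [mul_assoc]
    show g * y * g⁻¹ * b * (g * y * g⁻¹)⁻¹ ∈ A
    rw [show g * y * g⁻¹ * b * (g * y * g⁻¹)⁻¹ = g * (y * (g⁻¹ * b * g) * y⁻¹) * g⁻¹ by group, ← he']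
    simpa [mul_assoc] using hb'
  have hTn : (M.R₁ : Subgroup G) ≤ normalizer (A : Set G) := hR ▸ S.normal
  have hAT : A < M.T := lt_of_le_not_ge S.le_T fun hle => by
    have h1 : M.D ≤ A := M.D_le_T.trans hle
    exact S.not_le (eq_of_le_of_card_ge h1 S.card_eq.le).ge
  have hT₂A : A < (R₂ : Subgroup G) := lt_of_le_not_ge hAR₂ fun hle => by
    have h1 := card_le_of_le hle
    rw [hR₂, card_map_of_injective (MulAut.conj g).injective] at h1
    exact hAT.not_ge (eq_of_le_of_card_ge hAT.le h1).ge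
  refine ⟨⟨M.R₁, R₂, A, hinter, fun e => ?_, fun e => ?_, fun S₁ S₂ hne hlt => ?_, ?_, ?_,
    fun P hP _ hle => ?_, fun P hP _ hle => ?_⟩, rfl, rfl⟩
  · rw [e, mem_bot] at ha
    exact haD (ha ▸ one_mem _)
  · rw [hR, S.JT_eq, hR₂, ← CfsgLib.EPPOSeven.JT_conj, S.JT_eq] at e
    rw [← hR₂] at e
    have h1 : A = M.T := by rw [hinter, hR, ← e, inf_idem]
    exact hAT.ne h1
  · exact M.best S₁ S₂ hne (S.card_eq ▸ hlt)
  · rw [inf_eq_left.2 hTn, hR]; exact hAT
  · rw [inf_eq_left.2 hR₂n]; exact hT₂A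
  · rw [inf_eq_left.2 hTn] at hle ⊢; exact M.R₁.3 hP hle
  · rw [inf_eq_left.2 hR₂n] at hle ⊢; exact R₂.3 hP hle

/-- In two frames meeting in `C` the field has four elements. -/
theorem card_eq_four (h : IsCIT G) (N : Natural M K) (S : SecondEA M A)
    (hR : (M.R₁ : Subgroup G) = M.T) {M' : MaxPair G} (hD : M'.D = A) (hR' : M'.R₁ = M.R₁)
    {K' : Type*} [Field K'] (N' : Natural M' K') : Nat.card K ≤ 4 := by
  classical
  have Q := quotData h M
  have L := localData h M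
  have hT' : M'.T = M.T := by
    show (M'.R₁ : Subgroup G) ⊓ normalizer (M'.D : Set G) = M.T
    rw [hR', hD, hR, inf_eq_left.2 S.normal]
  have hfix' : fixT M' = fixT M := by
    show omegaCentral M'.D ⊓ centralizer (M'.T : Set G) = fixT M
    rw [N'.omega_eq, hD, hT']
    refine le_antisymm (fun x hx => ?_) (le_inf S.fix_le_A inf_le_right)
    have hxD : x ∈ M.D := by
      rw [← L.centralizer_eq]
      refine ⟨(inf_le_right : M.T ≤ M.N) (S.le_T hx.1), mem_centralizer_iff.2 fun u hu => ?_⟩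
      exact mem_centralizer_iff.1 hx.2 u (M.D_le_T hu.1)
    exact S.inf_eq.le ⟨hx.1, hxD⟩
  have hstab : ∀ g ∈ stab M, g ∈ stab M' := by
    intro g hg
    refine ⟨?_, ?_⟩
    · show g ∈ normalizer (M'.D : Set G)
      rw [hD]; exact stab_le_normalizer_A Q S hg
    · rw [hR']; exact hg.2
  have hmemD' : ∀ {x}, x ∈ A → x ∈ M'.D := fun hx => hD.symm ▸ hx
  -- the coordinate of the fixed points
  choose cf hcf hcfD hcf0 hcf1 using N.exists_fix
  have hcfA : ∀ x, cf x ∈ M'.D := fun x => hmemD' (S.fix_le_A (hcf x))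
  have hcf' : ∀ x, cf x ∈ fixT M' := fun x => hfix'.symm ▸ hcf x
  let φ : K → K' := fun x => N'.vec (cf x) 0
  have hφadd : ∀ x y, φ (x + y) = φ x + φ y := fun x y => by
    have e : cf (x + y) = cf x * cf y := N.eq_of_vec_fix (hcf _) (hcfD _)
      (mul_mem (hcf x) (hcf y)) (mul_mem (hcfD x) (hcfD y))
      (by rw [hcf0, N.vec_mul _ (hcfD x) _ (hcfD y), Pi.add_apply, hcf0, hcf0])
    show N'.vec (cf (x + y)) 0 = _
    rw [e, N'.vec_mul _ (hcfA x) _ (hcfA y), Pi.add_apply]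
  have hφ0 : ∀ x, φ x = 0 → x = 0 := by
    intro x hx
    have h1 : cf x = 1 := N'.eq_one_of_vec (hcfA x) (funext fun i => by
      fin_cases i
      · exact hx
      · exact (N'.mem_fix _ (hcfA x)).1 (hcf' x))
    rw [← hcf0 x, h1, N.vec_one]; rfl
  have hφmul : ∀ (g : M.N) (hg : (g : G) ∈ stab M), ∀ x,
      φ (N.eig g * x) = N'.eig ⟨g, (hstab g hg).1⟩ * φ x := by
    intro g hg x
    have hgc : (g : G) * cf x * (g : G)⁻¹ ∈ fixT M :=
      (mem_normalizer_iff.1 (L.normal_fixT hg) _).1 (hcf x)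
    have e : cf (N.eig g * x) = (g : G) * cf x * (g : G)⁻¹ := N.eq_of_vec_fix (hcf _) (hcfD _)
      hgc (S.fix_le_D hgc) (by rw [hcf0, N.vec_conj_fix (hcfD x) (hcf x), hcf0])
    show N'.vec (cf (N.eig g * x)) 0 = _
    rw [e]
    exact N'.vec_conj_fix (g := ⟨g, (hstab g hg).1⟩) (hcfA x) (hcf' x)
  -- the coordinate of `A` modulo the fixed points
  have hca : ∀ x : K, ∃ (a : G) (haA : a ∈ A),
      N.π ⟨a, (inf_le_right : M.T ≤ M.N) (S.le_T haA)⟩ = up x := by
    intro x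
    obtain ⟨t, ht⟩ := N.surj (up x)
    obtain ⟨a, haA, d, hd, hadt⟩ := S.exists_mul ((N.mem_T t).2 (by rw [ht]; exact ⟨rfl, rfl⟩))
    refine ⟨a, haA, ?_⟩
    have e : t = ⟨a, (inf_le_right : M.T ≤ M.N) (S.le_T haA)⟩ * ⟨d, le_normalizer hd⟩ :=
      Subtype.ext hadt.symm
    rw [← ht, e, map_mul, (N.ker ⟨d, le_normalizer hd⟩).2 hd, mul_one]
  choose ca hcaA hcaπ using hca
  let χ : K → K' := fun x => N'.vec (ca x) 1
  have hsame : ∀ (a : G) (haA : a ∈ A) (x : K),
      N.π ⟨a, (inf_le_right : M.T ≤ M.N) (S.le_T haA)⟩ = up x → N'.vec a 1 = χ x := by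
    intro a haA x hax
    set b := (ca x)⁻¹ * a with hb
    have hbA : b ∈ A := mul_mem (inv_mem (hcaA x)) haA
    have hbD : b ∈ M.D := by
      refine (N.ker ⟨b, (inf_le_right : M.T ≤ M.N) (S.le_T hbA)⟩).1 ?_
      rw [show (⟨b, (inf_le_right : M.T ≤ M.N) (S.le_T hbA)⟩ : M.N) =
        ⟨ca x, (inf_le_right : M.T ≤ M.N) (S.le_T (hcaA x))⟩⁻¹ *
          ⟨a, (inf_le_right : M.T ≤ M.N) (S.le_T haA)⟩ from rfl, map_mul, map_inv, hax, hcaπ,
        inv_mul_cancel]
    have hb0 : N'.vec b 1 = 0 :=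
      (N'.mem_fix b (hmemD' hbA)).1 (hfix'.symm ▸ S.inf_eq.le ⟨hbA, hbD⟩)
    show N'.vec a 1 = N'.vec (ca x) 1
    rw [show a = ca x * b by rw [hb]; group, N'.vec_mul _ (hmemD' (hcaA x)) _ (hmemD' hbA),
      Pi.add_apply, hb0, add_zero]
  have hχadd : ∀ x y, χ (x + y) = χ x + χ y := fun x y => by
    have h1 := hsame (ca x * ca y) (mul_mem (hcaA x) (hcaA y)) (x + y) (by
      rw [← CfsgLib.PLocal.SL2.up_mul, ← hcaπ x, ← hcaπ y, ← map_mul]; rfl)
    rw [← h1, N'.vec_mul _ (hmemD' (hcaA x)) _ (hmemD' (hcaA y)), Pi.add_apply]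
  have hχ1 : χ 1 ≠ 0 := by
    intro e
    have h1 : ca 1 ∈ fixT M' := (N'.mem_fix _ (hmemD' (hcaA 1))).2 e
    rw [hfix'] at h1
    have h2 := (N.ker ⟨ca 1, (inf_le_right : M.T ≤ M.N) (S.le_T (hcaA 1))⟩).2 (S.fix_le_D h1)
    rw [hcaπ] at h2
    simpa using congrArg (fun B : SL(2, K) => B 0 1) h2
  have hχmul : ∀ (g : M.N) (hg : (g : G) ∈ stab M), ∀ x,
      χ (N.eig g ^ 2 * x) = (N'.eig ⟨g, (hstab g hg).1⟩)⁻¹ * χ x := by
    intro g hg x
    have hgA : (g : G) * ca x * (g : G)⁻¹ ∈ A :=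
      (mem_normalizer_iff.1 (stab_le_normalizer_A Q S hg) _).1 (hcaA x)
    have h1 := hsame _ hgA (N.eig g ^ 2 * x) (by
      show _ = up ((N.π g) 0 0 ^ 2 * x)
      rw [← CfsgLib.PLocal.SL2.conj_up_of_lower_zero _ x ((N.mem_stab g).1 hg), ← hcaπ x, ← map_mul,
        ← map_inv, ← map_mul]
      rfl)
    rw [← h1]
    let g' : M'.N := ⟨g, (hstab g hg).1⟩
    have h10 : (N'.π g') 1 0 = 0 := (N'.mem_stab g').1 (hstab g hg)
    have hd := CfsgLib.PLocal.SL2.det2 (N'.π g')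
    rw [h10, mul_zero, sub_zero] at hd
    show N'.vec ((g' : G) * ca x * (g' : G)⁻¹) 1 = (N'.eig g')⁻¹ * N'.vec (ca x) 1
    rw [N'.vec_conj g' _ (hmemD' (hcaA x))]
    have h11 : (N'.π g') 1 1 = (N'.eig g')⁻¹ := (eq_inv_of_mul_eq_one_right hd)
    simp [Matrix.mulVec, dotProduct, Fin.sum_univ_two, h10, h11]
  -- inversion is additive
  have hφ1 : φ 1 ≠ 0 := fun e => one_ne_zero (hφ0 1 e)
  have hφzero : φ 0 = 0 := by simpa using hφadd 0 0
  have hχzero : χ 0 = 0 := by simpa using hχadd 0 0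
  refine card_le_four N.two (fun x => φ x / φ 1) (fun x y => by rw [hφadd, add_div])
    (fun x y hxy => ?_) (div_self hφ1) ?_
  · have h1 : φ x = φ y := by
      field_simp at hxy
      exact hxy
    have h2 := hφadd x y
    have h3 : φ (x + y) = 0 := by rw [h2, h1, ← two_mul, N'.two, zero_mul]
    have := hφ0 _ h3
    linear_combination this - y * N.two
  · have key : ∀ x : K, (φ x / φ 1)⁻¹ = χ (x ^ 2) / χ 1 := by
      intro x
      rcases eq_or_ne x 0 with rfl | hx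
      · simp [hφzero, hχzero]
      · obtain ⟨g, hg, rfl⟩ := N.exists_eig hx
        have e1 := hφmul g hg 1
        have e2 := hχmul g hg 1
        rw [mul_one] at e1 e2
        rw [e1, e2, mul_div_assoc, mul_div_assoc, div_self hφ1, div_self hχ1, mul_one, mul_one]
    intro x y
    rw [key, key, key, show (x + y) ^ 2 = x ^ 2 + y ^ 2 by linear_combination (x * y) * N.two,
      hχadd, add_div]

theorem card_normalizer_of_natural (h : IsCIT G) (M₀ : MaxPair G) {F : Type*} [Field F] [Finite F]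
    (N : Natural M₀ F) (hF : Nat.card F = 4) : Nat.card M₀.N = 960 := by
  haveI := Fintype.ofFinite F
  have h1 := card_eq_ker_mul_range N.π
  have hk : N.π.ker = M₀.D.subgroupOf M₀.N := by
    ext g; rw [MonoidHom.mem_ker, N.ker, mem_subgroupOf]
  have hr : N.π.range = ⊤ := MonoidHom.range_eq_top.2 N.surj
  rw [hk, hr, card_top, Nat.card_congr (subgroupOfEquivOfLe le_normalizer).toEquiv,
    CfsgLib.Linear.card_SL_two] at h1
  rw [h1]
  have hD : Nat.card M₀.D = 16 := by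
    rw [← N.omega_eq, (localData h M₀).card_omega, ← N.card_K, hF]
  rw [hD, ← Nat.card_eq_fintype_card, hF]
  norm_num

theorem fourFrame_of_maxPair (hna : ∃ a b : G, a * b ≠ b * a) (h : IsCIT G) (M : MaxPair G)
    (hq : 4 ≤ Nat.card (fixT M)) : ∃ T V A : Subgroup G, FourFrame T V A := by
  classical
  obtain ⟨F, hF, hFin, ⟨N⟩⟩ := exists_natural h M hq
  letI := hF
  letI := hFin
  obtain ⟨A, S⟩ := exists_secondEA h M N
  have hR := R₁_eq_T hna h N S hq
  obtain ⟨hC, hNT, hconj⟩ := one_class hna h N S hR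
  obtain ⟨M', hD, hR'⟩ := exists_transpose N S hR hC hconj
  have hT' : M'.T = M.T := by
    show (M'.R₁ : Subgroup G) ⊓ normalizer (M'.D : Set G) = M.T
    rw [hR', hD, hR, inf_eq_left.2 S.normal]
  have L := localData h M
  have L' := localData h M'
  have hfix' : Nat.card (fixT M') = Nat.card (fixT M) := by
    have h1 := L.card_T
    have h2 := L'.card_T
    rw [hT', h1, hD, S.card_eq] at h2
    exact (Nat.eq_of_mul_eq_mul_left Nat.card_pos h2).symm
  obtain ⟨F', hF', hFin', ⟨N'⟩⟩ := exists_natural h M' (hfix'.symm ▸ hq)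
  letI := hF'
  letI := hFin'
  have hF4 : Nat.card F = 4 := le_antisymm (card_eq_four h N S hR hD hR' N') (N.card_K ▸ hq)
  have hF'4 : Nat.card F' = 4 := by rw [N'.card_K, hfix', ← N.card_K, hF4]
  have hfix4 : Nat.card (fixT M) = 4 := N.card_K ▸ hF4
  have hD16 : Nat.card M.D = 16 := by rw [S.card_D, hfix4]
  have hstab : ∀ g ∈ stab M, g ∈ normalizer (A : Set G) := stab_le_normalizer_A (quotData h M) S
  refine ⟨M.T, M.D, A, h, ?_, ?_, hD16, by rw [S.card_eq, hD16], S.sq_D, S.sq,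
    by rw [sup_comm, S.sup_eq], by rw [inf_comm, S.inf_eq, hfix4], inf_le_right, S.normal, S.invol,
    fun v hv hvA a ha haD hc => hvA (S.fix_le_A (S.commute_mem v hv a ha haD hc)),
    fun c hc hc1 => hC c (S.inf_eq.le ⟨hc.2, hc.1⟩) hc1, hconj,
    card_normalizer_of_natural h M N hF4, ?_, ?_, ?_, ?_⟩
  · rw [L.card_T, hD16, hfix4]
  · rw [← hR]
    exact Nat.not_even_iff_odd.1 fun he => M.R₁.not_dvd_index (even_iff_two_dvd.1 he)
  · rw [← hD]
    exact card_normalizer_of_natural h M' N' hF'4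
  · rw [hNT, L.card_stab, L.card_T, hD16, hfix4]
  · exact hNT.le.trans inf_le_left
  · exact fun g hg => hstab g (hNT.le hg)

end CfsgLib.CITGroups
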