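import Cfsg.Agent.CITGroups.Basic
import Cfsg.Agent.PLocal.CommutatorFacts
import Cfsg.Agent.S0200

/-!
# Involutions and elements of odd order over a normal two-subgroup
-/

set_option autoImplicit false
set_option linter.style.haveILetI false
set_option linter.unusedSectionVars false

namespace CfsgLib.CITGroups

open Subgroup

variable {G : Type*} [Group G] [Finite G]

/-- An element inverting `y` modulo a two-subgroup has an involution or the identity in its coset
inverting `y`. -/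
theorem IsCIT.exists_inverting (h : IsCIT G) {E : Subgroup G} (hE : IsPGroup 2 E) {a y : G} {p : ℕ}
    (hp : p.Prime) (h2 : p ≠ 2) (hy : orderOf y = p) (hyE : y ∈ normalizer (E : Set G))
    (haE : a ∈ normalizer (E : Set G)) (ha2 : a * a ∈ E) (hay : a * y * a⁻¹ * y ∈ E) :
    ∃ e ∈ E, a * e * (a * e) = 1 ∧ a * e * y * (a * e)⁻¹ = y⁻¹ := by
  haveI := Fact.mk hp
  haveI : Fact (Nat.Prime 2) := ⟨Nat.prime_two⟩
  let X := {x : G // a⁻¹ * x ∈ E}
  have h1 : a⁻¹ * y * a * y ∈ E := by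
    rw [show a⁻¹ * y * a * y = a⁻¹ * (y * (a * y * a⁻¹ * y) * y⁻¹) * a by group]
    exact (mem_normalizer_iff''.1 haE _).1 ((mem_normalizer_iff.1 hyE _).1 hay)
  have hkey : ∀ x : G, a⁻¹ * x ∈ E → a⁻¹ * (y * x * y) ∈ E := fun x hx => by
    rw [show a⁻¹ * (y * x * y) = (a⁻¹ * y * a * y) * (y⁻¹ * (a⁻¹ * x) * y) by group]
    exact mul_mem h1 ((mem_normalizer_iff''.1 hyE _).1 hx)
  let c : Equiv.Perm X :=
    Equiv.ofBijective (fun x => ⟨y * x * y, hkey x x.2⟩)
      (Finite.injective_iff_bijective.1 fun u v h => by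
        refine Subtype.ext ?_
        have : y * (u : G) * y = y * v * y := congrArg Subtype.val h
        exact mul_left_cancel (mul_right_cancel this))
  have hc : ∀ (n : ℕ) (x : X), (((c ^ n) x : X) : G) = y ^ n * x * y ^ n := by
    intro n
    induction n with
    | zero => intro x; simp
    | succ n ih =>
      intro x
      rw [pow_succ', Equiv.Perm.mul_apply]
      show y * (((c ^ n) x : X) : G) * y = _
      rw [ih]
      group
  have hcp : c ^ p = 1 := Equiv.ext fun x => Subtype.ext (by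
    rw [hc, ← hy, pow_orderOf_eq_one]; simp)
  have hP : IsPGroup p (zpowers c) := fun g => ⟨1, Subtype.ext (by
    obtain ⟨i, hi⟩ := g.2
    show ((g : Equiv.Perm X)) ^ p ^ 1 = 1
    rw [pow_one, ← show c ^ i = (g : Equiv.Perm X) from hi, ← zpow_natCast, ← zpow_mul, mul_comm,
      zpow_mul, zpow_natCast, hcp, one_zpow])⟩
  obtain ⟨k, hk⟩ := IsPGroup.iff_card.1 hE
  have hX : Nat.card X = 2 ^ k := by
    rw [← hk]
    exact Nat.card_congr ((Equiv.mulLeft a⁻¹).subtypeEquiv fun x => Iff.rfl)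
  obtain ⟨⟨x, hxE⟩, hx⟩ := hP.nonempty_fixed_point_of_prime_not_dvd_card (α := X) (fun h =>
    h2 ((Nat.prime_dvd_prime_iff_eq hp Nat.prime_two).1 (hp.dvd_of_dvd_pow (hX ▸ h))))
  have hfix : y * x * y = x := congrArg Subtype.val (hx ⟨c, mem_zpowers c⟩)
  refine ⟨a⁻¹ * x, hxE, ?_, ?_⟩
  · rw [mul_inv_cancel_left]
    refine h.eq_one_of_mem hE ?_ (odd_orderOf_of_prime hp h2 hy)
      (fun e => hp.one_lt.ne' (by rw [← hy, e, orderOf_one])) ?_
    · rw [show x * x = a * (a⁻¹ * x) * a⁻¹ * (a * a) * (a⁻¹ * x) by group]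
      exact mul_mem (mul_mem ((mem_normalizer_iff.1 haE _).1 hxE) ha2) hxE
    · show y * (x * x) = x * x * y
      calc y * (x * x) = (y * x * y) * (y⁻¹ * x) := by group
        _ = x * y⁻¹ * x := by rw [hfix, mul_assoc]
        _ = x * y⁻¹ * (y * x * y) := by rw [hfix]
        _ = x * x * y := by group
  · rw [mul_inv_cancel_left]
    calc x * y * x⁻¹ = y⁻¹ * (y * x * y) * x⁻¹ := by group
      _ = y⁻¹ := by rw [hfix, mul_inv_cancel_right]

/-- An element of `W` outside the largest normal two-subgroup whose square is inside inverts an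
element of odd prime order modulo it. -/
theorem exists_inverted {W E : Subgroup G} (hEW : E ≤ W) (hWE : W ≤ normalizer (E : Set G))
    (hE : IsPGroup 2 E)
    (hcore : ∀ P : Subgroup G, P ≤ W → W ≤ normalizer (P : Set G) → IsPGroup 2 P → P ≤ E)
    {a : G} (ha : a ∈ W) (haE : a ∉ E) (ha2 : a * a ∈ E) :
    ∃ (p : ℕ) (y : G), p.Prime ∧ p ≠ 2 ∧ orderOf y = p ∧ y ∈ W ∧ a * y * a⁻¹ * y ∈ E := by
  haveI : Fact (Nat.Prime 2) := ⟨Nat.prime_two⟩
  haveI hn : (E.subgroupOf W).Normal :=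
    normal_subgroupOf_iff_le_normalizer hEW |>.2 hWE
  set π := QuotientGroup.mk' (E.subgroupOf W) with hπ
  have ht : orderOf (π ⟨a, ha⟩) = 2 := by
    refine orderOf_two_of_mul_self ?_ ?_
    · rw [← map_mul, hπ, QuotientGroup.mk'_apply, QuotientGroup.eq_one_iff]
      exact ha2
    · rw [hπ, ne_eq, QuotientGroup.mk'_apply, QuotientGroup.eq_one_iff]
      exact haE
  obtain ⟨h, h1, hodd, hinv⟩ := Cfsg.Agent.S0200.result (π ⟨a, ha⟩) ht fun N hN hN2 htN => by
    have h2 : IsPGroup 2 ((N.comap π).map W.subtype) :=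
      (IsPGroup.comap_of_ker_isPGroup hN2 π (by
        rw [hπ, QuotientGroup.ker_mk']; exact hE.comap_subtype)).map _
    refine haE (hcore _ (map_subtype_le _) ?_ h2 ⟨⟨a, ha⟩, htN, rfl⟩)
    intro w hw
    refine mem_normalizer_iff.2 fun x => ?_
    constructor
    · rintro ⟨u, hu, rfl⟩
      exact ⟨⟨w, hw⟩ * u * ⟨w, hw⟩⁻¹, (inferInstance : (N.comap π).Normal).conj_mem u hu _, rfl⟩
    · rintro ⟨u, hu, hux⟩
      refine ⟨⟨w, hw⟩⁻¹ * u * ⟨w, hw⟩, ?_, ?_⟩
      · simpa using (inferInstance : (N.comap π).Normal).conj_mem u hu (⟨w, hw⟩⁻¹)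
      · show w⁻¹ * (u : G) * w = x
        have hux' : (u : G) = w * x * w⁻¹ := hux
        rw [hux']; group
  obtain ⟨p, i, hp, hp2, hpi⟩ := exists_prime_pow hodd h1
  obtain ⟨h₀, hh₀⟩ := QuotientGroup.mk'_surjective (E.subgroupOf W) (h ^ i)
  have hdvd : p ∣ orderOf h₀ := hpi ▸ hh₀ ▸ orderOf_map_dvd π h₀
  refine ⟨p, ((h₀ ^ (orderOf h₀ / p) : W) : G), hp, hp2, ?_, SetLike.coe_mem _, ?_⟩
  · rw [Subgroup.orderOf_coe]
    exact orderOf_pow_orderOf_div (orderOf_pos h₀).ne' hdvd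
  · have : π (⟨a, ha⟩ * h₀ ^ (orderOf h₀ / p) * ⟨a, ha⟩⁻¹ * h₀ ^ (orderOf h₀ / p)) = 1 := by
      rw [map_mul, map_mul, map_mul, map_inv, map_pow, show π h₀ = h ^ i from hh₀, ← pow_mul,
        ← conj_pow, hinv, inv_pow, inv_mul_cancel]
    rw [hπ, QuotientGroup.mk'_apply, QuotientGroup.eq_one_iff] at this
    exact this

end CfsgLib.CITGroups
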