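import Cfsg.Agent.CITGroups.PairQuotient
import Cfsg.Agent.CITGroups.Defs

/-!
# The module of central involutions of `D`
-/

set_option autoImplicit false
set_option linter.style.haveILetI false
set_option linter.unusedSectionVars false

namespace CfsgLib.CITGroups

open Subgroup
open scoped commutatorElement Pointwise
open CfsgLib.EPPOSeven (JT MaxPair omegaCentral)

variable {G : Type*} [Group G] [Finite G]

/-- The fixed points of `T` on the central involutions of `D`. -/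
abbrev fixT (M : MaxPair G) : Subgroup G :=
  omegaCentral M.D ⊓ centralizer (M.T : Set G)

/-- What strong embedding says about the action on the central involutions of `D`. -/
structure LocalData (M : MaxPair G) : Prop where
  ff : FFModule M.N (omegaCentral M.D)
  centralizer_eq : M.N ⊓ centralizer (omegaCentral M.D : Set G) = M.D
  one_lt : 1 < Nat.card (fixT M)
  card_omega : Nat.card (omegaCentral M.D) = Nat.card (fixT M) * Nat.card (fixT M)
  card_T : Nat.card M.T = Nat.card M.D * Nat.card (fixT M)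
  card_stab : Nat.card (stab M) = (Nat.card (fixT M) - 1) * Nat.card M.T
  normal_fixT : stab M ≤ normalizer (fixT M : Set G)
  centralizer_fix : ∀ c ∈ fixT M, c ≠ 1 → ∀ m ∈ stab M, Commute m c → m ∈ M.T
  fix_eq : ∀ t ∈ M.T, t ∉ M.D → omegaCentral M.D ⊓ centralizer ({t} : Set G) = fixT M
  sq_mem : ∀ t ∈ M.T, t * t ∈ M.D
  quad : ∀ t ∈ M.T, ∀ u ∈ omegaCentral M.D, u * (t * u * t⁻¹) ∈ fixT M
  maxEA : ∀ A ∈ CfsgLib.PLocal.maxEAIn 2 M.T, ¬ A ≤ M.D →
    A ⊔ M.D = M.T ∧ Nat.card A = Nat.card ↥(A ⊓ M.D) * Nat.card (fixT M)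

theorem localData (h : IsCIT G) (M : MaxPair G) : LocalData M := by
  classical
  haveI : Fact (Nat.Prime 2) := ⟨Nat.prime_two⟩
  have Q := quotData h M
  obtain ⟨hNC, F⟩ := ffModule_of_core h (W := M.N) le_normalizer le_rfl M.D_isPGroup M.ne_bot
    fun P hPN hNP hP => core_le_D M le_rfl hPN hNP hP
  set U := omegaCentral M.D with hU
  set C := fixT M with hC
  have hTN : M.T ≤ M.N := inf_le_right
  have hUT : U ≤ M.T := (omegaCentral_le M.D).trans M.D_le_T
  have hDf : ∀ d ∈ M.D, ∀ u ∈ U, d * u * d⁻¹ = u := fun d hd u hu =>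
    F.conj_eq_of_mem (hNC.symm ▸ hd) hu
  have hmemE : ∀ {x : G}, x ∈ M.N ⊓ centralizer (U : Set G) ↔ x ∈ M.D := fun {x} => by rw [hNC]
  have hsqA : ∀ {A : Subgroup G}, A ∈ CfsgLib.PLocal.maxEAIn 2 M.T → ∀ a ∈ A, a * a = 1 :=
    fun hA a ha => by rw [← pow_two]; exact hA.2.1.2 a ha
  -- offenders
  have hoff : ∀ A ∈ CfsgLib.PLocal.maxEAIn 2 M.T, ¬ A ≤ M.D →
      Nat.card ↥(U ⊓ centralizer (A : Set G)) * Nat.card ↥(U ⊓ centralizer (A : Set G)) =
          Nat.card U ∧
        Nat.card A = Nat.card ↥(A ⊓ M.D) * Nat.card ↥(U ⊓ centralizer (A : Set G)) ∧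
        ∀ t ∈ M.T, t ∉ M.D → t * t ∈ M.D →
          U ⊓ centralizer ({t} : Set G) = U ⊓ centralizer (A : Set G) := by
    intro A hA hAD
    obtain ⟨h1, h2, -, h4⟩ := F.offender (hA.1.trans hTN) (hsqA hA) (by rw [hNC]; exact hAD)
      (F.offender_of_maxEA hUT hTN hA)
    rw [hNC] at h2
    exact ⟨h1, h2, fun t ht htD ht2 => h4 t (hTN ht) (fun e => htD (hmemE.1 e)) (hmemE.2 ht2)
      fun a ha => hmemE.2 (Q.central t ht htD ht2 a (hA.1 ha))⟩
  obtain ⟨A, hA, hAD⟩ := exists_maxEA_notLe h M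
  obtain ⟨a, haA, haD⟩ := SetLike.not_le_iff_exists.1 hAD
  have haT : a ∈ M.T := hA.1 haA
  have ha2 : a * a ∈ M.D := by rw [hsqA hA a haA]; exact one_mem _
  obtain ⟨hsq, hAcard, hfix⟩ := hoff A hA hAD
  set C₀ := U ⊓ centralizer (A : Set G) with hC₀
  have hC₀a : U ⊓ centralizer ({a} : Set G) = C₀ := hfix a haT haD ha2
  -- `stab M` normalises `C₀`
  have hconj : ∀ m ∈ stab M, ∀ t ∈ M.T, t ∉ M.D → t * t ∈ M.D →
      m * t * m⁻¹ ∈ M.T ∧ m * t * m⁻¹ ∉ M.D ∧ m * t * m⁻¹ * (m * t * m⁻¹) ∈ M.D := by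
    intro m hm t ht htD ht2
    refine ⟨(mem_normalizer_iff.1 (Q.T_normal hm) t).1 ht,
      fun e => htD ((mem_normalizer_iff.1 hm.1 t).2 e), ?_⟩
    rw [show m * t * m⁻¹ * (m * t * m⁻¹) = m * (t * t) * m⁻¹ by group]
    exact (mem_normalizer_iff.1 hm.1 _).1 ht2
  have hnorm : stab M ≤ normalizer (C₀ : Set G) := by
    intro m hm
    refine mem_normalizer_of_conj_mem fun x hx => ?_
    obtain ⟨h1, h2, h3⟩ := hconj m hm a haT haD ha2
    rw [← hfix _ h1 h2 h3]
    refine ⟨(mem_normalizer_iff.1 (F.normal hm.1) x).1 hx.1, mem_centralizer_singleton_iff.2 ?_⟩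
    have := mem_centralizer_iff.1 hx.2 a haA
    calc m * x * m⁻¹ * (m * a * m⁻¹) = m * (x * a) * m⁻¹ := by group
      _ = m * (a * x) * m⁻¹ := by rw [this]
      _ = m * a * m⁻¹ * (m * x * m⁻¹) := by group
  set q := Nat.card C₀ with hq
  have hq1 : 1 < q := by
    by_contra hle
    have hq0 : 0 < q := Nat.card_pos
    have : Nat.card U = 1 := by rw [← hsq, show q = 1 by omega]
    exact F.ne_bot (card_eq_one.1 this)
  -- counting
  obtain ⟨c, hc, hc1⟩ := C₀.bot_or_exists_ne_one.resolve_left fun e => by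
    rw [hq, e, card_bot] at hq1; omega
  have hcT : ∀ c ∈ C₀, c ≠ 1 → ∀ m ∈ stab M, Commute m c → m ∈ M.T := by
    intro c hc hc1 m hm hmc
    have ho : orderOf c = 2 := orderOf_two_of_mul_self (F.sq c hc.1) hc1
    obtain ⟨k, hk⟩ := h c ho ⟨m, mem_centralizer_singleton_iff.2 hmc⟩
    refine Q.mem_T m hm k ?_
    rw [show m ^ 2 ^ k = 1 from congrArg Subtype.val hk]
    exact one_mem _
  let f : stab M → {x : C₀ // (x : G) ≠ 1} := fun m =>
    ⟨⟨(m : G) * c * (m : G)⁻¹, (mem_normalizer_iff.1 (hnorm m.2) c).1 hc⟩,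
      fun e => hc1 (conj_eq_one_iff.1 e)⟩
  have hC₀ne : Nat.card {x : C₀ // (x : G) ≠ 1} = q - 1 := by
    haveI := Fintype.ofFinite C₀
    rw [hq, Nat.card_eq_fintype_card, Nat.card_eq_fintype_card,
      Fintype.card_congr (Equiv.subtypeEquivRight (q := fun x : C₀ => ¬ x = 1) fun x => by simp),
      Fintype.card_subtype_compl, Fintype.card_subtype_eq]
  set S := stab M ⊓ centralizer ({c} : Set G) with hS
  have hST : S ≤ M.T := fun m hm => hcT c hc hc1 m hm.1 (mem_centralizer_singleton_iff.1 hm.2)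
  have hfib : ∀ x, Nat.card {m : stab M // f m = x} ≤ Nat.card S := by
    intro x
    rcases isEmpty_or_nonempty {m : stab M // f m = x} with h' | ⟨⟨m₀, hm₀⟩⟩
    · simp
    refine Nat.card_le_card_of_injective (fun m => (⟨(m₀ : G)⁻¹ * m.1,
      Subgroup.mem_inf.2 ⟨(stab M).mul_mem ((stab M).inv_mem m₀.2) m.1.2,
        mem_centralizer_singleton_iff.2 ?_⟩⟩ : S)) ?_
    · have h1 : (m₀ : G) * c * (m₀ : G)⁻¹ = m.1 * c * (m.1 : G)⁻¹ :=
        congrArg (fun y : {x : C₀ // (x : G) ≠ 1} => ((y.1 : C₀) : G)) (hm₀.trans m.2.symm)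
      calc (m₀ : G)⁻¹ * m.1 * c = (m₀ : G)⁻¹ * (m.1 * c * (m.1 : G)⁻¹) * m.1 := by group
        _ = (m₀ : G)⁻¹ * ((m₀ : G) * c * (m₀ : G)⁻¹) * m.1 := by rw [h1]
        _ = c * ((m₀ : G)⁻¹ * m.1) := by group
    · intro m m' he
      exact Subtype.ext (Subtype.ext (mul_left_cancel (congrArg Subtype.val he)))
  have hup : Nat.card (stab M) ≤ (q - 1) * Nat.card S := by
    haveI := Fintype.ofFinite {x : C₀ // (x : G) ≠ 1}
    rw [← Nat.card_congr (Equiv.sigmaFiberEquiv f), Nat.card_sigma, ← hC₀ne,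
      Nat.card_eq_fintype_card (α := {x : C₀ // (x : G) ≠ 1})]
    refine (Finset.sum_le_sum fun x _ => hfib x).trans ?_
    rw [Finset.sum_const, Finset.card_univ, smul_eq_mul]
  have hlow : (q - 1) * Nat.card M.T ≤ Nat.card (stab M) := by
    set J := (A ⊓ M.D).subgroupOf A with hJ
    haveI : J.Normal := ⟨fun x hx y => by
      rwa [show y * x * y⁻¹ = x by
        rw [hA.2.1.1.is_comm.comm y x, mul_inv_cancel_right]]⟩
    have hqA : Nat.card (A ⧸ J) = q := by
      have h1 : Nat.card A = Nat.card (A ⧸ J) * Nat.card J := card_eq_card_quotient_mul_card_subgroup J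
      have h2 : Nat.card J = Nat.card ↥(A ⊓ M.D) :=
        Nat.card_congr (subgroupOfEquivOfLe inf_le_left).toEquiv
      rw [hAcard, h2, mul_comm] at h1
      exact (Nat.eq_of_mul_eq_mul_right Nat.card_pos h1).symm
    have hout : ∀ x : {x : A ⧸ J // x ≠ 1}, ((x.1.out : A) : G) ∉ M.D := fun x e =>
      x.2 (by rw [← QuotientGroup.out_eq' x.1, QuotientGroup.eq_one_iff]; exact ⟨(x.1.out).2, e⟩)
    have hm : ∀ x : {x : A ⧸ J // x ≠ 1}, ∃ m ∈ stab M,
        m * a * m⁻¹ * ((x.1.out : A) : G)⁻¹ ∈ M.D := fun x =>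
      Q.trans a haT haD ha2 _ (hA.1 (x.1.out).2) (hout x)
        (by rw [hsqA hA _ (x.1.out).2]; exact one_mem _)
    choose m hm1 hm2 using hm
    let g : {x : A ⧸ J // x ≠ 1} × M.T → stab M := fun p =>
      ⟨m p.1 * p.2, mul_mem (hm1 p.1) (Q.T_le p.2.2)⟩
    have hg : Function.Injective g := by
      rintro ⟨x, w⟩ ⟨y, w'⟩ he
      have he' : m x * (w : G) = m y * w' := congrArg Subtype.val he
      suffices hxy : x = y by
        subst hxy
        exact Prod.ext rfl (Subtype.ext (mul_left_cancel he'))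
      set v := (w' : G) * (w : G)⁻¹ with hv
      have hmx : m x = m y * v := by
        rw [hv, ← mul_assoc, ← he', mul_inv_cancel_right]
      have hvT : v ∈ M.T := mul_mem w'.2 (inv_mem w.2)
      have h1 : m x * a * (m x)⁻¹ * (m y * a * (m y)⁻¹)⁻¹ ∈ M.D := by
        rw [hmx, show m y * v * a * (m y * v)⁻¹ * (m y * a * (m y)⁻¹)⁻¹ =
          m y * ⁅a, v⁆⁻¹ * (m y)⁻¹ by rw [commutatorElement_def]; group]
        exact (mem_normalizer_iff.1 (hm1 y).1 _).1 (inv_mem (Q.central a haT haD ha2 v hvT))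
      set P := m x * a * (m x)⁻¹
      set R := m y * a * (m y)⁻¹
      set X := ((x.1.out : A) : G)
      set Y := ((y.1.out : A) : G)
      have h2 : X * Y⁻¹ ∈ M.D := by
        rw [show X * Y⁻¹ = (P * X⁻¹)⁻¹ * (P * R⁻¹) * (R * Y⁻¹) by group]
        exact mul_mem (mul_mem (inv_mem (hm2 x)) h1) (hm2 y)
      apply Subtype.ext
      rw [← QuotientGroup.out_eq' x.1, ← QuotientGroup.out_eq' y.1, QuotientGroup.eq]
      refine ⟨((x.1.out)⁻¹ * y.1.out : A).2, ?_⟩
      have hXY : X⁻¹ * Y = X * Y⁻¹ := by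
        rw [inv_eq_of_mul_eq_one_right (hsqA hA X (x.1.out).2),
          inv_eq_of_mul_eq_one_right (hsqA hA Y (y.1.out).2)]
      show X⁻¹ * Y ∈ M.D
      rw [hXY]; exact h2
    have h1 := Nat.card_le_card_of_injective g hg
    rw [Nat.card_prod] at h1
    refine le_trans (le_of_eq ?_) h1
    haveI := Fintype.ofFinite (A ⧸ J)
    rw [← hqA, Nat.card_eq_fintype_card (α := {x : A ⧸ J // x ≠ 1}),
      Nat.card_eq_fintype_card (α := A ⧸ J), Fintype.card_subtype_compl, Fintype.card_subtype_eq]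
  have hSeq : S = M.T := eq_of_le_of_card_ge hST
    (Nat.le_of_mul_le_mul_left (hlow.trans hup) (by omega))
  have hcard : Nat.card (stab M) = (q - 1) * Nat.card M.T := le_antisymm (hSeq ▸ hup) hlow
  -- `T` centralises `C₀`
  have hTc : ∀ c' ∈ C₀, ∀ t ∈ M.T, Commute t c' := by
    intro c' hc' t ht
    rcases eq_or_ne c' 1 with rfl | hc'1
    · exact Commute.one_right t
    by_contra hne
    have hsurj : ∃ m : stab M, (m : G) * c * (m : G)⁻¹ = c' := by
      have hbig : ∀ x, ∃ m, f m = x := by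
        by_contra hns
        push Not at hns
        obtain ⟨x₀, hx₀⟩ := hns
        have hlt : Nat.card (stab M) ≤ (q - 1 - 1) * Nat.card S := by
          haveI := Fintype.ofFinite {x : C₀ // (x : G) ≠ 1}
          rw [← Nat.card_congr (Equiv.sigmaFiberEquiv f), Nat.card_sigma,
            ← Finset.sum_erase (Finset.univ : Finset {x : C₀ // (x : G) ≠ 1}) (a := x₀)
              (by
                haveI : IsEmpty {m : stab M // f m = x₀} := ⟨fun m => hx₀ m.1 m.2⟩
                exact Nat.card_of_isEmpty)]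
          refine (Finset.sum_le_sum fun x _ => hfib x).trans ?_
          rw [Finset.sum_const, Finset.card_erase_of_mem (Finset.mem_univ _), Finset.card_univ,
            ← Nat.card_eq_fintype_card, hC₀ne, smul_eq_mul]
        rw [hcard, hSeq] at hlt
        have := Nat.le_of_mul_le_mul_right hlt Nat.card_pos
        omega
      obtain ⟨m, hm⟩ := hbig ⟨⟨c', hc'⟩, hc'1⟩
      exact ⟨m, congrArg (fun y : {x : C₀ // (x : G) ≠ 1} => ((y.1 : C₀) : G)) hm⟩
    obtain ⟨m, rfl⟩ := hsurj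
    refine hne ?_
    have ht' : (m : G)⁻¹ * t * m ∈ M.T := (mem_normalizer_iff''.1 (Q.T_normal m.2) t).1 ht
    have := mem_centralizer_singleton_iff.1 ((hSeq.ge ht').2)
    show t * ((m : G) * c * (m : G)⁻¹) = (m : G) * c * (m : G)⁻¹ * t
    calc t * ((m : G) * c * (m : G)⁻¹) = (m : G) * ((m : G)⁻¹ * t * m * c) * (m : G)⁻¹ := by group
      _ = (m : G) * (c * ((m : G)⁻¹ * t * m)) * (m : G)⁻¹ := by rw [this]
      _ = (m : G) * c * (m : G)⁻¹ * t := by group
  have hCC₀ : C = C₀ := le_antisymm (CfsgLib.PLocal.inf_centralizer_mono U hA.1)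
    (le_inf inf_le_left fun x hx => mem_centralizer_iff.2 fun t ht => (hTc x hx t ht).eq)
  -- quadratic action
  have hquad : ∀ t ∈ M.T, ∀ u ∈ U, u * (t * u * t⁻¹) ∈ C₀ := by
    intro t ht u hu
    have hu' : t * u * t⁻¹ ∈ U := (mem_normalizer_iff.1 (F.normal (hTN ht)) u).1 hu
    have hau : a * u * a⁻¹ ∈ U := (mem_normalizer_iff.1 (F.normal (hTN haT)) u).1 hu
    set k := u * (a * u * a⁻¹) with hk
    have hkC : k ∈ C₀ := by
      rw [← hC₀a]
      refine ⟨mul_mem hu hau, mem_centralizer_singleton_iff.2 ?_⟩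
      have hai : a⁻¹ = a := inv_eq_of_mul_eq_one_right (hsqA hA a haA)
      calc u * (a * u * a⁻¹) * a = a * u * a⁻¹ * u * a := by rw [F.comm hu hau]
        _ = a * (u * (a * u * a⁻¹)) := by simp only [hai, mul_assoc]
    have hau' : a * u * a⁻¹ = u * k := by rw [hk, ← mul_assoc u u, F.sq u hu, one_mul]
    rw [← hC₀a]
    refine ⟨mul_mem hu hu', mem_centralizer_singleton_iff.2 ?_⟩
    refine (mul_inv_eq_iff_eq_mul.1 ?_).symm
    have h2 : a * (t * u * t⁻¹) * a⁻¹ = t * u * t⁻¹ * k := by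
      calc a * (t * u * t⁻¹) * a⁻¹ = ⁅a, t⁆ * (t * (a * u * a⁻¹) * t⁻¹) * ⁅a, t⁆⁻¹ := by
            rw [commutatorElement_def]; group
        _ = t * (a * u * a⁻¹) * t⁻¹ := hDf _ (Q.central a haT haD ha2 t ht) _
              ((mem_normalizer_iff.1 (F.normal (hTN ht)) _).1 hau)
        _ = t * u * t⁻¹ * k := by
              rw [hau', show t * (u * k) * t⁻¹ = t * u * t⁻¹ * (t * k * t⁻¹) by group,
                (hTc k hkC t ht).eq, mul_inv_cancel_right]
    calc a * (u * (t * u * t⁻¹)) * a⁻¹ = a * u * a⁻¹ * (a * (t * u * t⁻¹) * a⁻¹) := by group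
      _ = u * k * (t * u * t⁻¹ * k) := by rw [hau', h2]
      _ = u * (t * u * t⁻¹) * (k * k) := by
          rw [mul_assoc u k, ← mul_assoc k, F.comm hkC.1 hu']
          simp only [mul_assoc]
      _ = u * (t * u * t⁻¹) := by rw [F.sq k hkC.1, mul_one]
  have hsqT : ∀ t ∈ M.T, t * t ∈ M.D := by
    intro t ht
    refine hmemE.1 ⟨mul_mem (hTN ht) (hTN ht), mem_centralizer_iff.2 fun u hu => ?_⟩
    set k := u * (t * u * t⁻¹) with hk
    have hkC : k ∈ C₀ := hquad t ht u hu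
    have htu : t * u * t⁻¹ = u * k := by rw [hk, ← mul_assoc u u, F.sq u hu, one_mul]
    have : t * t * u * (t * t)⁻¹ = u := by
      calc t * t * u * (t * t)⁻¹ = t * (t * u * t⁻¹) * t⁻¹ := by group
        _ = t * (u * k) * t⁻¹ := by rw [htu]
        _ = t * u * t⁻¹ * (t * k * t⁻¹) := by group
        _ = u := by
            rw [(hTc k hkC t ht).eq, mul_inv_cancel_right, htu, mul_assoc, F.sq k hkC.1, mul_one]
    calc u * (t * t) = t * t * u * (t * t)⁻¹ * (t * t) := by rw [this]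
      _ = t * t * u := by group
  have hfixall : ∀ t ∈ M.T, t ∉ M.D → U ⊓ centralizer ({t} : Set G) = C₀ := fun t ht htD =>
    hfix t ht htD (hsqT t ht)
  -- the order of `T`
  have hCU : ¬ U ≤ C₀ := fun hle => by
    have : Nat.card U = q := le_antisymm (card_le_of_le hle) (card_le_of_le inf_le_left)
    rw [← hsq] at this
    nlinarith
  obtain ⟨u, hu, huC⟩ := SetLike.not_le_iff_exists.1 hCU
  have hTle : Nat.card M.T ≤ Nat.card M.D * q := by
    refine (F.card_le_of_hom (B := M.T) (K := C₀) hTN hu (fun k hk t ht => ?_)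
      (fun t ht => hquad t ht u hu) (fun t ht htu => ?_)).trans
      (Nat.mul_le_mul_right _ (card_le_of_le fun x hx => hmemE.1 hx.2))
    · rw [(hTc k hk t ht).eq, mul_inv_cancel_right]
    · refine hmemE.2 (by_contra fun htD => huC ?_)
      rw [← hfixall t ht htD]
      exact ⟨hu, mem_centralizer_singleton_iff.2 (mul_inv_eq_iff_eq_mul.1 htu).symm⟩
  have hall : ∀ B ∈ CfsgLib.PLocal.maxEAIn 2 M.T, ¬ B ≤ M.D →
      B ⊔ M.D = M.T ∧ Nat.card B = Nat.card ↥(B ⊓ M.D) * q ∧ Nat.card M.T = Nat.card M.D * q := by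
    intro B hB hBD
    obtain ⟨h1, h2, -⟩ := hoff B hB hBD
    have hqB : Nat.card ↥(U ⊓ centralizer (B : Set G)) = q :=
      Nat.mul_self_inj.1 (h1.trans hsq.symm)
    rw [hqB] at h2
    have hle : B ⊔ M.D ≤ M.T := sup_le hB.1 M.D_le_T
    have h3 := CfsgLib.PLocal.card_sup_mul_card_inf (A := B) (B := M.D)
      (hB.1.trans hTN)
    have h4 : Nat.card ↥(B ⊔ M.D) = Nat.card M.D * q := by
      refine Nat.eq_of_mul_eq_mul_right (Nat.card_pos (α := ↥(B ⊓ M.D))) ?_
      rw [h3, h2]; ring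
    exact ⟨eq_of_le_of_card_ge hle (h4 ▸ hTle), h2,
      le_antisymm hTle (h4 ▸ card_le_of_le hle)⟩
  have hqC : Nat.card C = q := by rw [hCC₀]
  refine ⟨F, hNC, by rw [hqC]; exact hq1, by rw [hqC, hsq], by rw [hqC]; exact (hall A hA hAD).2.2,
    by rw [hqC]; exact hcard, by rw [show fixT M = C₀ from hCC₀]; exact hnorm, by rw [show fixT M = C₀ from hCC₀]; exact hcT,
    by rw [show fixT M = C₀ from hCC₀]; exact hfixall, hsqT, by rw [show fixT M = C₀ from hCC₀]; exact hquad, fun B hB hBD => ?_⟩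
  rw [hqC]
  exact ⟨(hall B hB hBD).1, (hall B hB hBD).2.1⟩

end CfsgLib.CITGroups
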