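import Cfsg.Agent.CITGroups.Assembly
import Cfsg.Agent.CITGroups.FourCase

/-!
# The simple groups with two-group involution centralisers
-/

set_option autoImplicit false

namespace CfsgLib.CITGroups

/-- A finite nonabelian simple group with two-group involution centralisers is `PSL₂`, `PSL₃` over
four elements, or a simple group of Suzuki order with a strongly embedded kernel. -/
theorem simple_classification {G : Type*} [Group G] [Finite G] [IsSimpleGroup G]
    (hna : ∃ a b : G, a * b ≠ b * a) (h : IsCIT G) :
    (∃ (F : Type) (_ : Field F) (_ : Fintype F),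
        (Fintype.card F = 9 ∨ (∃ n : ℕ, Fintype.card F = 2 ^ n) ∨
          ((Fintype.card F).Prime ∧ ∃ k : ℕ, Fintype.card F = 2 ^ k + 1 ∨ Fintype.card F + 1 = 2 ^ k)) ∧
        Nonempty (G ≃* Matrix.ProjectiveSpecialLinearGroup (Fin 2) F)) ∨
    (∃ (F : Type) (_ : Field F) (_ : Fintype F), Fintype.card F = 4 ∧
        Nonempty (G ≃* Matrix.ProjectiveSpecialLinearGroup (Fin 3) F)) ∨
    ∃ H : Subgroup G, SEKernel H ∧ Cfsg.IsSuzuki G :=
  classification_of_fourCase hna h fun M hq => fourFrame_of_maxPair hna h M hq

end CfsgLib.CITGroups
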