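import Cfsg.Agent.CITGroups.FF
import Cfsg.Agent.CITGroups.StronglyEmbedded
import Cfsg.Agent.EPPOSeven.Four

/-!
# The normaliser of the intersection of a best bad pair
-/

set_option autoImplicit false
set_option linter.style.haveILetI false
set_option linter.unusedSectionVars false

namespace CfsgLib.CITGroups

open Subgroup
open scoped commutatorElement Pointwise
open CfsgLib.EPPOSeven (JT MaxPair omegaCentral)

variable {G : Type*} [Group G] [Finite G]

theorem mem_normalizer_of_conj_mem {D : Subgroup G} {g : G} (h : ∀ x ∈ D, g * x * g⁻¹ ∈ D) :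
    g ∈ normalizer (D : Set G) := by
  refine mem_normalizer_iff_map_conj_eq.2 (eq_of_le_of_card_ge ?_ ?_)
  · rintro _ ⟨x, hx, rfl⟩
    exact h x hx
  · exact (card_map_of_injective (MulAut.conj g).injective).ge

theorem omegaCentral_le (D : Subgroup G) : omegaCentral D ≤ D := fun _ hv => hv.1

theorem omegaCentral_ne_bot {D : Subgroup G} (hD : IsPGroup 2 D) (h1 : D ≠ ⊥) :
    omegaCentral D ≠ ⊥ := by
  obtain ⟨z, hz, hzo, hzc⟩ := exists_central_invol hD h1
  intro e
  have : z ∈ omegaCentral D := ⟨hz, fun d hd => hzc d hd, CfsgLib.Small.mul_self_of_orderOf_two hzo⟩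
  rw [e, mem_bot] at this
  rw [this, orderOf_one] at hzo
  omega

/-- The module of central involutions of the largest normal two-subgroup. -/
theorem ffModule_of_core (h : IsCIT G) {W E : Subgroup G} (hEW : E ≤ W)
    (hWE : W ≤ normalizer (E : Set G)) (hE : IsPGroup 2 E) (hE1 : E ≠ ⊥)
    (hcore : ∀ P : Subgroup G, P ≤ W → W ≤ normalizer (P : Set G) → IsPGroup 2 P → P ≤ E) :
    W ⊓ centralizer (omegaCentral E : Set G) = E ∧ FFModule W (omegaCentral E) := by
  have hU2 : IsPGroup 2 (omegaCentral E) := hE.to_le (omegaCentral_le E)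
  have hU1 := omegaCentral_ne_bot hE hE1
  have hWU : W ≤ normalizer (omegaCentral E : Set G) :=
    hWE.trans (CfsgLib.EPPOSeven.normalizer_le_normalizer_omegaCentral E)
  have h2 : IsPGroup 2 ↥(W ⊓ centralizer (omegaCentral E : Set G)) :=
    (h.isPGroup_centralizer hU2 hU1).to_le inf_le_right
  have heq : W ⊓ centralizer (omegaCentral E : Set G) = E := by
    refine le_antisymm (hcore _ inf_le_left (fun w hw => mem_normalizer_of_conj_mem fun x hx =>
      mem_inf.2 ⟨W.mul_mem (W.mul_mem hw hx.1) (W.inv_mem hw), mem_centralizer_iff.2 fun u hu => ?_⟩) h2)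
      (le_inf hEW fun e he => mem_centralizer_iff.2 fun u hu => (hu.2.1 e he).symm)
    have hu' := mem_centralizer_iff.1 hx.2 _ ((mem_normalizer_iff''.1 (hWU hw) u).1 hu)
    calc u * (w * x * w⁻¹) = w * ((w⁻¹ * u * w) * x) * w⁻¹ := by group
      _ = w * (x * (w⁻¹ * u * w)) * w⁻¹ := by rw [hu']
      _ = w * x * w⁻¹ * u := by group
  exact ⟨heq, h, fun u hu => hu.2.2, hU1, hWU, h2, fun P hPW hWP hP => heq.symm ▸ hcore P hPW hWP hP⟩

/-- An element of a two-group outside a normal subgroup that is central of order two modulo it. -/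
theorem exists_central_mod {Z E : Subgroup G} (hZ : IsPGroup 2 Z) (hEZ : E ≤ Z)
    (hZE : Z ≤ normalizer (E : Set G)) (hne : E ≠ Z) :
    ∃ z ∈ Z, z ∉ E ∧ z * z ∈ E ∧ ∀ w ∈ Z, ⁅z, w⁆ ∈ E := by
  haveI : Fact (Nat.Prime 2) := ⟨Nat.prime_two⟩
  haveI : (E.subgroupOf Z).Normal := normal_subgroupOf_iff_le_normalizer hEZ |>.2 hZE
  set π := QuotientGroup.mk' (E.subgroupOf Z) with hπ
  haveI : Nontrivial (Z ⧸ E.subgroupOf Z) := (QuotientGroup.nontrivial_iff).2 fun e =>
    hne (le_antisymm hEZ (subgroupOf_eq_top.1 e))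
  haveI := (hZ.to_quotient (E.subgroupOf Z)).center_nontrivial
  obtain ⟨c, hc, hco⟩ := exists_orderOf_two
    (((hZ.to_quotient (E.subgroupOf Z))).to_subgroup (center (Z ⧸ E.subgroupOf Z)))
    ((center (Z ⧸ E.subgroupOf Z)).nontrivial_iff_ne_bot.1 inferInstance)
  obtain ⟨z, rfl⟩ := QuotientGroup.mk'_surjective _ c
  refine ⟨z, z.2, fun hz => ?_, ?_, fun w hw => ?_⟩
  · have h1 : π z = 1 := by rw [hπ, QuotientGroup.mk'_apply, QuotientGroup.eq_one_iff]; exact hz
    rw [h1, orderOf_one] at hco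
    omega
  · have h1 : π (z * z) = 1 := by rw [map_mul]; exact CfsgLib.Small.mul_self_of_orderOf_two hco
    rw [hπ, QuotientGroup.mk'_apply, QuotientGroup.eq_one_iff] at h1
    exact h1
  · have h1 : π ⁅z, ⟨w, hw⟩⁆ = 1 := by
      rw [map_commutatorElement, commutatorElement_eq_one_iff_mul_comm]
      exact (mem_center_iff.1 hc _).symm
    rw [hπ, QuotientGroup.mk'_apply, QuotientGroup.eq_one_iff] at h1
    exact h1

variable (h : IsCIT G) (M : MaxPair G)

/-- A normal two-subgroup of an overgroup of the normaliser of `D` lies in `D`. -/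
theorem core_le_D {W P : Subgroup G} (hNW : M.N ≤ W) (hPW : P ≤ W)
    (hWP : W ≤ normalizer (P : Set G)) (hP : IsPGroup 2 P) : P ≤ M.D := by
  haveI : Fact (Nat.Prime 2) := ⟨Nat.prime_two⟩
  -- normal two-subgroups of `N` lie in both maximal two-subgroups
  have hN : ∀ Q : Subgroup G, Q ≤ M.N → M.N ≤ normalizer (Q : Set G) → IsPGroup 2 Q → Q ≤ M.D := by
    intro Q hQN hNQ hQ
    have key : ∀ R : Sylow 2 G,
        (∀ Z : Subgroup G, IsPGroup 2 Z → Z ≤ M.N → (R : Subgroup G) ⊓ M.N ≤ Z →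
          Z = (R : Subgroup G) ⊓ M.N) → Q ≤ R := by
      intro R hR
      have h2 : IsPGroup 2 ↥(Q ⊔ (R : Subgroup G) ⊓ M.N) :=
        hQ.to_sup_of_normal_left' (R.2.to_le inf_le_left) (inf_le_right.trans hNQ)
      exact (le_sup_left.trans (hR _ h2 (sup_le hQN inf_le_right) le_sup_right).le).trans inf_le_left
    rw [M.hD]
    exact le_inf (key _ M.max₁) (key _ M.max₂)
  have hQD : P ⊓ M.N ≤ M.D := hN _ inf_le_right
    (fun n hn => mem_normalizer_of_conj_mem fun x hx => mem_inf.2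
      ⟨(mem_normalizer_iff.1 (hWP (hNW hn)) x).1 hx.1, M.N.mul_mem (M.N.mul_mem hn hx.2) (M.N.inv_mem hn)⟩)
    (hP.to_le inf_le_left)
  have hDW : M.D ≤ W := le_normalizer.trans hNW
  have h2 : IsPGroup 2 ↥(P ⊔ M.D) := hP.to_sup_of_normal_left' M.D_isPGroup (hDW.trans hWP)
  by_contra hPD
  obtain ⟨g, hg, hgD, hgN⟩ := CfsgLib.EPPOSeven.exists_normalizing_notMem h2 le_sup_right
    (fun e => hPD (le_sup_left.trans e.ge))
  obtain ⟨p, hp, d, hd, rfl⟩ : g ∈ ((P : Set G) * (M.D : Set G) : Set G) := by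
    rw [← Subgroup.coe_mul_of_right_le_normalizer_left P M.D (hDW.trans hWP)]
    exact hg
  refine hgD (mul_mem (hQD ⟨hp, ?_⟩) hd)
  simpa using mul_mem hgN (inv_mem (le_normalizer hd : d ∈ M.N))

include h

/-- The central argument: no overgroup `W` of the normaliser of `D` has smaller core with a maximal
elementary subgroup outside `D`. -/
theorem false_of_core {W E Z : Subgroup G} (hNW : M.N ≤ W) (hEW : E ≤ W)
    (hWE : W ≤ normalizer (E : Set G)) (hE : IsPGroup 2 E) (hE1 : E ≠ ⊥)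
    (hcore : ∀ P : Subgroup G, P ≤ W → W ≤ normalizer (P : Set G) → IsPGroup 2 P → P ≤ E)
    (hED : E < M.D) (hDZ : M.D ≤ Z) (hZW : Z ≤ W) (hZ : IsPGroup 2 Z) (hJ : ¬ JT Z ≤ M.D) :
    False := by
  haveI : Fact (Nat.Prime 2) := ⟨Nat.prime_two⟩
  obtain ⟨hWU, F⟩ := ffModule_of_core h hEW hWE hE hE1 hcore
  set U := omegaCentral E with hU
  have hEZ : E ≤ Z := hED.le.trans hDZ
  have hUZ : U ≤ Z := (omegaCentral_le E).trans hEZ
  obtain ⟨z, hzZ, hzE, hz2, hzc⟩ := exists_central_mod hZ hEZ (hZW.trans hWE)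
    fun e => absurd (e ▸ hDZ) (not_le_of_gt hED)
  -- `z` lies in `N`
  have hzN : z ∈ M.N := mem_normalizer_of_conj_mem fun d hd => by
    rw [show z * d * z⁻¹ = ⁅z, d⁆ * d by rw [commutatorElement_def]; group]
    exact mul_mem (hED.le (hzc d (hDZ hd))) hd
  -- `z` lies in `D`
  have hzD : z ∈ M.D := by
    haveI : (E.subgroupOf M.N).Normal :=
      normal_subgroupOf_iff_le_normalizer (hED.le.trans le_normalizer) |>.2 (hNW.trans hWE)
    set π := QuotientGroup.mk' (E.subgroupOf M.N) with hπ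
    set K₀ := (centralizer ((M.D.subgroupOf M.N).map π : Set (M.N ⧸ E.subgroupOf M.N))).comap π
      with hK₀
    have hmemK : ∀ c : M.N, c ∈ K₀ ↔ ∀ d ∈ M.D, ⁅(c : G), d⁆ ∈ E := by
      intro c
      rw [hK₀, mem_comap, mem_centralizer_iff]
      constructor
      · intro hc d hd
        have h1 : π ⁅c, ⟨d, le_normalizer hd⟩⁆ = 1 := by
          rw [map_commutatorElement, commutatorElement_eq_one_iff_mul_comm]
          exact (hc _ ⟨⟨d, le_normalizer hd⟩, hd, rfl⟩).symm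
        rw [hπ, QuotientGroup.mk'_apply, QuotientGroup.eq_one_iff] at h1
        exact h1
      · rintro hc _ ⟨d, hd, rfl⟩
        have h1 : π ⁅c, d⁆ = 1 := by
          rw [hπ, QuotientGroup.mk'_apply, QuotientGroup.eq_one_iff]
          exact hc d hd
        rw [map_commutatorElement, commutatorElement_eq_one_iff_mul_comm] at h1
        exact h1.symm
    haveI : (M.D.subgroupOf M.N).Normal :=
      normal_subgroupOf_iff_le_normalizer le_normalizer |>.2 le_rfl
    haveI : ((M.D.subgroupOf M.N).map π).Normal :=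
      Normal.map inferInstance π (QuotientGroup.mk'_surjective _)
    have hK2 : IsPGroup 2 ↥(K₀.map M.N.subtype) := by
      refine isPGroup_two_of_forall ?_
      rintro _ ⟨y, hy, rfl⟩ ho
      by_contra hy1
      obtain ⟨p, i, hp, hp2, hpi⟩ := exists_prime_pow ho hy1
      have hc := (hmemK (y ^ i)).1 (pow_mem hy i)
      rw [SubgroupClass.coe_pow] at hc
      set y' := ((y : M.N) : G) ^ i with hy'
      obtain ⟨t, ht, htE⟩ := SetLike.exists_of_lt hED
      have hyN : y' ∈ M.N := pow_mem y.2 i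
      obtain ⟨e, he, hye⟩ := exists_fixed_in_coset hE hp hp2 hpi (hWE (hNW hyN)) (t := t) (by
        have h3 := (mem_normalizer_iff''.1 ((hNW.trans hWE) (le_normalizer ht)) _).1 (hc t ht)
        rw [show t⁻¹ * ⁅y', t⁆ * t = t⁻¹ * (y' * t * y'⁻¹) by rw [commutatorElement_def]; group] at h3
        exact h3)
      refine htE ?_
      have h4 := h.eq_one_of_mem M.D_isPGroup (mul_mem ht (hED.le he))
        (odd_orderOf_of_prime hp hp2 hpi)
        (fun h5 => hp.one_lt.ne' (by rw [← hpi]; exact orderOf_eq_one_iff.2 h5)) hye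
      rw [eq_inv_of_mul_eq_one_left h4]
      exact inv_mem he
    refine core_le_D M le_rfl (map_subtype_le K₀) ?_ hK2 ⟨⟨z, hzN⟩, (hmemK ⟨z, hzN⟩).2
      (fun d hd => hzc d (hDZ hd)), rfl⟩
    intro n hn
    refine mem_normalizer_of_conj_mem ?_
    rintro _ ⟨c, hc, rfl⟩
    exact ⟨⟨n, hn⟩ * c * ⟨n, hn⟩⁻¹,
      (inferInstance : K₀.Normal).conj_mem c hc _, rfl⟩
  set U₀ := U ⊓ centralizer (M.D : Set G) with hU₀
  have hU₀1 : U₀ ≠ ⊥ := by
    have hDn : M.D ≤ normalizer (U : Set G) := (hDZ.trans hZW).trans F.normal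
    haveI : (U.subgroupOf M.D).Normal :=
      normal_subgroupOf_iff_le_normalizer ((omegaCentral_le E).trans hED.le) |>.2 hDn
    haveI : Group.IsNilpotent M.D := M.D_isPGroup.isNilpotent
    have hne : U.subgroupOf M.D ≠ ⊥ := fun e => F.ne_bot <| by
      rw [← map_subgroupOf_eq_of_le (show U ≤ M.D from (omegaCentral_le E).trans hED.le), e,
        Subgroup.map_bot]
    obtain ⟨u, hu, hu1⟩ := (Subgroup.bot_or_exists_ne_one _).resolve_left
      (CfsgLib.Solvable.inf_center_ne_bot hne)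
    intro e
    have : (u : G) ∈ U₀ := ⟨hu.1, mem_centralizer_iff.2 fun d hd =>
      congrArg Subtype.val (mem_center_iff.1 hu.2 ⟨d, hd⟩)⟩
    rw [e, mem_bot] at this
    exact hu1 (Subtype.ext this)
  have hU₀z : U₀ ≤ U ⊓ centralizer ({z} : Set G) := le_inf inf_le_left fun u hu =>
    mem_centralizer_singleton_iff.2 (mem_centralizer_iff.1 hu.2 z hzD).symm
  have hzE' : z ∉ W ⊓ centralizer (U : Set G) := by rw [hWU]; exact hzE
  have hz2' : z * z ∈ W ⊓ centralizer (U : Set G) := by rw [hWU]; exact hz2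
  -- the Thompson subgroup centralises the fixed points of `z`
  have hJc : JT Z ≤ centralizer ((U ⊓ centralizer ({z} : Set G) : Subgroup G) : Set G) := by
    rw [JT, CfsgLib.PLocal.thompsonSubgroupOf_eq]
    refine sSup_le fun A hA => ?_
    by_cases hAE : A ≤ W ⊓ centralizer (U : Set G)
    · exact fun a ha => mem_centralizer_iff.2 fun u hu => mem_centralizer_iff.1 (hAE ha).2 u hu.1
    · obtain ⟨-, -, -, hfix⟩ := F.offender (hA.1.trans hZW)
        (fun a ha => by rw [← pow_two]; exact hA.2.1.2 a ha) hAE (F.offender_of_maxEA hUZ hZW hA)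
      rw [hfix z (hZW hzZ) hzE' hz2' fun a ha => by rw [hWU]; exact hzc a (hA.1 ha)]
      exact fun a ha => mem_centralizer_iff.2 fun u hu => (mem_centralizer_iff.1 hu.2 a ha).symm
  -- an element of `N` outside `D` centralising `U₀`
  have hDJ : M.D ≤ normalizer ((JT Z : Subgroup G) : Set G) :=
    hDZ.trans (le_normalizer.trans (CfsgLib.PLocal.normalizer_le_normalizer_thompsonSubgroupOf 2 Z))
  have hP : IsPGroup 2 ↥(JT Z ⊔ M.D) := hZ.to_le (sup_le (CfsgLib.EPPOSeven.JT_le Z) hDZ)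
  obtain ⟨g, hg, hgD, hgN⟩ := CfsgLib.EPPOSeven.exists_normalizing_notMem hP le_sup_right
    (fun e => hJ (le_sup_left.trans e.ge))
  have hgc : g ∈ centralizer (U₀ : Set G) := (sup_le (hJc.trans (centralizer_le hU₀z))
    (fun d hd => mem_centralizer_iff.2 fun u hu => (mem_centralizer_iff.1 hu.2 d hd).symm) :
      JT Z ⊔ M.D ≤ centralizer (U₀ : Set G)) hg
  refine hgD (core_le_D M le_rfl (inf_le_left : M.N ⊓ centralizer (U₀ : Set G) ≤ M.N) ?_
    ((h.isPGroup_centralizer (hE.to_le (inf_le_left.trans (omegaCentral_le E))) hU₀1).to_le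
      inf_le_right) ⟨hgN, hgc⟩)
  intro n hn
  refine mem_normalizer_of_conj_mem fun x hx => mem_inf.2 ⟨M.N.mul_mem (M.N.mul_mem hn hx.1)
    (M.N.inv_mem hn), mem_centralizer_iff.2 fun u hu => ?_⟩
  have hu₀ : n⁻¹ * u * n ∈ U₀ := by
    refine ⟨(mem_normalizer_iff''.1 (F.normal (hNW hn)) u).1 hu.1, mem_centralizer_iff.2 fun d hd => ?_⟩
    have := mem_centralizer_iff.1 hu.2 _ ((mem_normalizer_iff.1 hn d).1 hd)
    calc d * (n⁻¹ * u * n) = n⁻¹ * ((n * d * n⁻¹) * u) * n := by group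
      _ = n⁻¹ * (u * (n * d * n⁻¹)) * n := by rw [this]
      _ = n⁻¹ * u * n * d := by group
  calc u * (n * x * n⁻¹) = n * ((n⁻¹ * u * n) * x) * n⁻¹ := by group
    _ = n * (x * (n⁻¹ * u * n)) * n⁻¹ := by rw [mem_centralizer_iff.1 hx.2 _ hu₀]
    _ = n * x * n⁻¹ * u := by group

omit h in
/-- Sylow subgroups sharing more than `D` have the same Thompson subgroup. -/
theorem JT_eq_of_lt (U R : Sylow 2 G) {T : Subgroup G} (hDT : M.D < T) (hTU : T ≤ U) (hTR : T ≤ R) :
    JT (U : Subgroup G) = JT (R : Subgroup G) := by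
  refine M.best U R (fun e => not_lt_bot (lt_of_lt_of_le hDT (e ▸ le_inf hTU hTR))) ?_
  refine lt_of_lt_of_le ?_ (card_le_of_le (le_inf hTU hTR))
  exact lt_of_le_of_ne (card_le_of_le hDT.le) fun e => hDT.ne (eq_of_le_of_card_ge hDT.le e.ge)

/-- Some maximal elementary subgroup of `T` is not in `D`. -/
theorem exists_maxEA_notLe : ∃ A ∈ CfsgLib.PLocal.maxEAIn 2 M.T, ¬ A ≤ M.D := by
  haveI : Fact (Nat.Prime 2) := ⟨Nat.prime_two⟩
  by_contra hcon
  push Not at hcon
  have hJle : JT M.T ≤ M.D := by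
    rw [JT, CfsgLib.PLocal.thompsonSubgroupOf_eq]
    exact sSup_le hcon
  have hJD : JT M.D ≠ ⊥ := CfsgLib.EPPOSeven.JT_ne_bot M.D_isPGroup M.ne_bot
  set W := normalizer ((JT M.D : Subgroup G) : Set G) with hW
  have hNW : M.N ≤ W := CfsgLib.PLocal.normalizer_le_normalizer_thompsonSubgroupOf 2 M.D
  obtain ⟨Z₁, hT₁, hZ₁W, hZ₁, hZ₁max⟩ := CfsgLib.EPPOSeven.exists_maximal_two_subgroup
    M.T_isPGroup (inf_le_right.trans hNW : M.T ≤ W)
  by_cases hJZ : JT Z₁ ≤ M.D
  · -- both maximal subgroups are Sylow subgroups with the same Thompson subgroup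
    have heq₁ : JT M.D = JT Z₁ :=
      CfsgLib.PLocal.thompsonSubgroupOf_eq_of_le (M.D_le_T.trans hT₁) hJZ
    have key : ∀ Z : Subgroup G, IsPGroup 2 Z → Z ≤ W →
        (∀ P : Subgroup G, IsPGroup 2 P → P ≤ W → Z ≤ P → P = Z) →
        ∃ U : Sylow 2 G, (U : Subgroup G) = Z ∧ JT (U : Subgroup G) = JT M.D := by
      intro Z hZ hZW hZmax
      obtain ⟨w, hw, hwZ⟩ := CfsgLib.EPPOSeven.exists_conj_maximal hZ₁ hZ₁W hZ₁max hZ hZW hZmax
      have hJ : JT Z = JT M.D := by
        rw [← hwZ, ← CfsgLib.EPPOSeven.JT_conj, ← heq₁]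
        exact mem_normalizer_iff_map_conj_eq.1 hw
      obtain ⟨U, hU⟩ := hZ.exists_le_sylow
      have hUZ : (U : Subgroup G) = Z := by
        by_contra hne
        obtain ⟨g, hgU, hgZ, hgN⟩ := CfsgLib.EPPOSeven.exists_normalizing_notMem U.2 hU (Ne.symm hne)
        have hgW : g ∈ W := by
          rw [hW, ← hJ]
          exact CfsgLib.PLocal.normalizer_le_normalizer_thompsonSubgroupOf 2 Z hgN
        have := hZmax ((U : Subgroup G) ⊓ W) (U.2.to_le inf_le_left) inf_le_right (le_inf hU hZW)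
        exact hgZ (this ▸ ⟨hgU, hgW⟩)
      exact ⟨U, hUZ, hUZ ▸ hJ⟩
    obtain ⟨Z₂, hT₂, hZ₂W, hZ₂, hZ₂max⟩ := CfsgLib.EPPOSeven.exists_maximal_two_subgroup
      M.T'_isPGroup (inf_le_right.trans hNW : M.T' ≤ W)
    obtain ⟨U₁, e₁, hU₁⟩ := key Z₁ hZ₁ hZ₁W hZ₁max
    obtain ⟨U₂, e₂, hU₂⟩ := key Z₂ hZ₂ hZ₂W hZ₂max
    apply M.J_ne
    rw [← JT_eq_of_lt M U₁ M.R₁ M.lt₁ (hT₁.trans e₁.ge) inf_le_left,
      ← JT_eq_of_lt M U₂ M.R₂ M.lt₂ (hT₂.trans e₂.ge) inf_le_left, hU₁, hU₂]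
  · obtain ⟨E, hEW, hWE, hE, hcore⟩ := exists_core W
    have hED : E ≤ M.D := core_le_D M hNW hEW hWE hE
    have hE1 : E ≠ ⊥ := fun e => hJD (le_bot_iff.1 (e ▸ hcore (JT M.D)
      (le_normalizer) le_rfl (M.D_isPGroup.to_le (CfsgLib.EPPOSeven.JT_le _))))
    rcases hED.eq_or_lt with e | hlt
    · refine hJZ ?_
      have hWN : W ≤ M.N := by
        show W ≤ normalizer (M.D : Set G)
        rw [← e]; exact hWE
      have : Z₁ = M.T := M.max₁ Z₁ hZ₁ (hZ₁W.trans hWN) hT₁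
      rw [this]
      exact hJle
    · exact false_of_core h M hNW hEW hWE hE hE1 hcore hlt (M.D_le_T.trans hT₁) hZ₁W hZ₁ hJZ

/-- A nontrivial subgroup of `D` normal in the normaliser of `D` has that normaliser. -/
theorem normalizer_eq {X : Subgroup G} (hX1 : X ≠ ⊥) (hXD : X ≤ M.D)
    (hNX : M.N ≤ normalizer (X : Set G)) : normalizer (X : Set G) = M.N := by
  refine le_antisymm ?_ hNX
  set W := normalizer (X : Set G) with hW
  obtain ⟨E, hEW, hWE, hE, hcore⟩ := exists_core W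
  have hED : E ≤ M.D := core_le_D M hNX hEW hWE hE
  have hE1 : E ≠ ⊥ := fun e => hX1 (le_bot_iff.1 (e ▸ hcore X le_normalizer le_rfl
    (M.D_isPGroup.to_le hXD)))
  rcases hED.eq_or_lt with e | hlt
  · show W ≤ normalizer (M.D : Set G)
    rw [← e]; exact hWE
  exfalso
  obtain ⟨Z₁, hT₁, hZ₁W, hZ₁, -⟩ := CfsgLib.EPPOSeven.exists_maximal_two_subgroup
    M.T_isPGroup (inf_le_right.trans hNX : M.T ≤ W)
  refine false_of_core h M hNX hEW hWE hE hE1 hcore hlt (M.D_le_T.trans hT₁) hZ₁W hZ₁ fun hJZ => ?_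
  obtain ⟨A, hA, hAD⟩ := exists_maxEA_notLe h M
  refine hAD ((CfsgLib.PLocal.le_thompsonSubgroupOf hA).trans ?_)
  show JT M.T ≤ M.D
  rw [show JT M.T = JT Z₁ from
    CfsgLib.PLocal.thompsonSubgroupOf_eq_of_le hT₁ (hJZ.trans M.D_le_T)]
  exact hJZ

end CfsgLib.CITGroups
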