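import Cfsg.Agent.CITGroups.Pair

/-!
# The normaliser of `D` modulo `D` has a strongly embedded subgroup
-/

set_option autoImplicit false
set_option linter.style.haveILetI false
set_option linter.unusedSectionVars false

namespace CfsgLib.CITGroups

open Subgroup
open scoped commutatorElement Pointwise
open CfsgLib.EPPOSeven (JT MaxPair)

variable {G : Type*} [Group G] [Finite G]

/-- The stabiliser in `N` of the class of `R₁`. -/
noncomputable abbrev stab (M : MaxPair G) : Subgroup G :=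
  M.N ⊓ normalizer ((JT (M.R₁ : Subgroup G) : Subgroup G) : Set G)

/-- The facts coming from strong embedding modulo `D`. -/
structure QuotData (M : MaxPair G) : Prop where
  T_le : M.T ≤ stab M
  T_normal : stab M ≤ normalizer (M.T : Set G)
  mem_T : ∀ g ∈ stab M, ∀ k : ℕ, g ^ 2 ^ k ∈ M.D → g ∈ M.T
  central : ∀ t ∈ M.T, t ∉ M.D → t * t ∈ M.D → ∀ w ∈ M.T, ⁅t, w⁆ ∈ M.D
  trans : ∀ s ∈ M.T, s ∉ M.D → s * s ∈ M.D → ∀ t ∈ M.T, t ∉ M.D → t * t ∈ M.D →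
    ∃ m ∈ stab M, m * s * m⁻¹ * t⁻¹ ∈ M.D
  se : ∀ t ∈ M.T, t ∉ M.D → t * t ∈ M.D → ∀ g ∈ M.N, g * t * g⁻¹ ∈ stab M → g ∈ stab M
  centralizer : ∀ t ∈ M.T, t ∉ M.D → t * t ∈ M.D → ∀ g ∈ M.N, ⁅g, t⁆ ∈ M.D → g ∈ M.T
  ne : stab M ≠ M.N

variable (h : IsCIT G) (M : MaxPair G)

theorem T_le_stab : M.T ≤ stab M :=
  le_inf inf_le_right (inf_le_left.trans (le_normalizer.trans
    (CfsgLib.PLocal.normalizer_le_normalizer_thompsonSubgroupOf 2 _)))

theorem stab_ne : stab M ≠ M.N := by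
  intro e
  obtain ⟨n, hn, hnT⟩ := CfsgLib.EPPOSeven.exists_conj_maximal M.T_isPGroup inf_le_right M.max₁
    M.T'_isPGroup inf_le_right M.max₂
  have hnJ : n ∈ normalizer ((JT (M.R₁ : Subgroup G) : Subgroup G) : Set G) :=
    (mem_inf.1 (e.symm ▸ hn : n ∈ stab M)).2
  let R : Sylow 2 G := n • M.R₁
  have hR : (R : Subgroup G) = (M.R₁ : Subgroup G).map (MulAut.conj n).toMonoidHom := by
    rw [Sylow.coe_subgroup_smul]; rfl
  apply M.J_ne
  rw [← JT_eq_of_lt M R M.R₂ M.lt₂ ?_ inf_le_left, hR, ← CfsgLib.EPPOSeven.JT_conj]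
  · exact (mem_normalizer_iff_map_conj_eq.1 hnJ).symm
  · rw [hR]
    exact hnT.ge.trans (map_mono inf_le_left)

/-- An element of the Thompson subgroup of `R₁` in `N` outside `D`. -/
theorem exists_J_notMem : ∃ j ∈ JT (M.R₁ : Subgroup G) ⊓ M.N, j ∉ M.D := by
  have hDR : M.D ≤ (M.R₁ : Subgroup G) := M.D_le_T.trans inf_le_left
  have hJR : JT (M.R₁ : Subgroup G) ≤ M.R₁ := CfsgLib.EPPOSeven.JT_le _
  by_contra hcon
  push Not at hcon
  have hDJ : M.D ≤ normalizer ((JT (M.R₁ : Subgroup G) : Subgroup G) : Set G) :=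
    hDR.trans (le_normalizer.trans (CfsgLib.PLocal.normalizer_le_normalizer_thompsonSubgroupOf 2 _))
  have hJD : JT (M.R₁ : Subgroup G) ≤ M.D := by
    by_contra hne
    obtain ⟨g, hg, hgD, hgN⟩ := CfsgLib.EPPOSeven.exists_normalizing_notMem
      (M.R₁.2.to_le (sup_le hJR hDR)) le_sup_right (fun e => hne (le_sup_left.trans e.ge))
    obtain ⟨j, hj, d, hd, rfl⟩ : g ∈ (((JT (M.R₁ : Subgroup G) : Subgroup G) : Set G) *
        (M.D : Set G) : Set G) := by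
      rw [← Subgroup.coe_mul_of_right_le_normalizer_left _ M.D hDJ]
      exact hg
    refine hgD (mul_mem (hcon j ⟨hj, ?_⟩) hd)
    simpa using mul_mem hgN (inv_mem (le_normalizer hd : d ∈ M.N))
  obtain ⟨n, hn, hnT⟩ := CfsgLib.EPPOSeven.exists_conj_maximal M.T_isPGroup inf_le_right M.max₁
    M.T'_isPGroup inf_le_right M.max₂
  let R : Sylow 2 G := n • M.R₁
  have hR : (R : Subgroup G) = (M.R₁ : Subgroup G).map (MulAut.conj n).toMonoidHom := by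
    rw [Sylow.coe_subgroup_smul]; rfl
  have h1 : JT M.D = JT (M.R₁ : Subgroup G) :=
    CfsgLib.PLocal.thompsonSubgroupOf_eq_of_le hDR hJD
  apply M.J_ne
  rw [← JT_eq_of_lt M R M.R₂ M.lt₂ ?_ inf_le_left, hR, ← CfsgLib.EPPOSeven.JT_conj, ← h1]
  · exact (mem_normalizer_iff_map_conj_eq.1
      (CfsgLib.PLocal.normalizer_le_normalizer_thompsonSubgroupOf 2 M.D hn)).symm
  · rw [hR]
    exact hnT.ge.trans (map_mono inf_le_left)

include h

theorem quotData : QuotData M := by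
  haveI : Fact (Nat.Prime 2) := ⟨Nat.prime_two⟩
  set M₀ := stab M with hM₀
  have hTM₀ : M.T ≤ M₀ := T_le_stab M
  have hDM₀ : M.D ≤ M₀ := M.D_le_T.trans hTM₀
  have hM₀N : M₀ ≤ M.N := inf_le_left
  haveI : (M.D.subgroupOf M.N).Normal :=
    normal_subgroupOf_iff_le_normalizer le_normalizer |>.2 le_rfl
  set π := QuotientGroup.mk' (M.D.subgroupOf M.N) with hπ
  have hX : IsCIT (M.N ⧸ M.D.subgroupOf M.N) :=
    (h.subgroup M.N).quotient _ M.D_isPGroup.comap_subtype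
  have hπ1 : ∀ x : M.N, π x = 1 ↔ (x : G) ∈ M.D := fun x => by
    rw [hπ, QuotientGroup.mk'_apply, QuotientGroup.eq_one_iff]; rfl
  set Mb := (M₀.subgroupOf M.N).map π with hMb
  have hmemMb : ∀ x : M.N, π x ∈ Mb ↔ (x : G) ∈ M₀ := by
    intro x
    constructor
    · rintro ⟨y, hy, hxy⟩
      have h1 : π (y⁻¹ * x) = 1 := by rw [map_mul, map_inv, hxy, inv_mul_cancel]
      have := mul_mem (mem_subgroupOf.1 hy) (hDM₀ ((hπ1 _).1 h1))
      simpa using this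
    · exact fun hx => ⟨x, hx, rfl⟩
  -- two-elements of `M₀` modulo `D` lie in conjugates of `T`
  have hclass : ∀ t : G, t ∈ M₀ → t ∉ M.D → t * t ∈ M.D →
      ∃ R : Sylow 2 G, t ∈ R ∧ M.D ≤ R ∧ JT (R : Subgroup G) = JT (M.R₁ : Subgroup G) := by
    intro t ht htD ht2
    have hz2 : ∀ x ∈ zpowers t, x * x ∈ M.D := by
      rintro x ⟨i, rfl⟩
      show t ^ i * t ^ i ∈ M.D
      rw [← ((Commute.refl t).mul_zpow i)]
      exact zpow_mem ht2 i
    have hP : IsPGroup 2 ↥(zpowers t ⊔ M.D) := by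
      refine (?_ : IsPGroup 2 (zpowers t)).to_sup_of_normal_right' M.D_isPGroup
        (zpowers_le.2 (hM₀N ht))
      intro x
      obtain ⟨k, hk⟩ := M.D_isPGroup ⟨_, hz2 x x.2⟩
      refine ⟨k + 1, Subtype.ext ?_⟩
      show ((x : G)) ^ 2 ^ (k + 1) = 1
      rw [pow_succ', pow_mul, pow_two]
      exact congrArg Subtype.val hk
    obtain ⟨Z, hPZ, hZM, hZ, hZmax⟩ := CfsgLib.EPPOSeven.exists_maximal_two_subgroup hP
      (sup_le (zpowers_le.2 ht) hDM₀)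
    obtain ⟨m, hm, hmZ⟩ := CfsgLib.EPPOSeven.exists_conj_maximal M.T_isPGroup hTM₀
      (fun P hP hPM hle => M.max₁ P hP (hPM.trans hM₀N) hle) hZ hZM hZmax
    let R : Sylow 2 G := m • M.R₁
    have hR : (R : Subgroup G) = (M.R₁ : Subgroup G).map (MulAut.conj m).toMonoidHom := by
      rw [Sylow.coe_subgroup_smul]; rfl
    have hZR : Z ≤ (R : Subgroup G) := by rw [hR, ← hmZ]; exact map_mono inf_le_left
    refine ⟨R, hZR (hPZ (mem_sup_left (mem_zpowers t))), le_sup_right.trans (hPZ.trans hZR), ?_⟩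
    rw [hR, ← CfsgLib.EPPOSeven.JT_conj]
    exact mem_normalizer_iff_map_conj_eq.1 hm.2
  have hse : ∀ t : G, t ∈ M₀ → t ∉ M.D → t * t ∈ M.D → ∀ g ∈ M.N, g * t * g⁻¹ ∈ M₀ → g ∈ M₀ := by
    intro t ht htD ht2 g hg hgt
    refine ⟨hg, ?_⟩
    obtain ⟨R, htR, hDR, hJR⟩ := hclass t ht htD ht2
    have hgtD : g * t * g⁻¹ ∉ M.D := fun e => htD ((mem_normalizer_iff.1 hg t).2 e)
    have hgt2 : g * t * g⁻¹ * (g * t * g⁻¹) ∈ M.D := by
      rw [show g * t * g⁻¹ * (g * t * g⁻¹) = g * (t * t) * g⁻¹ by group]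
      exact (mem_normalizer_iff.1 hg _).1 ht2
    obtain ⟨R', htR', hDR', hJR'⟩ := hclass _ hgt hgtD hgt2
    let R'' : Sylow 2 G := g • R
    have hR'' : (R'' : Subgroup G) = (R : Subgroup G).map (MulAut.conj g).toMonoidHom := by
      rw [Sylow.coe_subgroup_smul]; rfl
    have hlt : M.D < zpowers (g * t * g⁻¹) ⊔ M.D :=
      lt_of_le_not_ge le_sup_right fun e => hgtD (e (mem_sup_left (mem_zpowers _)))
    have h1 := JT_eq_of_lt M R'' R' hlt ?_ (sup_le (zpowers_le.2 htR') hDR')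
    · rw [hJR', hR'', ← CfsgLib.EPPOSeven.JT_conj, hJR] at h1
      exact mem_normalizer_iff_map_conj_eq.2 h1
    · rw [hR'']
      refine sup_le (zpowers_le.2 ⟨t, htR, rfl⟩) fun d hd => ?_
      exact ⟨g⁻¹ * d * g, hDR ((mem_normalizer_iff''.1 hg d).1 hd), by simp [mul_assoc]⟩
  obtain ⟨A, hA, hAD⟩ := exists_maxEA_notLe h M
  obtain ⟨a, haA, haD⟩ := SetLike.not_le_iff_exists.1 hAD
  have ha2 : a * a ∈ M.D := by
    rw [← pow_two, hA.2.1.2 a haA]; exact one_mem _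
  have heven : Even (Nat.card Mb) := by
    have haN : a ∈ M.N := hM₀N (hTM₀ (hA.1 haA))
    have ho : orderOf (π ⟨a, haN⟩) = 2 := orderOf_two_of_mul_self
      (by rw [← map_mul]; exact (hπ1 _).2 ha2) (fun e => haD ((hπ1 _).1 e))
    rw [even_iff_two_dvd, ← ho, ← Nat.card_zpowers]
    exact card_dvd_of_le (zpowers_le.2 ⟨⟨a, haN⟩, hTM₀ (hA.1 haA), rfl⟩)
  have hne : Mb ≠ ⊤ := by
    intro e
    refine stab_ne M (le_antisymm hM₀N fun n hn => ?_)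
    exact (hmemMb ⟨n, hn⟩).1 (e ▸ mem_top _)
  have hinv : ∀ x : M.N, orderOf (π x) = 2 → (x : G) ∉ M.D ∧ (x : G) * x ∈ M.D := by
    intro x hx
    refine ⟨fun e => ?_, (hπ1 (x * x)).1 (by rw [map_mul]; exact CfsgLib.Small.mul_self_of_orderOf_two hx)⟩
    rw [(hπ1 x).2 e, orderOf_one] at hx
    omega
  have hMbSE : Cfsg.IsStronglyEmbedded Mb := by
    refine (CfsgLib.Small.isStronglyEmbedded_iff hne heven).2 ?_
    rintro t ht hto g hg
    obtain ⟨t, rfl⟩ := QuotientGroup.mk'_surjective _ t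
    obtain ⟨g, rfl⟩ := QuotientGroup.mk'_surjective _ g
    rw [← map_inv, ← map_mul, ← map_mul, hmemMb] at hg
    rw [hmemMb] at ht ⊢
    obtain ⟨h1, h2⟩ := hinv t hto
    refine inv_mem_iff.1 (hse _ ht h1 h2 _ (inv_mem g.2) ?_)
    simpa using hg
  obtain ⟨j, hj, hjD⟩ := exists_J_notMem M
  set Lb := (((JT (M.R₁ : Subgroup G)) ⊓ M.N).subgroupOf M.N).map π with hLb
  have hJM₀ : JT (M.R₁ : Subgroup G) ⊓ M.N ≤ M₀ := le_inf inf_le_right (inf_le_left.trans le_normalizer)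
  have hLn : Mb ≤ normalizer (Lb : Set (M.N ⧸ M.D.subgroupOf M.N)) := by
    rintro _ ⟨m, hm, rfl⟩
    refine mem_normalizer_of_conj_mem ?_
    rintro _ ⟨x, hx, rfl⟩
    refine ⟨m * x * m⁻¹, ⟨(mem_normalizer_iff.1 (mem_subgroupOf.1 hm).2 _).1 hx.1, ?_⟩, by
      rw [map_mul, map_mul, map_inv]⟩
    exact (m * x * m⁻¹).2
  have hL2 : IsPGroup 2 Lb :=
    (((M.R₁.2.to_le (CfsgLib.EPPOSeven.JT_le _)).to_le inf_le_left).comap_subtype).map _
  have hL1 : Lb ≠ ⊥ := fun e => hjD ((hπ1 ⟨j, hj.2⟩).1 (mem_bot.1 (e ▸ ⟨⟨j, hj.2⟩, hj, rfl⟩)))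
  obtain ⟨S, D⟩ := exists_sylowSE hX hMbSE (map_mono fun x hx => hJM₀ hx) hLn hL2 hL1
  -- the Sylow subgroup is the image of `T`
  have hTS : ∀ x : M.N, (x : G) ∈ M.T → π x ∈ S := by
    intro x hx
    obtain ⟨k, hk⟩ := exists_orderOf_eq_two_pow M.T_isPGroup hx
    obtain ⟨j, -, hj⟩ := (Nat.dvd_prime_pow Nat.prime_two).1
      (hk ▸ Subgroup.orderOf_coe x ▸ orderOf_map_dvd π x)
    exact D.two_mem _ ((hmemMb x).2 (hTM₀ hx)) j hj
  set P := (S.comap π).map M.N.subtype with hP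
  have hPM₀ : P ≤ M₀ := by
    rintro _ ⟨x, hx, rfl⟩
    exact (hmemMb x).1 (D.normalizer_eq ▸ le_normalizer hx)
  have hPT : P = M.T := by
    refine M.max₁ P ((IsPGroup.comap_of_ker_isPGroup D.two π (by
      rw [hπ, QuotientGroup.ker_mk']; exact M.D_isPGroup.comap_subtype)).map _) (map_subtype_le _) ?_
    exact fun x hx => ⟨⟨x, hx.2⟩, hTS _ hx, rfl⟩
  have hST : ∀ x : M.N, π x ∈ S → (x : G) ∈ M.T := fun x hx => hPT ▸ ⟨x, hx, rfl⟩
  have hmem : ∀ g ∈ M₀, ∀ k : ℕ, g ^ 2 ^ k ∈ M.D → g ∈ M.T := by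
    intro g hg k hgk
    have h1 : π (⟨g, hM₀N hg⟩ ^ 2 ^ k) = 1 := (hπ1 _).2 (by simpa using hgk)
    rw [map_pow] at h1
    obtain ⟨j, -, hj⟩ := (Nat.dvd_prime_pow Nat.prime_two).1 (orderOf_dvd_of_pow_eq_one h1)
    exact hST _ (D.two_mem _ ((hmemMb _).2 hg) j hj)
  have hord : ∀ t (ht : t ∈ M.N), t ∉ M.D → t * t ∈ M.D → orderOf (π ⟨t, ht⟩) = 2 :=
    fun t ht htD ht2 => orderOf_two_of_mul_self (by rw [← map_mul]; exact (hπ1 _).2 ht2)
      (fun e => htD ((hπ1 _).1 e))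
  refine ⟨hTM₀, fun m hm => mem_normalizer_of_conj_mem fun x hx => ?_, hmem, fun t ht htD ht2 w hw => ?_,
    fun s hs hsD hs2 t ht htD ht2 => ?_, fun t ht htD ht2 => hse t (hTM₀ ht) htD ht2,
    fun t ht htD ht2 g hg hgt => ?_, stab_ne M⟩
  · have h1 : π ⟨m, hm.1⟩ ∈ normalizer (S : Set _) := D.normalizer_eq.symm ▸ (hmemMb _).2 hm
    have h2 := (mem_normalizer_iff.1 h1 _).1 (hTS ⟨x, hx.2⟩ hx)
    rw [← map_inv, ← map_mul, ← map_mul] at h2
    exact hST _ h2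
  · have hc := D.invol_central (π ⟨t, ht.2⟩) (hTS _ ht) (hord t ht.2 htD ht2) (π ⟨w, hw.2⟩) (hTS _ hw)
    have h1 : π ⁅(⟨t, ht.2⟩ : M.N), ⟨w, hw.2⟩⁆ = 1 := by
      rw [map_commutatorElement, commutatorElement_eq_one_iff_mul_comm]
      exact hc.eq.symm
    exact (hπ1 _).1 h1
  · obtain ⟨m, hm, he⟩ := D.conj _ ((hmemMb _).2 (hTM₀ hs)) _ ((hmemMb _).2 (hTM₀ ht))
      (hord s hs.2 hsD hs2) (hord t ht.2 htD ht2)
    obtain ⟨m, hm', rfl⟩ := hm
    refine ⟨m, hm', ?_⟩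
    have h1 : π (m * ⟨s, hs.2⟩ * m⁻¹ * ⟨t, ht.2⟩⁻¹) = 1 := by
      rw [map_mul, map_mul, map_mul, map_inv, map_inv, he, mul_inv_cancel]
    exact (hπ1 _).1 h1
  · have hgM₀ : g ∈ M₀ := hse t (hTM₀ ht) htD ht2 g hg (by
      rw [show g * t * g⁻¹ = ⁅g, t⁆ * t by rw [commutatorElement_def]; group]
      exact mul_mem (hDM₀ hgt) (hTM₀ ht))
    obtain ⟨k, hk⟩ := hX (π ⟨t, ht.2⟩) (hord t ht.2 htD ht2) ⟨π ⟨g, hg⟩,
      mem_centralizer_singleton_iff.2 (by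
        rw [← commutatorElement_eq_one_iff_mul_comm, ← map_commutatorElement]
        exact (hπ1 _).2 hgt)⟩
    have h1 : π (⟨g, hg⟩ ^ 2 ^ k) = 1 := by rw [map_pow]; exact congrArg Subtype.val hk
    exact hmem g hgM₀ k ((hπ1 _).1 h1)

end CfsgLib.CITGroups
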