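import Cfsg.Agent.CITGroups.Natural

/-!
# The second elementary subgroup of largest order in `T`
-/

set_option autoImplicit false
set_option linter.style.haveILetI false
set_option linter.unusedSectionVars false

namespace CfsgLib.CITGroups

open Subgroup
open scoped commutatorElement Pointwise
open CfsgLib.EPPOSeven (JT MaxPair omegaCentral)

variable {G : Type*} [Group G] [Finite G]

/-- `T` is the product of two elementary subgroups meeting in the fixed points. -/
structure SecondEA (M : MaxPair G) (A : Subgroup G) : Prop where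
  le_T : A ≤ M.T
  sq : ∀ a ∈ A, a * a = 1
  sq_D : ∀ d ∈ M.D, d * d = 1
  fix_le_D : fixT M ≤ M.D
  card_D : Nat.card M.D = Nat.card (fixT M) * Nat.card (fixT M)
  card_eq : Nat.card A = Nat.card M.D
  inf_eq : A ⊓ M.D = fixT M
  sup_eq : A ⊔ M.D = M.T
  invol : ∀ t ∈ M.T, t * t = 1 → t ∈ M.D ∨ t ∈ A
  commute_mem : ∀ d ∈ M.D, ∀ a ∈ A, a ∉ M.D → Commute d a → d ∈ fixT M
  eq_or : ∀ E : Subgroup G, E ≤ M.T → (∀ e ∈ E, e * e = 1) → E ≤ M.D ∨ E ≤ A
  normal : M.T ≤ normalizer (A : Set G)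

theorem exists_secondEA (h : IsCIT G) (M : MaxPair G) {K : Type*} [Field K] (N : Natural M K) :
    ∃ A, SecondEA M A := by
  have L := localData h M
  have hsqD : ∀ d ∈ M.D, d * d = 1 := fun d hd => by
    rw [← N.omega_eq] at hd; exact hd.2.2
  have hfixD : fixT M ≤ M.D := inf_le_left.trans (omegaCentral_le _)
  have hcardD : Nat.card M.D = Nat.card (fixT M) * Nat.card (fixT M) := by
    rw [← L.card_omega, N.omega_eq]
  obtain ⟨A, hA, hAD⟩ := exists_maxEA_notLe h M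
  have hsq : ∀ a ∈ A, a * a = 1 := fun a ha => by rw [← pow_two]; exact hA.2.1.2 a ha
  obtain ⟨hsup, hcardA⟩ := L.maxEA A hA hAD
  obtain ⟨a₀, ha₀, ha₀D⟩ := SetLike.not_le_iff_exists.1 hAD
  have hcomm : ∀ d ∈ M.D, ∀ a ∈ M.T, a ∉ M.D → Commute d a → d ∈ fixT M := fun d hd a ha haD hc => by
    rw [← L.fix_eq a ha haD, N.omega_eq]
    exact ⟨hd, mem_centralizer_singleton_iff.2 hc.eq⟩
  have hinfle : A ⊓ M.D ≤ fixT M := fun x hx =>
    hcomm x hx.2 a₀ (hA.1 ha₀) ha₀D (comm_of_sq hsq hx.1 ha₀)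
  have hDea : Cfsg.IsElementaryAbelian 2 M.D :=
    ⟨⟨⟨fun u v => Subtype.ext (comm_of_sq hsqD u.2 v.2)⟩⟩,
      fun d hd => by rw [pow_two]; exact hsqD d hd⟩
  have hle : Nat.card M.D ≤ Nat.card A := hA.2.2 M.D M.D_le_T hDea
  have hinfcard : Nat.card (fixT M) ≤ Nat.card ↥(A ⊓ M.D) := by
    rw [hcardD, hcardA] at hle
    exact Nat.le_of_mul_le_mul_right hle Nat.card_pos
  have hinf : A ⊓ M.D = fixT M := eq_of_le_of_card_ge hinfle hinfcard
  have hcardeq : Nat.card A = Nat.card M.D := by rw [hcardA, hinf, hcardD]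
  have hmul : ∀ t ∈ M.T, ∃ a ∈ A, ∃ d ∈ M.D, a * d = t := by
    intro t ht
    rw [← hsup] at ht
    obtain ⟨a, ha, d, hd, e⟩ : t ∈ ((A : Set G) * (M.D : Set G) : Set G) := by
      rw [← Subgroup.coe_mul_of_left_le_normalizer_right A M.D
        (hA.1.trans (inf_le_right : M.T ≤ M.N))]
      exact ht
    exact ⟨a, ha, d, hd, e⟩
  have hinvol : ∀ t ∈ M.T, t * t = 1 → t ∈ M.D ∨ t ∈ A := by
    intro t ht ht2
    obtain ⟨a, ha, d, hd, rfl⟩ := hmul t ht
    by_cases haD : a ∈ M.D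
    · exact Or.inl (mul_mem haD hd)
    · refine Or.inr (mul_mem ha ?_)
      have hc : Commute d a := by
        show d * a = a * d
        calc d * a = (a * a) * d * a * (d * d) := by rw [hsq a ha, hsqD d hd, one_mul, mul_one]
          _ = a * (a * d * (a * d)) * d := by group
          _ = a * d := by rw [ht2, mul_one]
      have h1 : d ∈ A ⊓ M.D := by rw [hinf]; exact hcomm d hd a (hA.1 ha) haD hc
      exact h1.1
  have heq : ∀ E : Subgroup G, E ≤ M.T → (∀ e ∈ E, e * e = 1) → E ≤ M.D ∨ E ≤ A := by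
    intro E hE hE2
    by_contra hne
    push Not at hne
    obtain ⟨x, hx, hxD⟩ := SetLike.not_le_iff_exists.1 hne.1
    obtain ⟨y, hy, hyA⟩ := SetLike.not_le_iff_exists.1 hne.2
    have hxA := (hinvol x (hE hx) (hE2 x hx)).resolve_left hxD
    have hyD := (hinvol y (hE hy) (hE2 y hy)).resolve_right hyA
    rcases hinvol _ (hE (mul_mem hx hy)) (hE2 _ (mul_mem hx hy)) with h1 | h1
    · exact hxD (by simpa using mul_mem h1 (inv_mem hyD))
    · exact hyA (by simpa using mul_mem (inv_mem hxA) h1)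
  refine ⟨A, hA.1, hsq, hsqD, hfixD, hcardD, hcardeq, hinf, hsup, hinvol,
    fun d hd a ha haD hc => hcomm d hd a (hA.1 ha) haD hc, heq, fun t ht => ?_⟩
  refine mem_normalizer_iff_map_conj_eq.2 ?_
  have hmap : A.map (MulAut.conj t).toMonoidHom ≤ M.T := by
    rintro _ ⟨a, ha, rfl⟩
    exact mul_mem (mul_mem ht (hA.1 ha)) (inv_mem ht)
  rcases heq _ hmap (by
    rintro _ ⟨a, ha, rfl⟩
    rw [← map_mul, hsq a ha, map_one]) with h1 | h1
  · exfalso
    have h2 : t * a₀ * t⁻¹ ∈ M.D := h1 ⟨a₀, ha₀, rfl⟩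
    exact ha₀D ((mem_normalizer_iff.1 ((inf_le_right : M.T ≤ M.N) ht) a₀).2 h2)
  · exact eq_of_le_of_card_ge h1 (card_map_of_injective (MulAut.conj t).injective).ge

end CfsgLib.CITGroups
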