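import Cfsg.Agent.CITGroups.Kernel
import Cfsg.Agent.S0885

/-!
# The kernel in the Suzuki case

In a simple group of Suzuki order the kernel is a nonabelian two-group, regular on the other points.
-/

set_option autoImplicit false
set_option linter.style.haveILetI false
set_option linter.unusedSectionVars false

namespace CfsgLib.CITGroups

open Subgroup MulAction

theorem two_pow_mul_odd_inj {i j x y : ℕ} (hx : Odd x) (hy : Odd y) (h : 2 ^ i * x = 2 ^ j * y) :
    i = j := by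
  have hx0 : x ≠ 0 := by rintro rfl; exact absurd hx (by decide)
  have hy0 : y ≠ 0 := by rintro rfl; exact absurd hy (by decide)
  have h' := congrArg (fun n : ℕ => n.factorization 2) h
  simp only [Nat.factorization_mul (pow_ne_zero _ two_ne_zero) hx0,
    Nat.factorization_mul (pow_ne_zero _ two_ne_zero) hy0, Finsupp.add_apply,
    Nat.prime_two.factorization_pow, Finsupp.single_eq_same,
    Nat.factorization_eq_zero_of_not_dvd (fun hd => Nat.not_even_iff_odd.2 hx (even_iff_two_dvd.2 hd)),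
    Nat.factorization_eq_zero_of_not_dvd (fun hd => Nat.not_even_iff_odd.2 hy (even_iff_two_dvd.2 hd))]
    at h'
  exact h'

namespace SEKernel

variable {G : Type*} [Group G] [Finite G] [IsSimpleGroup G] {H : Subgroup G} (K : SEKernel H)
include K

local notation "Ω" => G ⧸ normalizer (H : Set G)
local notation "α" => ((1 : G) : G ⧸ normalizer (H : Set G))

theorem le_stabilizer : H ≤ stabilizer G α := fun _ hh =>
  mem_stabilizer_iff.2 (K.smul_base_iff.2 (le_normalizer hh))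

theorem conj_mem : ∀ h ∈ stabilizer G α, ∀ u ∈ H, h * u * h⁻¹ ∈ H := fun _ hh _ hu =>
  K.mem_kernel_conj (K.smul_base_iff.1 (mem_stabilizer_iff.1 hh)) hu

theorem smul_ne_base {h : G} (hh : h ∈ H) {β : Ω} (hβ : β ≠ α) : h • β ≠ α := fun e =>
  hβ ((MulAction.injective h) (e.trans (K.smul_base_iff.2 (le_normalizer hh)).symm))

theorem regular : ∀ c d : Ω, c ≠ α → d ≠ α → ∃! u : H, (u : G) • c = d := by
  intro c d hc hd
  obtain ⟨h, hh, hcd⟩ := K.exists_smul_eq hc hd
  refine ⟨⟨h, hh⟩, hcd, fun u hu => Subtype.ext ?_⟩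
  refine (inv_mul_eq_one.1 (K.eq_one_of_fix (mul_mem (inv_mem hh) u.2) hc ?_)).symm
  rw [mul_smul, hu, ← hcd, inv_smul_smul]

theorem card_kernel : Nat.card H + 1 = Nat.card Ω := by
  classical
  haveI : Fintype Ω := Fintype.ofFinite _
  obtain ⟨β, hβ⟩ := K.exists_ne_base
  have h : Nat.card H = Nat.card {γ : Ω // γ ≠ α} := by
    refine Nat.card_eq_of_bijective (fun h => ⟨(h : G) • β, K.smul_ne_base h.2 hβ⟩) ⟨?_, ?_⟩
    · intro a b hab
      obtain ⟨u, -, hu⟩ := K.regular β ((a : G) • β) hβ (K.smul_ne_base a.2 hβ)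
      exact (hu a rfl).trans (hu b (congrArg Subtype.val hab).symm).symm
    · rintro ⟨γ, hγ⟩
      obtain ⟨h, hh, rfl⟩ := K.exists_smul_eq hβ hγ
      exact ⟨⟨h, hh⟩, rfl⟩
  rw [h, Nat.card_eq_fintype_card, Fintype.card_subtype_compl, Fintype.card_subtype_eq,
    Nat.card_eq_fintype_card, Nat.sub_add_cancel Fintype.card_pos]

theorem isPGroup_two : IsPGroup 2 H := by
  obtain ⟨p, k, hp, -, hpk⟩ := (isPrimePow_nat_iff _).1 K.isPrimePow_card
  obtain ⟨z, hz, hzo⟩ := K.exists_invol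
  have h2 : 2 ∣ p ^ k := by
    rw [hpk, ← hzo]
    exact Subgroup.orderOf_dvd_natCard _ hz
  obtain rfl := (Nat.prime_dvd_prime_iff_eq Nat.prime_two hp).1 (Nat.prime_two.dvd_of_dvd_pow h2)
  exact IsPGroup.of_card hpk.symm

theorem nonabelian (hS : Cfsg.IsSuzuki G) : ∃ u ∈ H, ∃ v ∈ H, u * v ≠ v * u := by
  classical
  haveI : Fintype Ω := Fintype.ofFinite _
  haveI : Fact (Nat.Prime 2) := ⟨Nat.prime_two⟩
  obtain ⟨-, m, hm, hG⟩ := hS
  obtain ⟨β, hβ⟩ := K.exists_ne_base
  have hodd : Odd (Nat.card ↥(stabilizer G α ⊓ stabilizer G β)) := by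
    refine Nat.not_even_iff_odd.1 fun he => ?_
    obtain ⟨⟨t, ht⟩, hto⟩ := exists_prime_orderOf_dvd_card'
      (G := ↥(stabilizer G α ⊓ stabilizer G β)) 2 (even_iff_two_dvd.1 he)
    rw [Subgroup.orderOf_mk] at hto
    exact hβ (K.uf.unique t hto β α (mem_stabilizer_iff.1 ht.2) (mem_stabilizer_iff.1 ht.1))
  have hfix : ∀ u ∈ H, u ≠ 1 → ∀ c : Ω, u • c = c → c = α := fun u hu hu1 c hc =>
    by_contra fun hne => hu1 (K.eq_one_of_fix hu hne hc)
  have hcard := K.card_kernel
  have hstab := CharactersDeep.Zassenhaus.card_stabilizer K.le_stabilizer hcard hfix hβ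
  haveI : IsPretransitive G Ω := inferInstance
  have hGc : Nat.card G = Nat.card Ω * (Nat.card H * Nat.card ↥(stabilizer G α ⊓ stabilizer G β)) := by
    rw [← hstab, ← index_stabilizer_of_transitive G α, index_mul_card]
  obtain ⟨a, ha⟩ := IsPGroup.iff_card.1 K.isPGroup_two
  set e := Nat.card ↥(stabilizer G α ⊓ stabilizer G β) with he
  rw [← hcard, ha, hG] at hGc
  set q := 2 ^ (2 * m + 1) with hq
  have hq8 : 8 ≤ q := (Nat.pow_le_pow_right (show 0 < 2 by norm_num) (show 3 ≤ 2 * m + 1 by omega) :)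
  have hqe : Even q := (Nat.even_pow' (by omega)).2 even_two
  have ha0 : a ≠ 0 := by
    rintro rfl
    obtain ⟨z, hz, hzo⟩ := K.exists_invol
    have := Subgroup.orderOf_dvd_natCard _ hz
    rw [hzo, ha] at this
    norm_num at this
  have hoA : Odd ((2 ^ a + 1) * e) :=
    (Even.add_one ((Nat.even_pow' ha0).2 even_two)).mul hodd
  have hoB : Odd ((q ^ 2 + 1) * (q - 1)) := by
    refine (Even.add_one ((Nat.even_pow' two_ne_zero).2 hqe)).mul ?_
    obtain ⟨c, hc⟩ := hqe
    exact ⟨c - 1, by omega⟩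
  have hqa : 2 ^ a = q ^ 2 := by
    rw [hq, ← pow_mul]
    congr 1
    refine two_pow_mul_odd_inj hoA hoB ?_
    rw [pow_mul, ← hq, ← mul_assoc (q ^ 2), hGc]
    ring
  have heq : e = q - 1 := by
    rw [hqa, mul_assoc] at hGc
    have h1 : (q ^ 2 + 1) * (q ^ 2 * e) = (q ^ 2 + 1) * (q ^ 2 * (q - 1)) := by rw [← hGc]; ring
    exact Nat.eq_of_mul_eq_mul_left (by positivity)
      (Nat.eq_of_mul_eq_mul_left (by positivity) h1)
  rcases Cfsg.Agent.S0885.result K.isZassenhaus hβ.symm (q ^ 2) e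
      (by rw [← Nat.card_eq_fintype_card, ← hcard, ha, hqa]) rfl hodd H K.le_stabilizer
      (by rw [hcard, Nat.card_eq_fintype_card]) hfix with h | ⟨-, ⟨u, v, huv⟩, -⟩
  · exfalso
    rw [heq] at h
    have : 8 * q ≤ q ^ 2 := by rw [pow_two]; exact Nat.mul_le_mul_right q hq8
    omega
  · exact ⟨u, u.2, v, v.2, fun e => huv (Subtype.ext e)⟩

end SEKernel

end CfsgLib.CITGroups
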