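import Cfsg.Agent.CITGroups.SuzukiKernelData
import Cfsg.Agent.SuzukiUnique.Main

/-!
# The Suzuki case up to isomorphism
-/

set_option autoImplicit false

namespace CfsgLib.CITGroups.SEKernel

open Subgroup

variable {G : Type*} [Group G] [Finite G] [IsSimpleGroup G] {H : Subgroup G}

/-- A simple group of Suzuki order with a strongly embedded kernel is a Suzuki group. -/
theorem isoSuzuki (K : SEKernel H) (hS : Cfsg.IsSuzuki G) : Cfsg.Lie.IsoSuzuki G :=
  CfsgLib.SuzukiUnique.isoSuzuki K.isZassenhaus H K.le_stabilizer K.conj_mem K.regular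
    K.isPGroup_two (K.nonabelian hS)

end CfsgLib.CITGroups.SEKernel
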