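import Cfsg.Agent.CITGroups.Coordinates
import Cfsg.Agent.Small.ThompsonTransfer

/-!
# `T` is a Sylow subgroup
-/

set_option autoImplicit false
set_option linter.style.haveILetI false
set_option linter.unusedSectionVars false

namespace CfsgLib.CITGroups

open Subgroup
open scoped commutatorElement Pointwise
open CfsgLib.EPPOSeven (JT MaxPair omegaCentral)

variable {G : Type*} [Group G] [Finite G] {M : MaxPair G}

theorem stab_le_normalizer_A {A : Subgroup G} (Q : QuotData M) (S : SecondEA M A) :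
    stab M ≤ normalizer (A : Set G) := by
  intro g hg
  refine mem_normalizer_iff_map_conj_eq.2 ?_
  have hle : A.map (MulAut.conj g).toMonoidHom ≤ M.T := by
    rintro _ ⟨a, ha, rfl⟩
    exact (mem_normalizer_iff.1 (Q.T_normal hg) a).1 (S.le_T ha)
  rcases S.eq_or _ hle (by
    rintro _ ⟨a, ha, rfl⟩
    rw [← map_mul, S.sq a ha, map_one]) with h1 | h1
  · exfalso
    have hAD : A ≤ M.D := fun a ha => (mem_normalizer_iff.1 hg.1 a).2 (h1 ⟨a, ha, rfl⟩)
    have h2 := S.sup_eq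
    rw [sup_eq_right.2 hAD] at h2
    exact M.lt₁.ne h2
  · exact eq_of_le_of_card_ge h1 (card_map_of_injective (MulAut.conj g).injective).ge

theorem SecondEA.not_le {A : Subgroup G} (S : SecondEA M A) : ¬ A ≤ M.D := fun hAD => by
  have h2 := S.sup_eq
  rw [sup_eq_right.2 hAD] at h2
  exact M.lt₁.ne h2

/-- A two-element normalising `T` outside it swaps `D` and `A`. -/
theorem swap_conj {A : Subgroup G} (S : SecondEA M A) {r : G}
    (hrT : r ∈ normalizer (M.T : Set G)) (hrN : r ∉ M.N) :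
    (∀ d ∈ M.D, r * d * r⁻¹ ∈ A) ∧ (∀ a ∈ A, r * a * r⁻¹ ∈ M.D) := by
  have himg : ∀ X : Subgroup G, X ≤ M.T → (∀ x ∈ X, x * x = 1) →
      X.map (MulAut.conj r).toMonoidHom ≤ M.D ∨ X.map (MulAut.conj r).toMonoidHom ≤ A := fun X hX hX2 =>
    S.eq_or _ (by
      rintro _ ⟨x, hx, rfl⟩
      exact (mem_normalizer_iff.1 hrT x).1 (hX hx))
      (by rintro _ ⟨x, hx, rfl⟩; rw [← map_mul, hX2 x hx, map_one])
  have h1 : ∀ d ∈ M.D, r * d * r⁻¹ ∈ A := by
    rcases himg M.D M.D_le_T S.sq_D with h | h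
    · exact absurd (mem_normalizer_of_conj_mem fun d hd => h ⟨d, hd, rfl⟩) hrN
    · exact fun d hd => h ⟨d, hd, rfl⟩
  refine ⟨h1, ?_⟩
  rcases himg A S.le_T S.sq with h | h
  · exact fun a ha => h ⟨a, ha, rfl⟩
  · exfalso
    have hDA : M.D.map (MulAut.conj r).toMonoidHom = A := eq_of_le_of_card_ge
      (by rintro _ ⟨d, hd, rfl⟩; exact h1 d hd)
      (by rw [card_map_of_injective (MulAut.conj r).injective, S.card_eq])
    refine S.not_le fun a ha => ?_
    have h2 : r * a * r⁻¹ ∈ M.D.map (MulAut.conj r).toMonoidHom := hDA.symm ▸ h ⟨a, ha, rfl⟩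
    obtain ⟨d, hd, hde⟩ := h2
    have hde' : r * d * r⁻¹ = r * a * r⁻¹ := hde
    rwa [← mul_left_cancel (mul_right_cancel hde')]

theorem R₁_eq_T [IsSimpleGroup G] (hna : ∃ a b : G, a * b ≠ b * a) (h : IsCIT G) {K : Type*}
    [Field K] [Finite K] (N : Natural M K) {A : Subgroup G} (S : SecondEA M A)
    (hq : 4 ≤ Nat.card (fixT M)) : (M.R₁ : Subgroup G) = M.T := by
  classical
  haveI : Fact (Nat.Prime 2) := ⟨Nat.prime_two⟩
  haveI : Fact (Nat.Prime 3) := ⟨Nat.prime_three⟩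
  by_contra hne
  have Q := quotData h M
  have L := localData h M
  have hTN : M.T ≤ M.N := inf_le_right
  have hTR : M.T ≤ (M.R₁ : Subgroup G) := inf_le_left
  obtain ⟨r₀, hr₀R, hr₀T, hr₀n⟩ :=
    CfsgLib.EPPOSeven.exists_normalizing_notMem M.R₁.2 hTR (Ne.symm hne)
  -- elements swapping `D` and `A`
  have hout : ∀ r ∈ (M.R₁ : Subgroup G), r ∉ M.T → r ∉ M.N := fun r hr hrT hrN => hrT ⟨hr, hrN⟩
  have hfixD : ∀ c ∈ fixT M, c ∈ M.D := fun c hc => S.fix_le_D hc
  have hswapC : ∀ r ∈ normalizer (M.T : Set G), r ∉ M.N → ∀ c ∈ fixT M, r * c * r⁻¹ ∈ fixT M := by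
    intro r hrT hrN c hc
    obtain ⟨h1, h2⟩ := swap_conj S hrT hrN
    rw [← S.inf_eq] at hc ⊢
    exact ⟨h1 c hc.2, h2 c hc.1⟩
  have hswapS : ∀ r ∈ normalizer (M.T : Set G), r ∉ M.N → ∀ g ∈ stab M, r * g * r⁻¹ ∈ stab M := by
    intro r hrT hrN g hg
    have hrN' : r⁻¹ ∉ M.N := fun e => hrN (inv_mem_iff.1 e)
    obtain ⟨-, h2⟩ := swap_conj S hrT hrN
    obtain ⟨h1', -⟩ := swap_conj S (inv_mem hrT) hrN'
    refine N.normalizer_T_inf (mem_normalizer_of_conj_mem fun d hd => ?_)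
      (mul_mem (mul_mem hrT (Q.T_normal hg)) (inv_mem hrT))
    have h3 := h1' d hd
    rw [inv_inv] at h3
    have h4 := (mem_normalizer_iff.1 (stab_le_normalizer_A Q S hg) _).1 h3
    have h5 := h2 _ h4
    rwa [show r * g * r⁻¹ * d * (r * g * r⁻¹)⁻¹ = r * (g * (r⁻¹ * d * r) * g⁻¹) * r⁻¹ by group]
  have hsqT : ∀ r ∈ (M.R₁ : Subgroup G), r ∈ normalizer (M.T : Set G) → r * r ∈ M.T := by
    intro r hr hrT
    refine ⟨mul_mem hr hr, mem_normalizer_of_conj_mem fun d hd => ?_⟩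
    by_cases hrN : r ∈ M.N
    · exact (mem_normalizer_iff.1 (mul_mem hrN hrN) d).1 hd
    · obtain ⟨h1, h2⟩ := swap_conj S hrT hrN
      rw [show r * r * d * (r * r)⁻¹ = r * (r * d * r⁻¹) * r⁻¹ by group]
      exact h2 _ (h1 d hd)
  have hr₀N := hout r₀ hr₀R hr₀T
  -- `r₀` inverts the eigenvalues
  let cj : ∀ g : M.N, (g : G) ∈ stab M → M.N := fun g hg =>
    ⟨r₀ * g * r₀⁻¹, (hswapS r₀ hr₀n hr₀N g hg).1⟩
  have hcj : ∀ (g : M.N) (hg : (g : G) ∈ stab M), ((cj g hg : M.N) : G) ∈ stab M := fun g hg =>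
    hswapS r₀ hr₀n hr₀N g hg
  have hr₀2 := hsqT r₀ hr₀R hr₀n
  have hinvert : ∀ (g : M.N) (hg : (g : G) ∈ stab M), N.eig (cj g hg) * N.eig g = 1 := by
    intro g hg
    set x := cj g hg * g with hx
    have hxS : (x : G) ∈ stab M := mul_mem (hcj g hg) hg
    rw [← N.eig_mul hg, ← hx, N.eig_one_iff hxS]
    -- conjugation by `r₀` fixes `x` modulo `T`
    have hxfix : N.eig (cj x hxS) = N.eig x := by
      let t2 : M.N := ⟨r₀ * r₀, hTN hr₀2⟩
      have ht2 : (t2 : G) ∈ stab M := Q.T_le hr₀2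
      have he : N.eig t2 = 1 := (N.eig_one_iff ht2).2 hr₀2
      have e : cj x hxS = t2 * g * t2⁻¹ * cj g hg := Subtype.ext (by
        show r₀ * (r₀ * g * r₀⁻¹ * g) * r₀⁻¹ = r₀ * r₀ * g * (r₀ * r₀)⁻¹ * (r₀ * g * r₀⁻¹)
        group)
      rw [e, N.eig_mul (hcj g hg), N.eig_mul (show ((t2⁻¹ : M.N) : G) ∈ stab M from inv_mem ht2),
        N.eig_mul hg, N.eig_inv ht2, he, hx, N.eig_mul hg]
      ring
    by_contra hxT
    obtain ⟨a, o, ho, hn⟩ := Nat.exists_eq_two_pow_mul_odd (orderOf_pos (x : G)).ne'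
    have h1 : orderOf ((x : G) ^ 2 ^ a) = o := by
      rw [orderOf_pow, hn, Nat.gcd_eq_right (dvd_mul_right _ _), Nat.mul_div_cancel_left _ (by positivity)]
    have hne1 : (x : G) ^ 2 ^ a ≠ 1 := fun e => hxT (Q.mem_T _ hxS a (e ▸ one_mem _))
    obtain ⟨p, i, hp, hp2, hpi⟩ := exists_prime_pow (h1 ▸ ho) hne1
    set z : M.N := x ^ (2 ^ a * i) with hz
    have hzG : (z : G) = ((x : G) ^ 2 ^ a) ^ i := by rw [hz, SubgroupClass.coe_pow, pow_mul]
    have hzS : (z : G) ∈ stab M := by rw [hz, SubgroupClass.coe_pow]; exact pow_mem hxS _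
    have hzo : orderOf (z : G) = p := by rw [hzG, hpi]
    have hpow : ∀ (n : ℕ) (u : M.N), (u : G) ∈ stab M → N.eig (u ^ n) = N.eig u ^ n := by
      intro n u hu
      induction n with
      | zero => simp [Natural.eig]
      | succ n ih => rw [pow_succ, N.eig_mul hu, ih, pow_succ]
    have hzfix : N.eig (cj z hzS) = N.eig z := by
      have e : cj z hzS = cj x hxS ^ (2 ^ a * i) := Subtype.ext (by
        rw [SubgroupClass.coe_pow]
        show r₀ * (z : G) * r₀⁻¹ = (r₀ * x * r₀⁻¹) ^ (2 ^ a * i)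
        rw [conj_pow, hz, SubgroupClass.coe_pow])
      rw [e, hpow _ _ (hcj x hxS), hxfix, hz, hpow _ _ hxS]
    have hw : (z : G) * (r₀ * (z : G)⁻¹ * r₀⁻¹) ∈ M.T := by
      let w : M.N := z * (cj z hzS)⁻¹
      have hwS : (w : G) ∈ stab M := mul_mem hzS (inv_mem (hcj z hzS))
      have he : N.eig w = 1 := by
        rw [N.eig_mul (show (((cj z hzS)⁻¹ : M.N) : G) ∈ stab M from inv_mem (hcj z hzS)),
          N.eig_inv (hcj z hzS), hzfix, mul_inv_cancel₀ (N.eig_ne_zero hzS)]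
      have := (N.eig_one_iff hwS).1 he
      rw [show (z : G) * (r₀ * (z : G)⁻¹ * r₀⁻¹) = (w : G) by
        show _ = (z : G) * (r₀ * z * r₀⁻¹)⁻¹
        group]
      exact this
    have hmem : r₀⁻¹ * ((z : G) * r₀ * (z : G)⁻¹) ∈ M.T := by
      rw [show r₀⁻¹ * ((z : G) * r₀ * (z : G)⁻¹) =
        r₀⁻¹ * ((z : G) * (r₀ * (z : G)⁻¹ * r₀⁻¹)) * r₀ by group]
      exact (mem_normalizer_iff''.1 hr₀n _).1 hw
    obtain ⟨d, hd, hzd⟩ := exists_fixed_in_coset M.T_isPGroup hp hp2 hzo (Q.T_normal hzS) hmem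
    have h3 := h.eq_one_of_mem M.R₁.2 (mul_mem hr₀R (hTR hd)) (odd_orderOf_of_prime hp hp2 hzo)
      (fun e => hp.one_lt.ne' (by rw [← hzo, e, orderOf_one])) hzd
    exact hr₀T (by rw [eq_inv_of_mul_eq_one_left h3]; exact inv_mem hd)
  -- so the field has four elements
  have hq4 : Nat.card K = 4 := by
    refine le_antisymm ?_ (N.card_K ▸ hq)
    choose cf hcf hcfD hcf0 hcf1 using N.exists_fix
    let f : K → K := fun s => N.vec (r₀ * cf s * r₀⁻¹) 0
    have hR : ∀ c ∈ fixT M, r₀ * c * r₀⁻¹ ∈ fixT M := hswapC r₀ hr₀n hr₀N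
    have hadd : ∀ x y, f (x + y) = f x + f y := by
      intro x y
      have e : cf (x + y) = cf x * cf y := N.eq_of_vec_fix (hcf _) (hcfD _)
        (mul_mem (hcf x) (hcf y)) (mul_mem (hcfD x) (hcfD y))
        (by rw [hcf0, N.vec_mul _ (hcfD x) _ (hcfD y), Pi.add_apply, hcf0, hcf0])
      show N.vec (r₀ * cf (x + y) * r₀⁻¹) 0 = _
      rw [e, show r₀ * (cf x * cf y) * r₀⁻¹ = r₀ * cf x * r₀⁻¹ * (r₀ * cf y * r₀⁻¹) by group,
        N.vec_mul _ (hfixD _ (hR _ (hcf x))) _ (hfixD _ (hR _ (hcf y))), Pi.add_apply]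
    have hmul : ∀ c : K, c ≠ 0 → ∀ s, f (c * s) = c⁻¹ * f s := by
      intro c hc s
      obtain ⟨g, hg, rfl⟩ := N.exists_eig hc
      have hgc : (g : G) * cf s * (g : G)⁻¹ ∈ fixT M :=
        (mem_normalizer_iff.1 (L.normal_fixT hg) _).1 (hcf s)
      have e : cf (N.eig g * s) = (g : G) * cf s * (g : G)⁻¹ := N.eq_of_vec_fix (hcf _) (hcfD _)
        hgc (hfixD _ hgc) (by rw [hcf0, N.vec_conj_fix (hcfD s) (hcf s), hcf0])
      show N.vec (r₀ * cf (N.eig g * s) * r₀⁻¹) 0 = _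
      have e2 : N.eig (cj g hg) = (N.eig g)⁻¹ := eq_inv_of_mul_eq_one_left (hinvert g hg)
      rw [e, ← e2, show r₀ * ((g : G) * cf s * (g : G)⁻¹) * r₀⁻¹ =
        ((cj g hg : M.N) : G) * (r₀ * cf s * r₀⁻¹) * ((cj g hg : M.N) : G)⁻¹ by
          show _ = r₀ * g * r₀⁻¹ * (r₀ * cf s * r₀⁻¹) * (r₀ * g * r₀⁻¹)⁻¹
          group,
        N.vec_conj_fix (hfixD _ (hR _ (hcf s))) (hR _ (hcf s))]
    have hf1 : f 1 ≠ 0 := by
      intro e
      have h1 : r₀ * cf 1 * r₀⁻¹ = 1 := by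
        refine N.eq_one_of_vec (hfixD _ (hR _ (hcf 1))) (funext fun i => ?_)
        fin_cases i
        · exact e
        · exact (N.mem_fix _ (hfixD _ (hR _ (hcf 1)))).1 (hR _ (hcf 1))
      rw [conj_eq_one_iff] at h1
      have := hcf0 1
      rw [h1, N.vec_one] at this
      exact one_ne_zero this.symm
    have hf : ∀ s, f s = s⁻¹ * f 1 := by
      intro s
      rcases eq_or_ne s 0 with rfl | hs
      · have := hadd 0 0
        simpa using this
      · simpa using hmul s hs 1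
    refine card_le_four N.two id (fun _ _ => rfl) Function.injective_id rfl fun x y => ?_
    have := hadd x y
    rw [hf, hf x, hf y, ← add_mul] at this
    exact mul_right_cancel₀ hf1 this
  -- an involution outside `T`
  have hT2 : IsPGroup 2 M.T := M.T_isPGroup
  obtain ⟨g₃, hg₃S, hg₃o⟩ : ∃ g ∈ stab M, orderOf g = 3 := by
    obtain ⟨g, hg⟩ := exists_prime_orderOf_dvd_card' (G := stab M) 3
      (by rw [L.card_stab, ← N.card_K, hq4]; exact dvd_mul_right 3 _)
    exact ⟨g, g.2, by rw [Subgroup.orderOf_coe, hg]⟩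
  let g₃' : M.N := ⟨g₃, hg₃S.1⟩
  have hay : r₀ * g₃ * r₀⁻¹ * g₃ ∈ M.T := by
    have h1 : N.eig (cj g₃' hg₃S * g₃') = 1 := by rw [N.eig_mul (show ((g₃' : M.N) : G) ∈ stab M from hg₃S), hinvert g₃' hg₃S]
    exact (N.eig_one_iff (show ((cj g₃' hg₃S * g₃' : M.N) : G) ∈ stab M from
      mul_mem (hcj g₃' hg₃S) hg₃S)).1 h1
  obtain ⟨e₀, he₀, hr2, -⟩ := h.exists_inverting hT2 Nat.prime_three (by norm_num) hg₃o
    (Q.T_normal hg₃S) hr₀n hr₀2 hay
  set r := r₀ * e₀ with hr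
  have hrR : r ∈ (M.R₁ : Subgroup G) := mul_mem hr₀R (hTR he₀)
  have hrT : r ∉ M.T := fun e => hr₀T (by simpa [hr] using mul_mem e (inv_mem he₀))
  have hrn : r ∈ normalizer (M.T : Set G) := mul_mem hr₀n (le_normalizer he₀)
  have hrN := hout r hrR hrT
  have hro : orderOf r = 2 := orderOf_two_of_mul_self hr2 fun e => hrT (e ▸ one_mem _)
  have hri : r⁻¹ = r := inv_eq_of_mul_eq_one_right hr2
  obtain ⟨hrD, hrA⟩ := swap_conj S hrn hrN
  have hqC : Nat.card (fixT M) = 4 := by rw [← N.card_K, hq4]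
  have hD16 : Nat.card M.D = 16 := by rw [S.card_D, hqC]
  -- the fixed point of `r` on the fixed points of `T`
  obtain ⟨v, hv, hvF⟩ : ∃ v ∈ M.D, v ∉ fixT M := by
    by_contra hall
    push Not at hall
    have := card_le_of_le (show M.D ≤ fixT M from hall)
    omega
  set v' := r * v * r⁻¹ with hv'
  have hv'A : v' ∈ A := hrD v hv
  have hv'D : v' ∉ M.D := fun e => by
    have h1 : v' ∈ fixT M := by rw [← S.inf_eq]; exact ⟨hv'A, e⟩
    refine hvF ?_
    have := hswapC r hrn hrN v' h1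
    rwa [hv', show r * (r * v * r⁻¹) * r⁻¹ = (r * r) * v * (r * r)⁻¹ by group, hr2, one_mul, inv_one,
      mul_one] at this
  have hv'2 : v' * v' = 1 := S.sq v' hv'A
  have hv2 : v * v = 1 := S.sq_D v hv
  have hzero : v * (v' * v * v'⁻¹) ∈ fixT M :=
    L.quad v' (S.le_T hv'A) v (by rw [N.omega_eq]; exact hv)
  have hv'i : v'⁻¹ = v' := inv_eq_of_mul_eq_one_right hv'2
  set z := v * v' * (v * v') with hz
  have hzF : z ∈ fixT M := by
    have e : z = v * (v' * v * v'⁻¹) := by rw [hz, hv'i]; simp only [mul_assoc]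
    rw [e]; exact hzero
  have hz1 : z ≠ 1 := by
    intro e
    refine hvF (S.commute_mem v hv v' hv'A hv'D ?_)
    show v * v' = v' * v
    calc v * v' = (v * v')⁻¹ := (inv_eq_of_mul_eq_one_right e).symm
      _ = v' * v := by rw [mul_inv_rev, hv'i, inv_eq_of_mul_eq_one_right hv2]
  have hv'v : r * v' * r⁻¹ = v := by
    rw [hv', show r * (r * v * r⁻¹) * r⁻¹ = (r * r) * v * (r * r)⁻¹ by group, hr2, one_mul, inv_one,
      mul_one]
  have hzinv : z⁻¹ = z := inv_eq_of_mul_eq_one_right (S.sq_D z (hfixD z hzF))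
  have hrz : r * z * r⁻¹ = z := by
    calc r * z * r⁻¹ = (r * v * r⁻¹) * (r * v' * r⁻¹) * ((r * v * r⁻¹) * (r * v' * r⁻¹)) := by
          rw [hz]; group
      _ = v' * v * (v' * v) := by rw [← hv', hv'v]
      _ = (v * v' * (v * v'))⁻¹ := by
          simp only [mul_inv_rev, hv'i, inv_eq_of_mul_eq_one_right hv2]
      _ = z := by rw [← hz, hzinv]
  choose cf hcf hcfD hcf0 hcf1 using N.exists_fix
  have huniq : ∀ c ∈ fixT M, r * c * r⁻¹ = c → c = 1 ∨ c = z := by
    intro c hc hrc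
    -- at most one nontrivial fixed point: otherwise `r` centralises all fixed points of `T`
    by_contra hne'
    push Not at hne'
    set F := fixT M ⊓ centralizer ({r} : Set G) with hF
    have hmemF : ∀ x ∈ fixT M, r * x * r⁻¹ = x → x ∈ F := fun x hx e =>
      ⟨hx, mem_centralizer_singleton_iff.2 (mul_inv_eq_iff_eq_mul.1 e).symm⟩
    have hcz : c * z ≠ 1 := fun e => hne'.2 (by rw [eq_inv_of_mul_eq_one_left e, hzinv])
    have h3 : 3 ≤ Nat.card F := by
      have hinj : Function.Injective (![(⟨1, one_mem F⟩ : F), ⟨c, hmemF c hc hrc⟩,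
          ⟨z, hmemF z hzF hrz⟩]) := by
        intro i j hij
        have := congrArg (fun u : F => (u : G)) hij
        fin_cases i <;> fin_cases j <;> first
          | rfl
          | exact absurd this hne'.1 | exact absurd this.symm hne'.1
          | exact absurd this hz1 | exact absurd this.symm hz1
          | exact absurd this hne'.2 | exact absurd this.symm hne'.2
      have := Nat.card_le_card_of_injective _ hinj
      rwa [Nat.card_fin] at this
    have hall : fixT M ≤ centralizer ({r} : Set G) := by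
      have hdvd : Nat.card F ∣ 4 := hqC ▸ card_dvd_of_le inf_le_left
      have : Nat.card F = 4 := by
        have := Nat.le_of_dvd (by norm_num) hdvd
        interval_cases hk : Nat.card F
        · omega
        · rfl
      exact inf_eq_left.1 (eq_of_le_of_card_ge inf_le_left (by rw [hqC, this]))
    -- but `r` inverts an element of order three acting on them
    obtain ⟨w, hw⟩ := fixT M |>.bot_or_exists_ne_one.resolve_left (fun e => by
      rw [e, card_bot] at hqC; omega)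
    have hrc' : ∀ x ∈ fixT M, r * x * r⁻¹ = x := fun x hx => by
      rw [← mem_centralizer_singleton_iff.1 (hall hx), mul_inv_cancel_right]
    have hgw : g₃ * w * g₃⁻¹ ∈ fixT M := (mem_normalizer_iff.1 (L.normal_fixT hg₃S) w).1 hw.1
    have hgi : r * g₃ * r⁻¹ * g₃ ∈ M.T := by
      have e1 : r * g₃ * r⁻¹ * g₃ =
          r₀ * (e₀ * g₃ * e₀⁻¹ * g₃⁻¹) * r₀⁻¹ * (r₀ * g₃ * r₀⁻¹ * g₃) := by rw [hr]; group
      rw [e1]
      refine mul_mem ((mem_normalizer_iff.1 hr₀n _).1 ?_) hay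
      rw [show e₀ * g₃ * e₀⁻¹ * g₃⁻¹ = e₀ * (g₃ * e₀⁻¹ * g₃⁻¹) by group]
      exact mul_mem he₀ ((mem_normalizer_iff.1 (Q.T_normal hg₃S) _).1 (inv_mem he₀))
    -- so `g₃²` centralises `w`
    have h4 : Commute (g₃ * g₃) w := by
      set t := r * g₃ * r⁻¹ * g₃ with ht
      have ht' : Commute t w := (mem_centralizer_iff.1 hw.1.2 t hgi)
      have e2 : g₃ * w * g₃⁻¹ = g₃⁻¹ * w * g₃ := by
        calc g₃ * w * g₃⁻¹ = r * (g₃ * w * g₃⁻¹) * r⁻¹ := (hrc' _ hgw).symm
          _ = (r * g₃ * r⁻¹) * (r * w * r⁻¹) * (r * g₃ * r⁻¹)⁻¹ := by group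
          _ = t * (g₃⁻¹ * w * g₃) * t⁻¹ := by rw [hrc' w hw.1, ht]; group
          _ = g₃⁻¹ * w * g₃ := by
            have hgw' : g₃⁻¹ * w * g₃ ∈ fixT M :=
              (mem_normalizer_iff''.1 (L.normal_fixT hg₃S) w).1 hw.1
            rw [mem_centralizer_iff.1 hgw'.2 t hgi, mul_inv_cancel_right]
      show g₃ * g₃ * w = w * (g₃ * g₃)
      calc g₃ * g₃ * w = g₃ * (g₃ * w * g₃⁻¹) * g₃ := by group
        _ = g₃ * (g₃⁻¹ * w * g₃) * g₃ := by rw [e2]
        _ = w * (g₃ * g₃) := by group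
    have h5 := L.centralizer_fix w hw.1 hw.2 _ (mul_mem hg₃S hg₃S) h4
    have h6 : g₃ * g₃ * (g₃ * g₃) = g₃ := by
      rw [show g₃ * g₃ * (g₃ * g₃) = g₃ ^ 3 * g₃ by simp only [pow_succ, pow_zero, one_mul, mul_assoc], ← hg₃o, pow_orderOf_eq_one, one_mul]
    obtain ⟨k, hk⟩ := exists_orderOf_eq_two_pow hT2 (h6 ▸ mul_mem h5 h5 : g₃ ∈ M.T)
    rw [hg₃o] at hk
    rcases Nat.eq_zero_or_pos k with rfl | hk0
    · simp at hk
    · have := dvd_pow_self 2 hk0.ne'
      omega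
  -- the two-group containing `T` and `r`
  have hP₁ : IsPGroup 2 ↥(zpowers r ⊔ M.T) :=
    M.R₁.2.to_le (sup_le (zpowers_le.2 hrR) hTR)
  set P₁ := zpowers r ⊔ M.T with hP₁def
  have hmemP₁ : ∀ x ∈ P₁, x ∈ M.T ∨ r * x ∈ M.T := by
    intro x hx
    obtain ⟨y, hy, t, ht, rfl⟩ : x ∈ ((zpowers r : Set G) * (M.T : Set G) : Set G) := by
      rw [← Subgroup.coe_mul_of_left_le_normalizer_right (zpowers r) M.T (zpowers_le.2 hrn)]
      exact hx
    obtain ⟨i, rfl⟩ := hy
    rcases Int.even_or_odd i with ⟨j, rfl⟩ | ⟨j, rfl⟩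
    · left
      show r ^ (j + j) * t ∈ M.T
      rw [zpow_add, ← (Commute.refl r).mul_zpow, hr2, one_zpow, one_mul]
      exact ht
    · right
      show r * (r ^ (2 * j + 1) * t) ∈ M.T
      rw [zpow_add_one, two_mul, zpow_add, ← (Commute.refl r).mul_zpow, hr2, one_zpow, one_mul,
        ← mul_assoc, hr2, one_mul]
      exact ht
  have hsmall : ∀ E : Subgroup G, E ≤ P₁ → (∀ e ∈ E, e * e = 1) → Nat.card E = 16 → E ≤ M.T := by
    intro E hE hE2 hE16
    by_contra hET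
    obtain ⟨e, he, heT⟩ := SetLike.not_le_iff_exists.1 hET
    have hre : r * e ∈ M.T := (hmemP₁ e (hE he)).resolve_left heT
    have hle : Nat.card E ≤ 2 * Nat.card ↥(fixT M ⊓ centralizer ({r} : Set G)) := by
      refine CfsgLib.EPPOSeven.card_le_two_mul e fun x hx => ?_
      have key : ∀ y ∈ E, y ∈ M.T → y ∈ fixT M ⊓ centralizer ({r} : Set G) := by
        intro y hy hyT
        have hye : e * y * e⁻¹ = y := by
          rw [comm_of_sq hE2 he hy, mul_inv_cancel_right]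
        have e3 : e = r * (r * e) := by rw [← mul_assoc, hr2, one_mul]
        have hyC : y ∈ fixT M := by
          rw [← S.inf_eq]
          have hen : ∀ w, w ∈ M.T → (w ∈ M.D → e * w * e⁻¹ ∈ A) ∧ (w ∈ A → e * w * e⁻¹ ∈ M.D) := by
            intro w _
            constructor <;> intro hw
            · rw [e3, show r * (r * e) * w * (r * (r * e))⁻¹ = r * ((r * e) * w * (r * e)⁻¹) * r⁻¹ by group]
              exact hrD _ ((mem_normalizer_iff.1 (hTN hre) w).1 hw)
            · rw [e3, show r * (r * e) * w * (r * (r * e))⁻¹ = r * ((r * e) * w * (r * e)⁻¹) * r⁻¹ by group]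
              exact hrA _ ((mem_normalizer_iff.1 (S.normal hre) w).1 hw)
          rcases S.invol y hyT (hE2 y hy) with hyD | hyA
          · exact ⟨hye ▸ (hen y hyT).1 hyD, hyD⟩
          · exact ⟨hyA, hye ▸ (hen y hyT).2 hyA⟩
        refine ⟨hyC, mem_centralizer_singleton_iff.2 (mul_inv_eq_iff_eq_mul.1 ?_).symm⟩
        have hte : r * e * y * (r * e)⁻¹ = y := by
          rw [mem_centralizer_iff.1 hyC.2 _ hre, mul_inv_cancel_right]
        calc r * y * r⁻¹ = r * (r * e * y * (r * e)⁻¹) * r⁻¹ := by rw [hte]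
          _ = (r * r) * (e * y * e⁻¹) * (r * r)⁻¹ := by group
          _ = y := by rw [hr2, hye, one_mul, inv_one, mul_one]
      rcases hmemP₁ x (hE hx) with h1 | h1
      · exact Or.inl (key x hx h1)
      · refine Or.inr (key _ (mul_mem he hx) ?_)
        rw [show e * x = (r * (r * e) * r⁻¹) * ((r * r) * (r * x)) * (r * r)⁻¹ * 1 from ?_]
        · rw [hr2, one_mul, inv_one, mul_one, mul_one]
          exact mul_mem ((mem_normalizer_iff.1 hrn _).1 hre) h1
        · rw [mul_one, hr2, one_mul, inv_one, mul_one, hri]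
          calc e * x = (r * r) * e * (r * r) * x := by rw [hr2, one_mul, mul_one]
            _ = r * (r * e) * r * (r * x) := by group
    have hfix2 : Nat.card ↥(fixT M ⊓ centralizer ({r} : Set G)) ≤ 2 := by
      refine (Nat.card_le_card_of_injective (β := Bool)
        (fun x : ↥(fixT M ⊓ centralizer ({r} : Set G)) => decide ((x : G) = 1)) ?_).trans
        (by rw [Nat.card_eq_fintype_card]; rfl)
      intro x y hxy
      have hx := huniq x x.2.1 (by rw [← mem_centralizer_singleton_iff.1 x.2.2, mul_inv_cancel_right])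
      have hy := huniq y y.2.1 (by rw [← mem_centralizer_singleton_iff.1 y.2.2, mul_inv_cancel_right])
      rcases hx with hx | hx <;> rcases hy with hy | hy
      · exact Subtype.ext (hx.trans hy.symm)
      · simp [hx, hy, hz1] at hxy
      · simp [hx, hy, hz1] at hxy
      · exact Subtype.ext (hx.trans hy.symm)
    omega
  have hA16 : Nat.card A = 16 := by rw [S.card_eq, hD16]
  have hmaxP : ∀ P : Subgroup G, IsPGroup 2 P → P₁ ≤ P → P = P₁ := by
    intro P hP hle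
    by_contra hne'
    obtain ⟨y, hy, hyP, hyn⟩ := CfsgLib.EPPOSeven.exists_normalizing_notMem hP hle (Ne.symm hne')
    have hTP : M.T ≤ P₁ := le_sup_right
    have himg : ∀ X : Subgroup G, X ≤ M.T → (∀ x ∈ X, x * x = 1) → Nat.card X = 16 →
        X.map (MulAut.conj y).toMonoidHom ≤ M.T := fun X hX hX2 hX16 => hsmall _
      (by rintro _ ⟨x, hx, rfl⟩; exact (mem_normalizer_iff.1 hyn x).1 (hTP (hX hx)))
      (by rintro _ ⟨x, hx, rfl⟩; rw [← map_mul, hX2 x hx, map_one])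
      (by rw [card_map_of_injective (MulAut.conj y).injective, hX16])
    have hyT : y ∈ normalizer (M.T : Set G) := by
      refine mem_normalizer_of_conj_mem ?_
      have hle' : M.T.map (MulAut.conj y).toMonoidHom ≤ M.T := by
        calc M.T.map (MulAut.conj y).toMonoidHom = (A ⊔ M.D).map (MulAut.conj y).toMonoidHom := by
              rw [S.sup_eq]
          _ ≤ M.T := by
              rw [Subgroup.map_sup]
              exact sup_le (himg A S.le_T S.sq hA16) (himg M.D M.D_le_T S.sq_D hD16)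
      exact fun x hx => hle' ⟨x, hx, rfl⟩
    have hPN : ∀ w ∈ P, w ∈ M.N → w ∈ M.T := by
      intro w hw hwN
      have := M.max₁ (P ⊓ M.N) (hP.to_le inf_le_left) inf_le_right
        (le_inf (hTP.trans hle) hTN)
      exact this.le ⟨hw, hwN⟩
    by_cases hyN : y ∈ M.N
    · exact hyP (hTP (hPN y hy hyN))
    · obtain ⟨h1, -⟩ := swap_conj S hyT hyN
      have hryN : r * y ∈ M.N := mem_normalizer_of_conj_mem fun d hd => by
        rw [show r * y * d * (r * y)⁻¹ = r * (y * d * y⁻¹) * r⁻¹ by group]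
        exact hrA _ (h1 d hd)
      have hrP₁ : r ∈ P₁ := mem_sup_left (mem_zpowers r)
      have := mul_mem (inv_mem hrP₁) (hTP (hPN _ (mul_mem (hle hrP₁) hy) hryN))
      rw [inv_mul_cancel_left] at this
      exact hyP this
  have hR₁ : (M.R₁ : Subgroup G) = P₁ := hmaxP _ M.R₁.2 (sup_le (zpowers_le.2 hrR) hTR)
  -- the centraliser of `z`
  have hzo : orderOf z = 2 := orderOf_two_of_mul_self (S.sq_D z (hfixD z hzF)) hz1
  have hCz : centralizer ({z} : Set G) = P₁ := by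
    refine hmaxP _ (h z hzo) (sup_le (zpowers_le.2 ?_) fun t ht => ?_)
    · exact mem_centralizer_singleton_iff.2 (mul_inv_eq_iff_eq_mul.1 hrz)
    · exact mem_centralizer_singleton_iff.2 (mem_centralizer_iff.1 hzF.2 t ht)
  -- `r` is conjugate into `T`
  have hindex : M.T.index % 4 = 2 := by
    have hle : M.T ≤ P₁ := le_sup_right
    have hrel : M.T.relIndex P₁ = 2 := by
      refine Subgroup.index_eq_two_iff.2 ⟨⟨r, mem_sup_left (mem_zpowers r)⟩, fun x => ?_⟩
      show Xor' ((x : G) * r ∈ M.T) ((x : G) ∈ M.T)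
      rcases hmemP₁ x x.2 with h1 | h1
      · exact Or.inr ⟨h1, fun h2 => hrT (by simpa using mul_mem (inv_mem h1) h2)⟩
      · refine Or.inl ⟨?_, fun h2 => hrT (by simpa using mul_mem h1 (inv_mem h2))⟩
        have := (mem_normalizer_iff.1 hrn _).1 h1
        rwa [hri, show r * (r * (x : G)) = (r * r) * x from (mul_assoc _ _ _).symm, hr2, one_mul] at this
    have hodd : Odd P₁.index := by
      rw [← hR₁]
      exact Nat.not_even_iff_odd.1 fun he => M.R₁.not_dvd_index (even_iff_two_dvd.1 he)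
    rw [← relIndex_mul_index hle, hrel]
    obtain ⟨k, hk⟩ := hodd
    omega
  have hno : ∀ H : Subgroup G, H.index ≠ 2 :=
    CfsgLib.EPPOSeven.no_index_two (fun hc => by
      obtain ⟨a, b, hab⟩ := hna; exact hab (hc.is_comm.comm a b))
  obtain ⟨g₀, hg₀⟩ := CfsgLib.Small.thompson_transfer hno M.T hro hindex
  -- every involution of `T` is conjugate to `z`
  have hTconj : ∀ t ∈ M.T, orderOf t = 2 → ∃ g, g * z * g⁻¹ = t := by
    intro t ht hto
    have ht1 : t ≠ 1 := CfsgLib.Small.ne_one_of_orderOf_two hto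
    rcases S.invol t ht (CfsgLib.Small.mul_self_of_orderOf_two hto) with h1 | h1
    · obtain ⟨g, -, hg⟩ := N.exists_conj (hfixD z hzF) hz1 h1 ht1
      exact ⟨g, hg⟩
    · obtain ⟨g, -, hg⟩ := N.exists_conj (hfixD z hzF) hz1 (hrA t h1)
        (fun e => ht1 (conj_eq_one_iff.1 e))
      exact ⟨r⁻¹ * g, by rw [show r⁻¹ * g * z * (r⁻¹ * g)⁻¹ = r⁻¹ * (g * z * g⁻¹) * r by group, hg]; group⟩
  obtain ⟨g₁, hg₁⟩ := hTconj _ hg₀ (by
    simpa using (CfsgLib.Small.orderOf_conj_eq g₀⁻¹ r).trans hro)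
  set g := g₀ * g₁ with hgdef
  have hgz : g * z * g⁻¹ = r := by
    rw [hgdef, show g₀ * g₁ * z * (g₀ * g₁)⁻¹ = g₀ * (g₁ * z * g₁⁻¹) * g₀⁻¹ by group, hg₁]
    group
  -- an element of `C(r)` squaring to `z`
  obtain ⟨c, hc, hcz⟩ : ∃ c ∈ fixT M, c * (r * c * r⁻¹) = z := by
    obtain ⟨c, hc, hcr⟩ : ∃ c ∈ fixT M, r * c * r⁻¹ ≠ c := by
      by_contra hall
      push Not at hall
      have hsub : (fixT M : Set G) ⊆ ({1, z} : Set G) := fun x hx => by
        rcases huniq x hx (hall x hx) with e | e <;> simp [e]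
      have h4 : Set.ncard (fixT M : Set G) = 4 := by rw [← Nat.card_coe_set_eq]; exact hqC
      have := Set.ncard_le_ncard hsub (Set.toFinite _)
      rw [h4] at this
      have h2 : Set.ncard ({1, z} : Set G) ≤ 2 := (Set.ncard_insert_le _ _).trans (by simp)
      omega
    refine ⟨c, hc, (huniq _ (mul_mem hc (hswapC r hrn hrN c hc)) ?_).resolve_left fun e => hcr ?_⟩
    · have hrcD := hfixD _ (hswapC r hrn hrN c hc)
      rw [show r * (c * (r * c * r⁻¹)) * r⁻¹ = r * c * r⁻¹ * ((r * r) * c * (r * r)⁻¹) by group, hr2,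
        one_mul, inv_one, mul_one, comm_of_sq S.sq_D hrcD (hfixD c hc)]
    · rw [eq_inv_of_mul_eq_one_right e, inv_eq_of_mul_eq_one_right (S.sq_D c (hfixD c hc))]
  set t := v * v' * c with ht
  have hctr : ∀ w ∈ M.T, Commute w c := fun w hw => mem_centralizer_iff.1 hc.2 w hw
  have htT : t ∈ M.T := mul_mem (mul_mem (M.D_le_T hv) (S.le_T hv'A)) (M.D_le_T (hfixD c hc))
  have htt : t * t = z := by
    rw [ht, show v * v' * c * (v * v' * c) = v * v' * (c * (v * v')) * c by group,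
      ← (hctr _ (mul_mem (M.D_le_T hv) (S.le_T hv'A))).eq, ← mul_assoc, mul_assoc _ c c,
      S.sq_D c (hfixD c hc), mul_one, hz]
  have hrt : r * t * r⁻¹ = t := by
    have hcc : c * c = 1 := S.sq_D c (hfixD c hc)
    have hrc : r * c * r⁻¹ = c * z := by rw [← hcz, ← mul_assoc, hcc, one_mul]
    have hvv : v' * v * z = v * v' := by
      rw [hz]
      calc v' * v * (v * v' * (v * v')) = v' * (v * v) * v' * (v * v') := by group
        _ = v * v' := by rw [hv2, mul_one, hv'2, one_mul]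
    calc r * t * r⁻¹ = (r * v * r⁻¹) * (r * v' * r⁻¹) * (r * c * r⁻¹) := by rw [ht]; group
      _ = v' * v * (z * c) := by
          rw [← hv', hv'v, hrc, comm_of_sq S.sq_D (hfixD c hc) (hfixD z hzF)]
      _ = t := by rw [← mul_assoc, hvv]
  have hgt : g⁻¹ * t * g ∈ P₁ := by
    rw [← hCz]
    refine mem_centralizer_singleton_iff.2 ?_
    have h1 : r * t = t * r := mul_inv_eq_iff_eq_mul.1 hrt
    calc g⁻¹ * t * g * z = g⁻¹ * (t * (g * z * g⁻¹)) * g := by group
      _ = g⁻¹ * (r * t) * g := by rw [hgz, h1]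
      _ = g⁻¹ * (g * z * g⁻¹ * t) * g := by rw [hgz]
      _ = z * (g⁻¹ * t * g) := by group
  have hgzT : g⁻¹ * z * g ∈ M.T := by
    rw [← htt, show g⁻¹ * (t * t) * g = (g⁻¹ * t * g) * (g⁻¹ * t * g) by group]
    exact hsqT _ (hR₁.ge hgt) ((sup_le (zpowers_le.2 hrn) le_normalizer : P₁ ≤ _) hgt)
  obtain ⟨E, hEsq, hE16, hEz, hEgz⟩ : ∃ E : Subgroup G, (∀ e ∈ E, e * e = 1) ∧ Nat.card E = 16 ∧
      z ∈ E ∧ g⁻¹ * z * g ∈ E := by
    rcases S.invol _ hgzT (by
      rw [show g⁻¹ * z * g * (g⁻¹ * z * g) = g⁻¹ * (z * z) * g by group, S.sq_D z (hfixD z hzF)]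
      group) with h1 | h1
    · exact ⟨M.D, S.sq_D, hD16, hfixD z hzF, h1⟩
    · exact ⟨A, S.sq, hA16, (S.inf_eq.ge hzF).1, h1⟩
  set E' := E.map (MulAut.conj g).toMonoidHom with hE'
  have hE'sq : ∀ e ∈ E', e * e = 1 := by
    rintro _ ⟨x, hx, rfl⟩; rw [← map_mul, hEsq x hx, map_one]
  have hz' : z ∈ E' := ⟨g⁻¹ * z * g, hEgz, by simp [mul_assoc]⟩
  have hr' : r ∈ E' := ⟨z, hEz, hgz⟩
  refine hrT (hsmall E' (fun e he => ?_) hE'sq
    (by rw [card_map_of_injective (MulAut.conj g).injective, hE16]) hr')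
  rw [← hCz]
  exact mem_centralizer_singleton_iff.2 (comm_of_sq hE'sq he hz')

end CfsgLib.CITGroups
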